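import Cfsg.Agent.Lib.Components.Char

/-!
# The generalized Fitting subgroup

`C_G(F*(G)) ≤ F*(G)`, minimal normal subgroups, `F*` of subnormal subgroups.
-/

set_option linter.style.haveILetI false

open scoped Pointwise

namespace CfsgLib.Components

open Subgroup

variable {G : Type*} [Group G]

theorem layer_le_gFitting : Cfsg.layer G ≤ Cfsg.generalizedFittingSubgroup G := le_sup_left

theorem fitting_le_gFitting : Cfsg.fittingSubgroup G ≤ Cfsg.generalizedFittingSubgroup G :=
  le_sup_right

theorem component_le_gFitting {L : Subgroup G} (hL : Cfsg.IsComponent L) :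
    L ≤ Cfsg.generalizedFittingSubgroup G :=
  (le_layer hL).trans layer_le_gFitting

theorem gFitting_normal : (Cfsg.generalizedFittingSubgroup G).Normal :=
  haveI := layer_normal (G := G)
  haveI := fitting_normal (G := G)
  Subgroup.sup_normal _ _

theorem gFitting_map_equiv {H : Type*} [Group H] (e : G ≃* H) :
    (Cfsg.generalizedFittingSubgroup G).map e.toMonoidHom =
      Cfsg.generalizedFittingSubgroup H := by
  rw [Cfsg.generalizedFittingSubgroup, Subgroup.map_sup, layer_map_equiv, fitting_map_equiv,
    Cfsg.generalizedFittingSubgroup]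

theorem gFitting_characteristic : (Cfsg.generalizedFittingSubgroup G).Characteristic :=
  Subgroup.characteristic_iff_map_eq.mpr fun e => gFitting_map_equiv e

theorem centralizer_gFitting :
    Subgroup.centralizer (Cfsg.generalizedFittingSubgroup G : Set G) =
      Subgroup.centralizer (Cfsg.layer G : Set G) ⊓
        Subgroup.centralizer (Cfsg.fittingSubgroup G : Set G) := by
  ext x
  have hsup : ∀ A B : Subgroup G, x ∈ Subgroup.centralizer ((A ⊔ B : Subgroup G) : Set G) ↔
      x ∈ Subgroup.centralizer (A : Set G) ∧ x ∈ Subgroup.centralizer (B : Set G) := fun A B => by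
    simp only [← Subgroup.zpowers_le, ← commutator_eq_bot_iff_le_centralizer,
      commutator_sup_right_eq_bot]
  exact (hsup _ _).trans Subgroup.mem_inf.symm

/-- A non-solvable subnormal subgroup whose solvable subnormal subgroups are central in it
contains a component. -/
theorem exists_component_of_not_solvable [Finite G] {N : Subgroup G} (hN : N.IsSubnormal)
    (hns : ¬ Group.IsSolvable N)
    (hcen : ∀ A : Subgroup G, A ≤ N → A.IsSubnormal → Group.IsSolvable A → ⁅A, N⁆ = ⊥) :
    ∃ K : Subgroup G, K ≤ N ∧ Cfsg.IsComponent K := by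
  obtain ⟨K, ⟨⟨hKN, hKsn, hKns⟩, hmin⟩⟩ := Set.Finite.exists_minimal
    (s := {K : Subgroup G | K ≤ N ∧ K.IsSubnormal ∧ ¬ Group.IsSolvable K}) (Set.toFinite _)
    ⟨N, le_rfl, hN, hns⟩
  have hsmall : ∀ M : Subgroup K, M.Normal → M ≠ ⊤ → Group.IsSolvable M := by
    intro M hM hne
    by_contra hMs
    apply hne
    have hle : M.map K.subtype ≤ K := Subgroup.map_subtype_le M
    have := hmin ⟨hle.trans hKN, hM.isSubnormal.trans' hKsn, fun h => hMs (by
      haveI := h
      exact Group.isSolvable_of_surjective
        (f := (M.equivMapOfInjective _ K.subtype_injective).symm.toMonoidHom)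
        (MulEquiv.surjective _))⟩ hle
    rw [eq_top_iff]
    intro x _
    obtain ⟨y, hy, hyx⟩ := this x.2
    exact K.subtype_injective hyx ▸ hy
  haveI : Nontrivial K := by
    by_contra h
    rw [not_nontrivial_iff_subsingleton] at h
    exact hKns inferInstance
  haveI : Group.IsPerfect K := by
    refine Group.isPerfect_def.mpr (by_contra fun hne => hKns ?_)
    haveI := hsmall (commutator K) inferInstance hne
    exact (Group.isSolvable_iff_subgroup_quotient (commutator K)).mpr ⟨inferInstance,
      Group.isSolvable_of_comm fun a b => by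
        induction a using QuotientGroup.induction_on
        induction b using QuotientGroup.induction_on
        rw [← QuotientGroup.mk_mul, ← QuotientGroup.mk_mul, QuotientGroup.eq]
        rename_i a b
        have := Subgroup.commutator_mem_commutator (Subgroup.mem_top b⁻¹) (Subgroup.mem_top a⁻¹)
        rw [← commutator_def] at this
        simpa [commutatorElement_def, mul_assoc] using this⟩
  refine ⟨K, hKN, hKsn, isQuasisimple_of_normal_le_center fun M hM hne => ?_⟩
  intro x hx
  have hA : ⁅M.map K.subtype, N⁆ = ⊥ :=
    hcen _ ((Subgroup.map_subtype_le M).trans hKN) (hM.isSubnormal.trans' hKsn) (by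
      haveI := hsmall M hM hne
      exact Group.isSolvable_of_surjective
        (f := (M.equivMapOfInjective _ K.subtype_injective).toMonoidHom) (MulEquiv.surjective _))
  refine Subgroup.mem_center_iff.mpr fun y => Subtype.ext ?_
  exact Subgroup.mem_centralizer_iff.mp
    (commutator_eq_bot_iff_le_centralizer.mp hA (Subgroup.mem_map_of_mem K.subtype hx)) y
    (hKN y.2)

/-- `C_G(F*(G)) ≤ F*(G)`. -/
theorem centralizer_gFitting_le [Finite G] :
    Subgroup.centralizer (Cfsg.generalizedFittingSubgroup G : Set G) ≤
      Cfsg.generalizedFittingSubgroup G := by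
  set F := Cfsg.generalizedFittingSubgroup G with hF
  set C := Subgroup.centralizer (F : Set G) with hC
  haveI : F.Normal := gFitting_normal
  haveI : C.Normal := by rw [hC]; infer_instance
  have hZ : ⁅C ⊓ F, C⁆ = ⊥ := by
    rw [commutator_comm]
    exact le_bot_iff.mp ((commutator_mono le_rfl inf_le_right).trans
      (commutator_eq_bot_iff_le_centralizer.mpr le_rfl).le)
  -- solvable normal subgroups inside `C` lie in `F`
  have step : ∀ D : Subgroup G, D.Normal → D ≤ C → ⁅D, D⁆ ≤ F → D ≤ F := by
    intro D hD hDC hDF
    refine le_trans (le_fitting hD ?_) fitting_le_gFitting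
    refine Subgroup.isNilpotent_of_lowerCentralSeries_eq_bot (n := 2) ?_
    rw [Subgroup.lowerCentralSeries_succ, Subgroup.lowerCentralSeries_succ,
      Subgroup.lowerCentralSeries_zero]
    refine le_bot_iff.mp ((commutator_mono (le_inf ((Subgroup.commutator_le_self D).trans hDC) hDF)
      hDC).trans hZ.le)
  have hsolv : ∀ n : ℕ, ∀ D : Subgroup G, D.Normal → D ≤ C →
      (derivedSeries D n) = ⊥ → D ≤ F := by
    intro n
    induction n with
    | zero =>
      intro D _ _ h x hx
      have : (⟨x, hx⟩ : D) ∈ derivedSeries D 0 := by simp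
      rw [h, Subgroup.mem_bot] at this
      rw [show x = 1 from congrArg Subtype.val this]
      exact one_mem _
    | succ n ih =>
      intro D hD hDC h
      refine step D hD hDC (ih ⁅D, D⁆ inferInstance ((Subgroup.commutator_le_self D).trans hDC) ?_)
      have e : ∀ k, (derivedSeries ↥⁅D, D⁆ k).map (⁅D, D⁆).subtype =
          (derivedSeries D (k + 1)).map D.subtype := by
        intro k
        induction k with
        | zero =>
          rw [derivedSeries_zero, derivedSeries_one, ← MonoidHom.range_eq_map,
            Subgroup.range_subtype, Subgroup.map_subtype_commutator]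
        | succ k ihk =>
          rw [derivedSeries_succ, Subgroup.map_commutator, ihk, derivedSeries_succ (G := D) (k + 1),
            Subgroup.map_commutator]
      exact Subgroup.map_injective (⁅D, D⁆).subtype_injective
        (by rw [e, h, Subgroup.map_bot, Subgroup.map_bot])
  have hrad : ∀ A : Subgroup G, A ≤ C → A.IsSubnormal → Group.IsSolvable A → A ≤ F := by
    intro A hAC hA hAs
    haveI := solRadical_normal (G := G)
    have hle : A ≤ C ⊓ solRadical G :=
      le_inf hAC (subnormal_solvable_le_solRadical hA hAs)
    haveI : Group.IsSolvable ↥(C ⊓ solRadical G) := by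
      haveI := solRadical_isSolvable (G := G)
      exact Group.isSolvable_of_isSolvable_injective
        (f := Subgroup.inclusion (inf_le_right : C ⊓ solRadical G ≤ solRadical G))
        (Subgroup.inclusion_injective _)
    obtain ⟨n, hn⟩ := (inferInstance : Group.IsSolvable ↥(C ⊓ solRadical G)).solvable
    exact hle.trans (hsolv n _ inferInstance inf_le_left hn)
  by_contra hCF
  have hns : ¬ Group.IsSolvable C := fun h => hCF (hrad C le_rfl (Subgroup.Normal.isSubnormal
    inferInstance) h)
  obtain ⟨K, hKC, hK⟩ := exists_component_of_not_solvable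
    (Subgroup.Normal.isSubnormal inferInstance) hns
    (fun A hAC hA hAs => le_bot_iff.mp
      ((commutator_mono (le_inf hAC (hrad A hAC hA hAs)) le_rfl).trans hZ.le))
  apply IsQuasisimple.commutator_self_ne_bot hK.2
  exact le_bot_iff.mp ((commutator_mono (le_inf hKC (component_le_gFitting hK)) hKC).trans hZ.le)

/-- The centralizer of the Fitting subgroup in a finite group without components. -/
theorem centralizer_fitting_le_of_layer_eq_bot [Finite G] (h : Cfsg.layer G = ⊥) :
    Subgroup.centralizer (Cfsg.fittingSubgroup G : Set G) ≤ Cfsg.fittingSubgroup G := by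
  have := centralizer_gFitting_le (G := G)
  rwa [Cfsg.generalizedFittingSubgroup, h, bot_sup_eq] at this

theorem gFitting_eq_fitting_of_isSolvable [Group.IsSolvable G] :
    Cfsg.generalizedFittingSubgroup G = Cfsg.fittingSubgroup G := by
  rw [Cfsg.generalizedFittingSubgroup, layer_eq_bot_of_isSolvable, bot_sup_eq]

theorem centralizer_fitting_le_of_isSolvable [Finite G] [Group.IsSolvable G] :
    Subgroup.centralizer (Cfsg.fittingSubgroup G : Set G) ≤ Cfsg.fittingSubgroup G :=
  centralizer_fitting_le_of_layer_eq_bot layer_eq_bot_of_isSolvable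

theorem gFitting_eq_fitting_iff [Finite G] :
    Cfsg.generalizedFittingSubgroup G = Cfsg.fittingSubgroup G ↔ Cfsg.layer G = ⊥ := by
  refine ⟨fun h => ?_, fun h => by rw [Cfsg.generalizedFittingSubgroup, h, bot_sup_eq]⟩
  have hle : Cfsg.layer G ≤ Cfsg.fittingSubgroup G := h ▸ layer_le_gFitting
  rw [← layer_perfect]
  exact le_bot_iff.mp ((commutator_mono le_rfl hle).trans layer_commutes_fitting.le)

theorem gFitting_ne_bot [Finite G] [Nontrivial G] : Cfsg.generalizedFittingSubgroup G ≠ ⊥ := by
  intro h
  have h2 := centralizer_gFitting_le (G := G)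
  rw [h, Subgroup.coe_bot] at h2
  obtain ⟨x, hx⟩ := exists_ne (1 : G)
  exact hx (Subgroup.mem_bot.mp (h2 (by simp [Subgroup.mem_centralizer_iff])))

/-- A solvable subnormal subgroup centralizing the Fitting subgroup lies in it. -/
theorem solvable_subnormal_le_fitting_of_centralizes [Finite G] {A : Subgroup G}
    (hA : A.IsSubnormal) (hs : Group.IsSolvable A)
    (hle : A ≤ Subgroup.centralizer (Cfsg.fittingSubgroup G : Set G)) :
    A ≤ Cfsg.fittingSubgroup G := by
  set F := Cfsg.fittingSubgroup G with hF
  set C := Subgroup.centralizer (F : Set G) with hC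
  haveI : F.Normal := fitting_normal
  haveI : C.Normal := by rw [hC]; infer_instance
  have hsolv : ∀ n : ℕ, ∀ D : Subgroup G, D.Normal → D ≤ C → derivedSeries D n = ⊥ → D ≤ F := by
    intro n
    induction n with
    | zero =>
      intro D _ _ h x hx
      have : (⟨x, hx⟩ : D) ∈ derivedSeries D 0 := by simp
      rw [h, Subgroup.mem_bot] at this
      rw [show x = 1 from congrArg Subtype.val this]
      exact one_mem _
    | succ n ih =>
      intro D hD hDC h
      refine le_fitting hD (Subgroup.isNilpotent_of_lowerCentralSeries_eq_bot (n := 2) ?_)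
      rw [Subgroup.lowerCentralSeries_succ, Subgroup.lowerCentralSeries_succ,
        Subgroup.lowerCentralSeries_zero]
      have hDD : ⁅D, D⁆ ≤ F := by
        refine ih ⁅D, D⁆ inferInstance ((Subgroup.commutator_le_self D).trans hDC) ?_
        have e : ∀ k, (derivedSeries ↥⁅D, D⁆ k).map (⁅D, D⁆).subtype =
            (derivedSeries D (k + 1)).map D.subtype := by
          intro k
          induction k with
          | zero =>
            rw [derivedSeries_zero, derivedSeries_one, ← MonoidHom.range_eq_map,
              Subgroup.range_subtype, Subgroup.map_subtype_commutator]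
          | succ k ihk =>
            rw [derivedSeries_succ, Subgroup.map_commutator, ihk,
              derivedSeries_succ (G := D) (k + 1), Subgroup.map_commutator]
        exact Subgroup.map_injective (⁅D, D⁆).subtype_injective
          (by rw [e, h, Subgroup.map_bot, Subgroup.map_bot])
      refine le_bot_iff.mp ((commutator_mono hDD hDC).trans (le_of_eq ?_))
      rw [commutator_comm]
      exact commutator_eq_bot_iff_le_centralizer.mpr le_rfl
  haveI := solRadical_normal (G := G)
  haveI : Group.IsSolvable ↥(C ⊓ solRadical G) := by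
    haveI := solRadical_isSolvable (G := G)
    exact Group.isSolvable_of_isSolvable_injective
      (f := Subgroup.inclusion (inf_le_right : C ⊓ solRadical G ≤ solRadical G))
      (Subgroup.inclusion_injective _)
  obtain ⟨n, hn⟩ := (inferInstance : Group.IsSolvable ↥(C ⊓ solRadical G)).solvable
  exact (le_inf hle (subnormal_solvable_le_solRadical hA hs)).trans
    (hsolv n _ inferInstance inf_le_left hn)

/-! ### Minimal normal subgroups -/

theorem minimal_normal_abelian_or_perfect {M : Subgroup G} (hMn : M.Normal)
    (hmin : ∀ K : Subgroup G, K.Normal → K ≤ M → K = ⊥ ∨ K = M) :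
    ⁅M, M⁆ = ⊥ ∨ ⁅M, M⁆ = M :=
  hmin _ inferInstance (Subgroup.commutator_le_self M)

/-- A non-abelian minimal normal subgroup is the join of the components it contains, and these are
simple. -/
theorem minimal_normal_eq_sSup_components [Finite G] {M : Subgroup G} (hMn : M.Normal)
    (hmin : ∀ K : Subgroup G, K.Normal → K ≤ M → K = ⊥ ∨ K = M) (hna : ⁅M, M⁆ ≠ ⊥) :
    M = sSup {L : Subgroup G | Cfsg.IsComponent L ∧ L ≤ M} ∧
      ∀ L : Subgroup G, Cfsg.IsComponent L → L ≤ M →
        IsSimpleGroup L ∧ ¬ IsMulCommutative L := by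
  have hperf := (minimal_normal_abelian_or_perfect hMn hmin).resolve_left hna
  have hMns : ¬ Group.IsSolvable M := fun h => by
    haveI := h
    have hne : M ≠ ⊥ := fun h0 => hna (by rw [h0, commutator_bot_left])
    haveI : Group.IsPerfect M := Subgroup.isPerfect_iff.mpr hperf
    haveI := M.nontrivial_iff_ne_bot.mpr hne
    exact Group.IsPerfect.not_isSolvable M h
  haveI := hMn
  haveI := solRadical_normal (G := G)
  have hrad : M ⊓ solRadical G = ⊥ := by
    refine (hmin _ inferInstance inf_le_left).resolve_right fun h => hMns ?_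
    haveI := solRadical_isSolvable (G := G)
    exact Group.isSolvable_of_isSolvable_injective
      (f := Subgroup.inclusion (h ▸ inf_le_right : M ≤ solRadical G))
      (Subgroup.inclusion_injective _)
  have hsol : ∀ A : Subgroup G, A ≤ M → A.IsSubnormal → Group.IsSolvable A → A = ⊥ :=
    fun A hAM hA hAs =>
      le_bot_iff.mp (hrad ▸ le_inf hAM (subnormal_solvable_le_solRadical hA hAs))
  obtain ⟨K, hKM, hK⟩ := exists_component_of_not_solvable hMn.isSubnormal hMns
    (fun A hAM hA hAs => by rw [hsol A hAM hA hAs, commutator_bot_left])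
  refine ⟨?_, fun L hL hLM => ?_⟩
  · have hn : (sSup {L : Subgroup G | Cfsg.IsComponent L ∧ L ≤ M}).Normal :=
      normal_sSup_of_conj_invariant fun g A hA => ⟨isComponent_conj hA.1 g,
        (Subgroup.pointwise_smul_le_pointwise_smul_iff.mpr hA.2).trans
          (Subgroup.Normal.conj_smul_eq_self g M).le⟩
    rcases hmin _ hn (sSup_le fun L hL => hL.2) with h | h
    · have hmem : K ∈ {L : Subgroup G | Cfsg.IsComponent L ∧ L ≤ M} := ⟨hK, hKM⟩
      exact absurd (le_bot_iff.mp ((le_sSup hmem).trans h.le)) (IsComponent.ne_bot hK)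
    · exact h.symm
  · have hZ : Subgroup.center L = ⊥ := by
      refine Subgroup.map_injective L.subtype_injective ?_
      rw [Subgroup.map_bot]
      exact hsol _ ((Subgroup.map_subtype_le _).trans hLM)
        ((inferInstance : (Subgroup.center L).Normal).isSubnormal.trans' hL.1)
        (haveI : Group.IsSolvable (Subgroup.center L) := Group.isSolvable_of_comm fun a b =>
            Subtype.ext (Subgroup.mem_center_iff.mp b.2 a)
        Group.isSolvable_of_surjective
          (f := ((Subgroup.center L).equivMapOfInjective _ L.subtype_injective).toMonoidHom)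
          (MulEquiv.surjective _))
    haveI : Nontrivial L := IsQuasisimple.nontrivial hL.2
    refine ⟨⟨fun N hN => ?_⟩, IsQuasisimple.not_isMulCommutative hL.2⟩
    rcases IsQuasisimple.normal_le_center_or_eq_top hL.2 hN with h | h
    · exact Or.inl (le_bot_iff.mp (hZ ▸ h))
    · exact Or.inr h

theorem minimal_normal_le_layer [Finite G] {M : Subgroup G} (hMn : M.Normal)
    (hmin : ∀ K : Subgroup G, K.Normal → K ≤ M → K = ⊥ ∨ K = M) (hna : ⁅M, M⁆ ≠ ⊥) :
    M ≤ Cfsg.layer G :=
  (minimal_normal_eq_sSup_components hMn hmin hna).1.trans_le (sSup_le fun _ hL => le_layer hL.1)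

theorem minimal_normal_le_gFitting [Finite G] {M : Subgroup G} (hMn : M.Normal)
    (hmin : ∀ K : Subgroup G, K.Normal → K ≤ M → K = ⊥ ∨ K = M) :
    M ≤ Cfsg.generalizedFittingSubgroup G := by
  by_cases h : ⁅M, M⁆ = ⊥
  · refine le_trans (le_fitting hMn ?_) fitting_le_gFitting
    refine Subgroup.isNilpotent_of_lowerCentralSeries_eq_bot (n := 1) ?_
    rwa [Subgroup.lowerCentralSeries_succ, Subgroup.lowerCentralSeries_zero]
  · exact (minimal_normal_le_layer hMn hmin h).trans layer_le_gFitting

/-! ### Subnormal subgroups -/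

/-- `F*` of a normal subgroup is the intersection. -/
theorem gFitting_normal_subgroup [Finite G] {H : Subgroup G} (hH : H.Normal) :
    (Cfsg.generalizedFittingSubgroup H).map H.subtype =
      Cfsg.generalizedFittingSubgroup G ⊓ H := by
  have hsn := hH.isSubnormal
  have hle : (Cfsg.generalizedFittingSubgroup H).map H.subtype ≤
      Cfsg.generalizedFittingSubgroup G := by
    rw [Cfsg.generalizedFittingSubgroup, Subgroup.map_sup]
    exact sup_le ((map_layer_subnormal_le hsn).trans layer_le_gFitting)
      ((fitting_subnormal hsn).le.trans (inf_le_left.trans fitting_le_gFitting))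
  refine le_antisymm (le_inf hle (Subgroup.map_subtype_le _)) ?_
  set T := (Cfsg.generalizedFittingSubgroup H).map H.subtype with hT
  set E1 := sSup {L : Subgroup G | Cfsg.IsComponent L ∧ L ≤ H} with hE1
  set E2 := sSup {L : Subgroup G | Cfsg.IsComponent L ∧ ¬ L ≤ H} with hE2
  haveI := fitting_normal (G := G)
  have hE1H : E1 ≤ H := sSup_le fun L hL => hL.2
  have hE1T : E1 ≤ T := sSup_le fun L hL => by
    rw [← map_subtype_subgroupOf hL.2]
    exact Subgroup.map_mono (component_le_gFitting (isComponent_subgroupOf hL.1 hL.2))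
  have hE2H : ⁅E2, H⁆ = ⊥ := commutator_sSup_left_eq_bot.mpr fun L hL =>
    (component_le_or_commutes hL.1 hsn).resolve_left hL.2
  haveI hE1n : E1.Normal := normal_sSup_of_conj_invariant fun g A hA => ⟨isComponent_conj hA.1 g,
    (Subgroup.pointwise_smul_le_pointwise_smul_iff.mpr hA.2).trans
      (Subgroup.Normal.conj_smul_eq_self g H).le⟩
  haveI hE2n : E2.Normal := normal_sSup_of_conj_invariant fun g A hA => ⟨isComponent_conj hA.1 g,
    fun h => hA.2 (by
      rw [← Subgroup.pointwise_smul_le_pointwise_smul_iff (a := MulAut.conj g),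
        Subgroup.Normal.conj_smul_eq_self g H]
      exact h)⟩
  have hdecomp : Cfsg.generalizedFittingSubgroup G ≤ E1 ⊔ (E2 ⊔ Cfsg.fittingSubgroup G) := by
    refine sup_le (layer_le_iff.mpr fun L hL => ?_) (le_sup_right.trans le_sup_right)
    by_cases hLH : L ≤ H
    · exact le_sup_of_le_left (le_sSup ⟨hL, hLH⟩)
    · exact le_sup_of_le_right (le_sup_of_le_left (le_sSup ⟨hL, hLH⟩))
  intro x hx
  obtain ⟨hxF, hxH⟩ := Subgroup.mem_inf.mp hx
  obtain ⟨a, ha, c, hc, rfl⟩ := Subgroup.mem_sup_of_normal_left.mp (hdecomp hxF)
  obtain ⟨b, hb, f, hf, rfl⟩ := Subgroup.mem_sup_of_normal_left.mp hc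
  have hy : b * f ∈ H := (H.mul_mem_cancel_left (hE1H ha)).mp hxH
  refine mul_mem (hE1T ha) ?_
  -- `b` is central in `E2`
  have hE2F : ⁅E2, Cfsg.fittingSubgroup G⁆ = ⊥ :=
    commutator_sSup_left_eq_bot.mpr fun L hL => component_commutes_fitting hL.1
  have hbE2 : b ∈ Subgroup.centralizer (E2 : Set G) := by
    have h1 : b * f ∈ Subgroup.centralizer (E2 : Set G) :=
      commutator_eq_bot_iff_le_centralizer.mp (by rwa [commutator_comm]) hy
    have h2 : f ∈ Subgroup.centralizer (E2 : Set G) :=
      commutator_eq_bot_iff_le_centralizer.mp (by rwa [commutator_comm]) hf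
    exact (Subgroup.mul_mem_cancel_right _ h2).mp h1
  have hZF : E2 ⊓ Subgroup.centralizer (E2 : Set G) ≤ Cfsg.fittingSubgroup G := by
    refine le_fitting inferInstance (Subgroup.isNilpotent_of_lowerCentralSeries_eq_bot (n := 1) ?_)
    rw [Subgroup.lowerCentralSeries_succ, Subgroup.lowerCentralSeries_zero]
    exact commutator_eq_bot_iff_le_centralizer.mpr
      (inf_le_right.trans (Subgroup.centralizer_le fun z hz => hz.1))
  have hyF : b * f ∈ Cfsg.fittingSubgroup G ⊓ H :=
    ⟨mul_mem (hZF ⟨hb, hbE2⟩) hf, hy⟩
  rw [← fitting_subnormal hsn] at hyF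
  exact Subgroup.map_mono fitting_le_gFitting hyF

/-- `F*` of a subnormal subgroup is the intersection. -/
theorem gFitting_subnormal [Finite G] {H : Subgroup G} (hH : H.IsSubnormal) :
    (Cfsg.generalizedFittingSubgroup H).map H.subtype =
      Cfsg.generalizedFittingSubgroup G ⊓ H := by
  induction hn : Nat.card G using Nat.strong_induction_on generalizing G with
  | _ n ih =>
    obtain rfl | ⟨N, hNn, hHN, hN⟩ := hH.lt_normal
    · exact gFitting_normal_subgroup inferInstance
    have h1 := ih (Nat.card N) (hn ▸ card_lt_of_ne_top hN.ne) (hH.subgroupOf (K := N)) rfl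
    have h2 := congrArg (Subgroup.map N.subtype) h1
    rw [Subgroup.map_map, Subgroup.map_inf _ _ _ N.subtype_injective,
      gFitting_normal_subgroup hNn, map_subtype_subgroupOf hHN, inf_assoc,
      inf_eq_right.mpr hHN] at h2
    rw [← h2, ← gFitting_map_equiv (Subgroup.subgroupOfEquivOfLe hHN), Subgroup.map_map]
    rfl

end CfsgLib.Components
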