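import Mathlib.GroupTheory.IsSubnormal
import Mathlib.GroupTheory.Nilpotent
import Mathlib.GroupTheory.Solvable
import Mathlib.GroupTheory.Sylow
import Mathlib.GroupTheory.PGroup
import Mathlib.GroupTheory.Subgroup.Centralizer
import Cfsg.Prelude.Def_Solvable

set_option linter.style.haveILetI false

/-!
# Subnormal subgroups of finite groups

Wielandt's join theorem, and the fact that a subnormal subgroup with a property closed under
joins of mutually normalizing subgroups lies in a normal subgroup with that property.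
-/

open scoped Pointwise

namespace CfsgLib.Components

open Subgroup

variable {G : Type*} [Group G]

/-! ### Minimal normal subgroups -/

theorem exists_minimal_normal_le [Finite G] {N : Subgroup G} (hNn : N.Normal) (hN : N ≠ ⊥) :
    ∃ M : Subgroup G, M.Normal ∧ M ≠ ⊥ ∧ M ≤ N ∧
      ∀ K : Subgroup G, K.Normal → K ≤ M → K = ⊥ ∨ K = M := by
  obtain ⟨M, ⟨⟨hM1, hM2, hM3⟩, hmin⟩⟩ :=
    Set.Finite.exists_minimal (s := {M : Subgroup G | M.Normal ∧ M ≠ ⊥ ∧ M ≤ N}) (Set.toFinite _)
      ⟨N, hNn, hN, le_rfl⟩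
  refine ⟨M, hM1, hM2, hM3, fun K hK hKM => ?_⟩
  by_cases hK0 : K = ⊥
  · exact Or.inl hK0
  · exact Or.inr (le_antisymm hKM (hmin ⟨hK, hK0, hKM.trans hM3⟩ hKM))

theorem exists_minimal_normal [Finite G] [Nontrivial G] :
    ∃ M : Subgroup G, M.Normal ∧ M ≠ ⊥ ∧ ∀ K : Subgroup G, K.Normal → K ≤ M → K = ⊥ ∨ K = M := by
  obtain ⟨M, h1, h2, -, h4⟩ :=
    exists_minimal_normal_le (G := G) (N := ⊤) inferInstance top_ne_bot
  exact ⟨M, h1, h2, h4⟩

/-! ### Small general lemmas -/

theorem card_lt_of_ne_top [Finite G] {H : Subgroup G} (hH : H ≠ ⊤) : Nat.card H < Nat.card G :=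
  lt_of_le_of_ne (Subgroup.card_le_card_group H) fun h => hH (Subgroup.eq_top_of_card_eq H h)

theorem card_quotient_lt [Finite G] {N : Subgroup G} [N.Normal] (hN : N ≠ ⊥) :
    Nat.card (G ⧸ N) < Nat.card G := by
  rw [← N.index_eq_card, ← N.card_mul_index]
  have h1 : 1 < Nat.card N := N.one_lt_card_iff_ne_bot.mpr hN
  have h2 : 0 < N.index := Nat.pos_of_ne_zero N.index_ne_zero_of_finite
  exact lt_mul_of_one_lt_left h2 h1

theorem commutator_sup_left_eq_bot {A B C : Subgroup G} :
    ⁅A ⊔ B, C⁆ = ⊥ ↔ ⁅A, C⁆ = ⊥ ∧ ⁅B, C⁆ = ⊥ := by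
  simp [commutator_eq_bot_iff_le_centralizer, sup_le_iff]

theorem commutator_sup_right_eq_bot {A B C : Subgroup G} :
    ⁅A, B ⊔ C⁆ = ⊥ ↔ ⁅A, B⁆ = ⊥ ∧ ⁅A, C⁆ = ⊥ := by
  rw [commutator_comm A (B ⊔ C), commutator_comm A B, commutator_comm A C,
    commutator_sup_left_eq_bot]

theorem commutator_sSup_left_eq_bot {S : Set (Subgroup G)} {C : Subgroup G} :
    ⁅sSup S, C⁆ = ⊥ ↔ ∀ A ∈ S, ⁅A, C⁆ = ⊥ := by
  simp [commutator_eq_bot_iff_le_centralizer]

theorem conj_smul_eq_map (g : G) (H : Subgroup G) :
    MulAut.conj g • H = H.map (MulAut.conj g).toMonoidHom := rfl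

theorem smul_eq_self_of_mem_normalizer {H : Subgroup G} {g : G}
    (hg : g ∈ Subgroup.normalizer (H : Set G)) : MulAut.conj g • H = H :=
  mem_normalizer_iff_map_conj_eq.mp hg

theorem mem_normalizer_of_smul_eq_self {H : Subgroup G} {g : G}
    (hg : MulAut.conj g • H = H) : g ∈ Subgroup.normalizer (H : Set G) :=
  mem_normalizer_iff_map_conj_eq.mpr hg

/-- Conjugation of a normalizer statement. -/
theorem le_normalizer_smul {A B : Subgroup G} (h : A ≤ Subgroup.normalizer (B : Set G)) (g : G) :
    MulAut.conj g • A ≤ Subgroup.normalizer ((MulAut.conj g • B : Subgroup G) : Set G) :=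
  (Subgroup.map_mono h).trans (Subgroup.le_normalizer_map _)

theorem sup_le_normalizer_sSup {A : Subgroup G} {S : Set (Subgroup G)}
    (h : ∀ B ∈ S, A ≤ Subgroup.normalizer (B : Set G)) :
    A ≤ Subgroup.normalizer ((sSup S : Subgroup G) : Set G) := by
  intro a ha
  apply mem_normalizer_of_smul_eq_self
  rw [conj_smul_eq_map, sSup_eq_iSup, Subgroup.map_iSup]
  refine iSup_congr fun B => ?_
  rw [Subgroup.map_iSup]
  refine iSup_congr fun hB => ?_
  exact mem_normalizer_iff_map_conj_eq.mp (h B hB ha)

/-- A set of subgroups invariant under conjugation generates a normal subgroup. -/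
theorem normal_sSup_of_conj_invariant {S : Set (Subgroup G)}
    (h : ∀ g : G, ∀ A ∈ S, MulAut.conj g • A ∈ S) : (sSup S).Normal := by
  apply Subgroup.Normal.of_conjugate_fixed
  have key : ∀ g : G, MulAut.conj g • sSup S ≤ sSup S := by
    intro g
    rw [conj_smul_eq_map, Subgroup.map_le_iff_le_comap]
    refine sSup_le fun A hA => ?_
    rw [← Subgroup.map_le_iff_le_comap]
    exact le_sSup (h g A hA)
  intro g
  refine le_antisymm (key g) ?_
  have h2 := (Subgroup.pointwise_smul_le_pointwise_smul_iff (a := MulAut.conj g)).mpr (key g⁻¹)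
  rwa [← mul_smul, ← map_mul, mul_inv_cancel, map_one, one_smul] at h2

theorem map_subtype_subgroupOf {H K : Subgroup G} (h : H ≤ K) :
    (H.subgroupOf K).map K.subtype = H :=
  Subgroup.map_subgroupOf_eq_of_le h

/-! ### Subnormality -/

theorem isSubnormal_map_equiv {H : Type*} [Group H] (e : G ≃* H)
    {A : Subgroup G} (hA : A.IsSubnormal) : (A.map e.toMonoidHom).IsSubnormal :=
  hA.map e.surjective

theorem isSubnormal_of_normal {N : Subgroup G} (hN : N.Normal) : N.IsSubnormal := hN.isSubnormal

theorem isSubnormal_conj {A : Subgroup G} (hA : A.IsSubnormal) (g : G) :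
    (MulAut.conj g • A).IsSubnormal :=
  hA.map (MulAut.conj g).surjective

theorem isSubnormal_map_subtype_iff {H : Subgroup G} (hH : H.IsSubnormal) {K : Subgroup H} :
    (K.map H.subtype).IsSubnormal ↔ K.IsSubnormal := by
  refine ⟨fun h => ?_, fun h => h.trans' hH⟩
  have h2 := h.subgroupOf (K := H)
  rwa [Subgroup.subgroupOf, Subgroup.comap_map_eq_self_of_injective H.subtype_injective] at h2

/-- A minimal normal subgroup normalizes every subnormal subgroup (Wielandt). -/
theorem minimal_normal_le_normalizer_subnormal [Finite G] {M A : Subgroup G} (hMn : M.Normal)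
    (hmin : ∀ K : Subgroup G, K.Normal → K ≤ M → K = ⊥ ∨ K = M) (hA : A.IsSubnormal) :
    M ≤ Subgroup.normalizer (A : Set G) := by
  induction hn : Nat.card G using Nat.strong_induction_on generalizing G with
  | _ n ih =>
    obtain rfl | ⟨N, hNn, hAN, hN⟩ := hA.lt_normal
    · exact Subgroup.le_normalizer_of_normal
    rcases hmin (M ⊓ N) inferInstance inf_le_left with h | h
    · have hc : ⁅M, A⁆ = ⊥ :=
        le_bot_iff.mp <| (commutator_mono le_rfl hAN).trans
          ((commutator_le_inf M N).trans h.le)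
      exact (commutator_eq_bot_iff_le_centralizer.mp hc).trans
        (Subgroup.centralizer_le_normalizer _)
    · have hMN : M ≤ N := h ▸ inf_le_right
      by_cases hM : M = ⊥
      · simp [hM]
      set S : Set (Subgroup G) := {K | K ≤ M ∧ K ≠ ⊥ ∧ N ≤ Subgroup.normalizer (K : Set G) ∧
        ∀ K' : Subgroup G, K' ≤ K → N ≤ Subgroup.normalizer (K' : Set G) → K' = ⊥ ∨ K' = K}
        with hS
      have hSne : ∃ K, K ∈ S := by
        obtain ⟨K, ⟨⟨h1, h2, h3⟩, hKmin⟩⟩ := Set.Finite.exists_minimal
          (s := {K : Subgroup G | K ≤ M ∧ K ≠ ⊥ ∧ N ≤ Subgroup.normalizer (K : Set G)})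
          (Set.toFinite _) ⟨M, le_rfl, hM, Subgroup.le_normalizer_of_normal⟩
        refine ⟨K, h1, h2, h3, fun K' hK' hN' => ?_⟩
        by_cases hK0 : K' = ⊥
        · exact Or.inl hK0
        · exact Or.inr (le_antisymm hK' (hKmin ⟨hK'.trans h1, hK0, hN'⟩ hK'))
      have hSconj : ∀ g : G, ∀ K ∈ S, MulAut.conj g • K ∈ S := by
        rintro g K ⟨h1, h2, h3, h4⟩
        refine ⟨?_, ?_, ?_, fun K' hK' hN' => ?_⟩
        · rw [← Subgroup.Normal.conj_smul_eq_self g M]
          exact Subgroup.pointwise_smul_le_pointwise_smul_iff.mpr h1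
        · intro h0
          apply h2
          have := congrArg ((MulAut.conj g)⁻¹ • ·) h0
          simpa using this
        · rw [← Subgroup.Normal.conj_smul_eq_self g N]
          exact le_normalizer_smul h3 g
        · have hK'' : (MulAut.conj g)⁻¹ • K' ≤ K := by
            rw [← Subgroup.pointwise_smul_le_pointwise_smul_iff (a := MulAut.conj g)]
            simpa using hK'
          have hN'' : N ≤ Subgroup.normalizer (((MulAut.conj g)⁻¹ • K' : Subgroup G) : Set G) := by
            rw [← map_inv, ← Subgroup.Normal.conj_smul_eq_self g⁻¹ N]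
            exact le_normalizer_smul hN' g⁻¹
          rcases h4 _ hK'' hN'' with h | h
          · left
            have := congrArg (MulAut.conj g • ·) h
            simpa using this
          · right
            rw [← h]
            simp
      have hgen : sSup S = M := by
        rcases hmin _ (normal_sSup_of_conj_invariant hSconj) (sSup_le fun K hK => hK.1) with h | h
        · obtain ⟨K, hK⟩ := hSne
          exact absurd (eq_bot_iff.mpr ((le_sSup hK).trans h.le)) hK.2.1
        · exact h
      rw [← hgen]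
      refine sSup_le ?_
      rintro K ⟨hKM, hK0, hKN, hKmin⟩
      have hKN' : K ≤ N := hKM.trans hMN
      have key : K.subgroupOf N ≤
          Subgroup.normalizer ((A.subgroupOf N : Subgroup N) : Set N) := by
        refine ih (Nat.card N) (hn ▸ card_lt_of_ne_top hN.ne) ((normal_subgroupOf_iff_le_normalizer hKN').mpr hKN) ?_ hA.subgroupOf rfl
        intro K' hK'n hK'le
        have h1 : K'.map N.subtype ≤ K := by
          rw [Subgroup.map_le_iff_le_comap]; exact hK'le
        have h2 : N ≤ Subgroup.normalizer ((K'.map N.subtype : Subgroup G) : Set G) := by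
          rw [← normal_subgroupOf_iff_le_normalizer (h1.trans hKN')]
          rwa [Subgroup.subgroupOf, Subgroup.comap_map_eq_self_of_injective N.subtype_injective]
        rcases hKmin _ h1 h2 with h | h
        · left
          exact Subgroup.map_injective N.subtype_injective (by rw [h, Subgroup.map_bot])
        · right
          refine Subgroup.map_injective N.subtype_injective ?_
          rw [h, Subgroup.map_subgroupOf_eq_of_le hKN']
      intro k hk
      have hk' := Subgroup.le_normalizer_map N.subtype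
        (Subgroup.mem_map_of_mem N.subtype (key (show (⟨k, hKN' hk⟩ : N) ∈ K.subgroupOf N from hk)))
      rwa [Subgroup.map_subgroupOf_eq_of_le hAN] at hk'

/-- Wielandt: the join of two subnormal subgroups of a finite group is subnormal. -/
theorem isSubnormal_sup [Finite G] {A B : Subgroup G} (hA : A.IsSubnormal) (hB : B.IsSubnormal) :
    (A ⊔ B).IsSubnormal := by
  induction hn : Nat.card G using Nat.strong_induction_on generalizing G with
  | _ n ih =>
    rcases subsingleton_or_nontrivial G with h | h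
    · exact Subgroup.IsSubnormal.of_subsingleton
    obtain ⟨M, hMn, hM, hmin⟩ := exists_minimal_normal (G := G)
    have hbar : ((A ⊔ B).map (QuotientGroup.mk' M)).IsSubnormal := by
      rw [Subgroup.map_sup]
      exact ih _ (hn ▸ card_quotient_lt hM) hA.quotient hB.quotient rfl
    have hJ : (A ⊔ B ⊔ M).IsSubnormal := by
      have := hbar.comap (QuotientGroup.mk' M)
      rwa [Subgroup.comap_map_eq, QuotientGroup.ker_mk'] at this
    refine Subgroup.IsSubnormal.step _ _ le_sup_left hJ ?_
    rw [normal_subgroupOf_iff_le_normalizer le_sup_left]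
    refine sup_le Subgroup.le_normalizer ?_
    exact (le_inf (minimal_normal_le_normalizer_subnormal hMn hmin hA)
      (minimal_normal_le_normalizer_subnormal hMn hmin hB)).trans
      (Subgroup.normalizer_inf_normalizer_le_normalizer_sup A B)

theorem isSubnormal_sSup [Finite G] {S : Set (Subgroup G)} (hS : ∀ A ∈ S, A.IsSubnormal) :
    (sSup S).IsSubnormal := by
  induction S, Set.toFinite S using Set.Finite.induction_on with
  | empty => simp
  | @insert A T _ _ ih =>
    rw [sSup_insert]
    exact isSubnormal_sup (hS A (Set.mem_insert _ _))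
      (ih fun B hB => hS B (Set.mem_insert_of_mem _ hB))

theorem isSubnormal_iSup [Finite G] {ι : Sort*} {A : ι → Subgroup G}
    (hA : ∀ i, (A i).IsSubnormal) : (⨆ i, A i).IsSubnormal :=
  isSubnormal_sSup (by rintro _ ⟨i, rfl⟩; exact hA i)

/-! ### Mutually normalizing joins -/

/-- A property of subgroups closed under joins of mutually normalizing subgroups is closed under
finite joins of pairwise normalizing subgroups. -/
theorem sSup_of_pairwise_normalize [Finite G] {P : Subgroup G → Prop} (hbot : P ⊥)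
    (hsup : ∀ A B : Subgroup G, A ≤ Subgroup.normalizer (B : Set G) →
      B ≤ Subgroup.normalizer (A : Set G) → P A → P B → P (A ⊔ B))
    {S : Set (Subgroup G)} (hS : ∀ A ∈ S, P A)
    (hn : ∀ A ∈ S, ∀ B ∈ S, A ≤ Subgroup.normalizer (B : Set G)) : P (sSup S) := by
  induction S, Set.toFinite S using Set.Finite.induction_on with
  | empty => simpa using hbot
  | @insert A T _ _ ih =>
    rw [sSup_insert]
    refine hsup _ _ ?_ ?_ (hS A (Set.mem_insert _ _)) (ih (fun B hB => hS B (Set.mem_insert_of_mem _ hB))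
      fun B hB C hC => hn B (Set.mem_insert_of_mem _ hB) C (Set.mem_insert_of_mem _ hC))
    · exact sup_le_normalizer_sSup fun B hB =>
        hn A (Set.mem_insert _ _) B (Set.mem_insert_of_mem _ hB)
    · exact sSup_le fun B hB => hn B (Set.mem_insert_of_mem _ hB) A (Set.mem_insert _ _)

/-- If a conjugation-invariant property of subgroups is closed under joins of mutually normalizing
subgroups, each subnormal subgroup with the property lies in a normal one with the property. -/
theorem exists_normal_ge_of_subnormal [Finite G] (P : Subgroup G → Prop) (hbot : P ⊥)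
    (hconj : ∀ (g : G) (A : Subgroup G), P A → P (MulAut.conj g • A))
    (hsup : ∀ A B : Subgroup G, A ≤ Subgroup.normalizer (B : Set G) →
      B ≤ Subgroup.normalizer (A : Set G) → P A → P B → P (A ⊔ B))
    {A : Subgroup G} (hA : A.IsSubnormal) (hPA : P A) :
    ∃ N : Subgroup G, N.Normal ∧ P N ∧ A ≤ N := by
  suffices H : ∀ K : Subgroup G, K.IsSubnormal → ∀ B : Subgroup G, B ≤ K →
      K ≤ Subgroup.normalizer (B : Set G) → P B → ∃ N : Subgroup G, N.Normal ∧ P N ∧ B ≤ N from
    H A hA A le_rfl Subgroup.le_normalizer hPA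
  intro K hK
  induction hK with
  | top =>
    intro B _ hN hB
    exact ⟨B, Subgroup.normalizer_eq_top_iff.mp (top_le_iff.mp hN), hB, le_rfl⟩
  | step H K hHK _ hHn ih =>
    intro B hBH hN hB
    have hKH : K ≤ Subgroup.normalizer (H : Set G) :=
      (normal_subgroupOf_iff_le_normalizer hHK).mp hHn
    set S : Set (Subgroup G) := (fun k => MulAut.conj k • B) '' (K : Set G) with hS
    have hSle : ∀ C ∈ S, C ≤ H ∧ H ≤ Subgroup.normalizer (C : Set G) := by
      rintro _ ⟨k, hk, rfl⟩
      have hk' := smul_eq_self_of_mem_normalizer (hKH hk)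
      refine ⟨?_, ?_⟩
      · exact (Subgroup.pointwise_smul_le_pointwise_smul_iff.mpr hBH).trans hk'.le
      · conv_lhs => rw [← hk']
        exact le_normalizer_smul hN k
    have hP : P (sSup S) :=
      sSup_of_pairwise_normalize hbot hsup
        (by rintro _ ⟨k, _, rfl⟩; exact hconj k B hB)
        (fun C hC D hD => (hSle C hC).1.trans (hSle D hD).2)
    have hKn : K ≤ Subgroup.normalizer ((sSup S : Subgroup G) : Set G) := by
      rw [Subgroup.le_normalizer_iff]
      intro k hk x hx
      have : MulAut.conj k • sSup S ≤ sSup S := by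
        rw [conj_smul_eq_map, Subgroup.map_le_iff_le_comap]
        refine sSup_le ?_
        rintro _ ⟨l, hl, rfl⟩
        rw [← Subgroup.map_le_iff_le_comap, ← conj_smul_eq_map, ← mul_smul, ← map_mul]
        exact le_sSup ⟨k * l, mul_mem hk hl, rfl⟩
      exact this ⟨x, hx, rfl⟩
    obtain ⟨N, hNn, hPN, hle⟩ :=
      ih (sSup S) ((sSup_le fun C hC => (hSle C hC).1).trans hHK) hKn hP
    refine ⟨N, hNn, hPN, le_trans ?_ hle⟩
    exact le_sSup ⟨1, one_mem K, by simp⟩

/-! ### Classes closed under mutually normalizing joins -/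

/-- The order of a join with one normal factor divides the product of the orders. -/
theorem card_dvd_mul_of_sup_eq_top [Finite G] {A B : Subgroup G} [A.Normal] (h : A ⊔ B = ⊤) :
    Nat.card G ∣ Nat.card A * Nat.card B := by
  rw [← A.card_mul_index]
  refine Nat.mul_dvd_mul_left _ ?_
  have h2 : A.relIndex (A ⊔ B) = A.relIndex B := Subgroup.relIndex_sup_left B A
  rw [h, Subgroup.relIndex_top_right] at h2
  exact h2 ▸ Subgroup.relIndex_dvd_card A B

theorem card_sup_dvd_mul [Finite G] {A B : Subgroup G}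
    (hBA : B ≤ Subgroup.normalizer (A : Set G)) :
    Nat.card ↥(A ⊔ B) ∣ Nat.card A * Nat.card B := by
  haveI : (A.subgroupOf (A ⊔ B)).Normal :=
    (normal_subgroupOf_iff_le_normalizer le_sup_left).mpr (sup_le Subgroup.le_normalizer hBA)
  have h : A.subgroupOf (A ⊔ B) ⊔ B.subgroupOf (A ⊔ B) = ⊤ := by
    rw [← Subgroup.subgroupOf_sup le_sup_left le_sup_right, Subgroup.subgroupOf_self]
  have := card_dvd_mul_of_sup_eq_top h
  rwa [Nat.card_congr (Subgroup.subgroupOfEquivOfLe (le_sup_left : A ≤ A ⊔ B)).toEquiv,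
    Nat.card_congr (Subgroup.subgroupOfEquivOfLe (le_sup_right : B ≤ A ⊔ B)).toEquiv] at this

theorem isPGroup_sup [Finite G] {p : ℕ} {A B : Subgroup G}
    (hBA : B ≤ Subgroup.normalizer (A : Set G)) (hA : IsPGroup p A) (hB : IsPGroup p B) :
    IsPGroup p ↥(A ⊔ B) :=
  IsPGroup.to_sup_of_normal_left' hA hB hBA

theorem isSolvable_of_sup_eq_top {A B : Subgroup G} [A.Normal] (h : A ⊔ B = ⊤)
    (hA : Group.IsSolvable A) (hB : Group.IsSolvable B) : Group.IsSolvable G := by
  haveI := hA; haveI := hB
  haveI : Group.IsSolvable (G ⧸ A) := by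
    refine Group.isSolvable_of_surjective (f := (QuotientGroup.mk' A).comp B.subtype) ?_
    rw [← MonoidHom.range_eq_top, MonoidHom.range_comp, Subgroup.range_subtype]
    have h3 := congrArg (Subgroup.map (QuotientGroup.mk' A)) h
    rwa [Subgroup.map_sup, Subgroup.map_top_of_surjective _ (QuotientGroup.mk'_surjective A),
      (Subgroup.map_eq_bot_iff _).mpr (QuotientGroup.ker_mk' A).ge, bot_sup_eq] at h3
  exact (Group.isSolvable_iff_subgroup_quotient A).mpr ⟨inferInstance, inferInstance⟩

theorem isSolvable_sup {A B : Subgroup G} (hBA : B ≤ Subgroup.normalizer (A : Set G))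
    (hA : Group.IsSolvable A) (hB : Group.IsSolvable B) : Group.IsSolvable ↥(A ⊔ B) := by
  haveI : (A.subgroupOf (A ⊔ B)).Normal :=
    (normal_subgroupOf_iff_le_normalizer le_sup_left).mpr (sup_le Subgroup.le_normalizer hBA)
  haveI := hA; haveI := hB
  refine isSolvable_of_sup_eq_top (A := A.subgroupOf (A ⊔ B)) (B := B.subgroupOf (A ⊔ B)) ?_
    (Group.isSolvable_of_surjective
      (f := (Subgroup.subgroupOfEquivOfLe (le_sup_left : A ≤ A ⊔ B)).symm.toMonoidHom)
      (MulEquiv.surjective _))
    (Group.isSolvable_of_surjective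
      (f := (Subgroup.subgroupOfEquivOfLe (le_sup_right : B ≤ A ⊔ B)).symm.toMonoidHom)
      (MulEquiv.surjective _))
  rw [← Subgroup.subgroupOf_sup le_sup_left le_sup_right, Subgroup.subgroupOf_self]

/-- Fitting: a group generated by two normal nilpotent subgroups is nilpotent. -/
theorem isNilpotent_of_sup_eq_top [Finite G] {A B : Subgroup G} [A.Normal] [B.Normal]
    (h : A ⊔ B = ⊤) (hA : Group.IsNilpotent A) (hB : Group.IsNilpotent B) :
    Group.IsNilpotent G := by
  refine ((Group.isNilpotent_of_finite_tfae (G := G)).out 0 3 rfl rfl).mpr fun p hp P => ?_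
  haveI := hp; haveI := hA; haveI := hB
  have key : ∀ (C : Subgroup G) [C.Normal] [Group.IsNilpotent C],
      ∃ Q : Subgroup G, Q.Normal ∧ IsPGroup p Q ∧ Q ≤ C ∧ ¬ p ∣ Q.relIndex C := by
    intro C _ _
    obtain ⟨S⟩ : Nonempty (Sylow p C) := inferInstance
    haveI : (S : Subgroup C).Characteristic := S.characteristic_of_normal inferInstance
    refine ⟨(S : Subgroup C).map C.subtype, inferInstance, S.isPGroup'.map _,
      Subgroup.map_subtype_le _, ?_⟩
    rw [Subgroup.relIndex, Subgroup.subgroupOf,
      Subgroup.comap_map_eq_self_of_injective C.subtype_injective]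
    exact S.not_dvd_index
  obtain ⟨Q, hQn, hQp, hQA, hQi⟩ := key A
  obtain ⟨R, hRn, hRp, hRB, hRi⟩ := key B
  have hTp : IsPGroup p ↥(Q ⊔ R) := IsPGroup.to_sup_of_normal_left hQp hRp
  haveI : (Q ⊔ R).Normal := Subgroup.sup_normal Q R
  suffices hidx : ¬ p ∣ (Q ⊔ R).index by
    have hle : (Q ⊔ R) ≤ (P : Subgroup G) := hTp.le_sylow_of_normal P
    have : Q ⊔ R = (P : Subgroup G) := by
      refine le_antisymm hle (Subgroup.relIndex_eq_one.mp ?_)
      obtain ⟨k, hk⟩ := P.isPGroup'.exists_card_eq
      have h1 : (Q ⊔ R).relIndex P ∣ p ^ k := hk ▸ Subgroup.relIndex_dvd_card _ _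
      have h2 : (Q ⊔ R).relIndex P ∣ (Q ⊔ R).index :=
        Subgroup.relIndex_dvd_index_of_le hle
      obtain ⟨j, -, hj⟩ := (Nat.dvd_prime_pow hp.out).mp h1
      rcases Nat.eq_zero_or_pos j with rfl | hj0
      · simpa using hj
      · exact absurd ((hj ▸ dvd_pow_self p hj0.ne').trans h2) hidx
    rw [← this]
    infer_instance
  intro hdvd
  set f := QuotientGroup.mk' (Q ⊔ R)
  haveI : (A.map f).Normal := Subgroup.Normal.map inferInstance f (QuotientGroup.mk'_surjective _)
  have htop : A.map f ⊔ B.map f = ⊤ := by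
    rw [← Subgroup.map_sup, h, Subgroup.map_top_of_surjective _ (QuotientGroup.mk'_surjective _)]
  have hdvd' : p ∣ Nat.card (A.map f) * Nat.card (B.map f) :=
    (Subgroup.index_eq_card (Q ⊔ R) ▸ hdvd).trans (card_dvd_mul_of_sup_eq_top htop)
  have small : ∀ C D : Subgroup G, D ≤ Q ⊔ R → ¬ p ∣ D.relIndex C →
      ¬ p ∣ Nat.card (C.map f) := by
    intro C D hD hDi hpc
    apply hDi
    refine hpc.trans ?_
    rw [← Subgroup.relIndex_ker, QuotientGroup.ker_mk']
    exact Subgroup.relIndex_dvd_of_le_left C hD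
  rcases (Nat.Prime.dvd_mul hp.out).mp hdvd' with h1 | h1
  · exact small A Q le_sup_left hQi h1
  · exact small B R le_sup_right hRi h1

theorem isNilpotent_sup [Finite G] {A B : Subgroup G} (hAB : A ≤ Subgroup.normalizer (B : Set G))
    (hBA : B ≤ Subgroup.normalizer (A : Set G)) (hA : Group.IsNilpotent A)
    (hB : Group.IsNilpotent B) : Group.IsNilpotent ↥(A ⊔ B) := by
  haveI : (A.subgroupOf (A ⊔ B)).Normal :=
    (normal_subgroupOf_iff_le_normalizer le_sup_left).mpr (sup_le Subgroup.le_normalizer hBA)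
  haveI : (B.subgroupOf (A ⊔ B)).Normal :=
    (normal_subgroupOf_iff_le_normalizer le_sup_right).mpr (sup_le hAB Subgroup.le_normalizer)
  refine isNilpotent_of_sup_eq_top (A := A.subgroupOf (A ⊔ B)) (B := B.subgroupOf (A ⊔ B)) ?_
    ((Group.isNilpotent_congr (Subgroup.subgroupOfEquivOfLe le_sup_left)).mpr hA)
    ((Group.isNilpotent_congr (Subgroup.subgroupOfEquivOfLe le_sup_right)).mpr hB)
  rw [← Subgroup.subgroupOf_sup le_sup_left le_sup_right, Subgroup.subgroupOf_self]

end CfsgLib.Components
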