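import Cfsg.Agent.Lib.Components.Subnormal
import Cfsg.Prelude.Def_OddOrderLocal

/-!
# Radicals and subnormal subgroups

`O_p`, `O_{p'}`, `O_π`, the Fitting subgroup and the solvable radical of a finite group: each is the
largest subnormal subgroup with its property.
-/

set_option linter.style.haveILetI false

open scoped Pointwise

namespace CfsgLib.Components

open Subgroup

variable {G : Type*} [Group G]

/-! ### Fitting subgroup -/

theorem fitting_normal : (Cfsg.fittingSubgroup G).Normal :=
  Subgroup.sSup_normal _ fun _ h => h.1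

theorem le_fitting {N : Subgroup G} (hN : N.Normal) (h : Group.IsNilpotent N) :
    N ≤ Cfsg.fittingSubgroup G :=
  le_sSup ⟨hN, h⟩

theorem fitting_isNilpotent [Finite G] : Group.IsNilpotent (Cfsg.fittingSubgroup G) := by
  refine sSup_of_pairwise_normalize (P := fun A : Subgroup G => Group.IsNilpotent A) inferInstance
    (fun A B h1 h2 => isNilpotent_sup h1 h2) (fun A h => h.2) fun A _ B hB => ?_
  haveI := hB.1
  exact Subgroup.le_normalizer_of_normal

theorem subnormal_nilpotent_le_fitting [Finite G] {A : Subgroup G} (hA : A.IsSubnormal)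
    (h : Group.IsNilpotent A) : A ≤ Cfsg.fittingSubgroup G := by
  obtain ⟨N, hN, hNP, hAN⟩ := exists_normal_ge_of_subnormal
    (fun A : Subgroup G => Group.IsNilpotent A) inferInstance
    (fun g A hA => (Group.isNilpotent_congr (Subgroup.equivSMul (MulAut.conj g) A)).mp hA)
    (fun A B h1 h2 => isNilpotent_sup h1 h2) hA h
  exact hAN.trans (le_fitting hN hNP)

/-! ### `O_p` -/

theorem pCore_normal (p : ℕ) : (Cfsg.pCore p G).Normal :=
  Subgroup.sSup_normal _ fun _ h => h.1

theorem le_pCore {p : ℕ} {N : Subgroup G} (hN : N.Normal) (h : IsPGroup p N) :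
    N ≤ Cfsg.pCore p G :=
  le_sSup ⟨hN, h⟩

theorem pCore_isPGroup [Finite G] (p : ℕ) : IsPGroup p (Cfsg.pCore p G) := by
  refine sSup_of_pairwise_normalize (P := fun A : Subgroup G => IsPGroup p A) IsPGroup.of_bot
    (fun A B _ h2 => isPGroup_sup h2) (fun A h => h.2) fun A _ B hB => ?_
  haveI := hB.1
  exact Subgroup.le_normalizer_of_normal

theorem subnormal_pGroup_le_pCore [Finite G] {p : ℕ} {A : Subgroup G} (hA : A.IsSubnormal)
    (h : IsPGroup p A) : A ≤ Cfsg.pCore p G := by
  obtain ⟨N, hN, hNP, hAN⟩ := exists_normal_ge_of_subnormal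
    (fun A : Subgroup G => IsPGroup p A) IsPGroup.of_bot
    (fun g A hA => hA.of_equiv (Subgroup.equivSMul (MulAut.conj g) A))
    (fun A B _ h2 => isPGroup_sup h2) hA h
  exact hAN.trans (le_pCore hN hNP)

theorem pCore_le_fitting [Finite G] (p : ℕ) [Fact p.Prime] :
    Cfsg.pCore p G ≤ Cfsg.fittingSubgroup G :=
  le_fitting (pCore_normal p) (pCore_isPGroup p).isNilpotent

/-! ### `O_π` -/

/-- Every prime divisor of the order of `A` lies in `π`. -/
def IsPiSubgroup (π : Set ℕ) (A : Subgroup G) : Prop :=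
  ∀ q : ℕ, q.Prime → q ∣ Nat.card A → q ∈ π

theorem isPiSubgroup_bot (π : Set ℕ) : IsPiSubgroup π (⊥ : Subgroup G) := by
  intro q hq hdvd
  rw [Subgroup.card_bot, Nat.dvd_one] at hdvd
  exact absurd hdvd hq.ne_one

theorem isPiSubgroup_mono [Finite G] {π : Set ℕ} {A B : Subgroup G} (h : A ≤ B)
    (hB : IsPiSubgroup π B) : IsPiSubgroup π A :=
  fun q hq hdvd => hB q hq (hdvd.trans (Subgroup.card_dvd_of_le h))

theorem isPiSubgroup_sup [Finite G] {π : Set ℕ} {A B : Subgroup G}
    (hBA : B ≤ Subgroup.normalizer (A : Set G)) (hA : IsPiSubgroup π A) (hB : IsPiSubgroup π B) :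
    IsPiSubgroup π (A ⊔ B) := fun q hq hdvd =>
  (hq.dvd_mul.mp (hdvd.trans (card_sup_dvd_mul hBA))).elim (hA q hq) (hB q hq)

theorem isPiSubgroup_conj {π : Set ℕ} {A : Subgroup G} (g : G) (hA : IsPiSubgroup π A) :
    IsPiSubgroup π (MulAut.conj g • A) := fun q hq hdvd =>
  hA q hq (by rwa [Nat.card_congr (Subgroup.equivSMul (MulAut.conj g) A).toEquiv])

theorem piCore_isPiSubgroup [Finite G] (π : Set ℕ) : IsPiSubgroup π (Cfsg.piCore π G) := by
  refine sSup_of_pairwise_normalize (P := IsPiSubgroup π) (isPiSubgroup_bot π)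
    (fun A B _ h2 => isPiSubgroup_sup h2) (fun A h => h.2) fun A _ B hB => ?_
  haveI := hB.1
  exact Subgroup.le_normalizer_of_normal

theorem le_piCore {π : Set ℕ} {N : Subgroup G} (hN : N.Normal) (h : IsPiSubgroup π N) :
    N ≤ Cfsg.piCore π G :=
  le_sSup ⟨hN, h⟩

theorem subnormal_pi_le_piCore [Finite G] {π : Set ℕ} {A : Subgroup G} (hA : A.IsSubnormal)
    (h : IsPiSubgroup π A) : A ≤ Cfsg.piCore π G := by
  obtain ⟨N, hN, hNP, hAN⟩ := exists_normal_ge_of_subnormal (IsPiSubgroup (G := G) π)
    (isPiSubgroup_bot π) (fun g _ hA => isPiSubgroup_conj g hA)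
    (fun A B _ h2 => isPiSubgroup_sup h2) hA h
  exact hAN.trans (le_piCore hN hNP)

/-! ### `O_{p'}` -/

theorem pPrimeCore_normal (p : ℕ) : (Cfsg.pPrimeCore p G).Normal :=
  Subgroup.sSup_normal _ fun _ h => h.1

theorem le_pPrimeCore {p : ℕ} {N : Subgroup G} (hN : N.Normal) (h : (Nat.card N).Coprime p) :
    N ≤ Cfsg.pPrimeCore p G :=
  le_sSup ⟨hN, h⟩

theorem coprime_sup [Finite G] {p : ℕ} {A B : Subgroup G}
    (hBA : B ≤ Subgroup.normalizer (A : Set G)) (hA : (Nat.card A).Coprime p)
    (hB : (Nat.card B).Coprime p) : (Nat.card ↥(A ⊔ B)).Coprime p :=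
  Nat.Coprime.coprime_dvd_left (card_sup_dvd_mul hBA) (Nat.Coprime.mul_left hA hB)

theorem pPrimeCore_coprime [Finite G] (p : ℕ) : (Nat.card (Cfsg.pPrimeCore p G)).Coprime p := by
  refine sSup_of_pairwise_normalize (P := fun A : Subgroup G => (Nat.card A).Coprime p)
    (by simp) (fun A B _ h2 => coprime_sup h2) (fun A h => h.2) fun A _ B hB => ?_
  haveI := hB.1
  exact Subgroup.le_normalizer_of_normal

theorem subnormal_coprime_le_pPrimeCore [Finite G] {p : ℕ} {A : Subgroup G} (hA : A.IsSubnormal)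
    (h : (Nat.card A).Coprime p) : A ≤ Cfsg.pPrimeCore p G := by
  obtain ⟨N, hN, hNP, hAN⟩ := exists_normal_ge_of_subnormal
    (fun A : Subgroup G => (Nat.card A).Coprime p) (by simp)
    (fun g A hA => by rwa [← Nat.card_congr (Subgroup.equivSMul (MulAut.conj g) A).toEquiv])
    (fun A B _ h2 => coprime_sup h2) hA h
  exact hAN.trans (le_pPrimeCore hN hNP)

/-! ### Solvable radical -/

/-- The solvable radical: the join of all solvable normal subgroups. -/
def solRadical (G : Type*) [Group G] : Subgroup G :=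
  sSup {N : Subgroup G | N.Normal ∧ Group.IsSolvable N}

theorem solRadical_normal : (solRadical G).Normal :=
  Subgroup.sSup_normal _ fun _ h => h.1

theorem le_solRadical {N : Subgroup G} (hN : N.Normal) (h : Group.IsSolvable N) :
    N ≤ solRadical G :=
  le_sSup ⟨hN, h⟩

theorem solRadical_isSolvable [Finite G] : Group.IsSolvable (solRadical G) := by
  refine sSup_of_pairwise_normalize (P := fun A : Subgroup G => Group.IsSolvable A) inferInstance
    (fun A B _ h2 => isSolvable_sup h2) (fun A h => h.2) fun A _ B hB => ?_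
  haveI := hB.1
  exact Subgroup.le_normalizer_of_normal

theorem subnormal_solvable_le_solRadical [Finite G] {A : Subgroup G} (hA : A.IsSubnormal)
    (h : Group.IsSolvable A) : A ≤ solRadical G := by
  obtain ⟨N, hN, hNP, hAN⟩ := exists_normal_ge_of_subnormal
    (fun A : Subgroup G => Group.IsSolvable A) inferInstance
    (fun g A hA => by
      haveI := hA
      exact Group.isSolvable_of_surjective
        (f := (Subgroup.equivSMul (MulAut.conj g) A).toMonoidHom) (MulEquiv.surjective _))
    (fun A B _ h2 => isSolvable_sup h2) hA h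
  exact hAN.trans (le_solRadical hN hNP)

theorem fitting_le_solRadical [Finite G] : Cfsg.fittingSubgroup G ≤ solRadical G := by
  haveI := fitting_isNilpotent (G := G)
  exact le_solRadical fitting_normal inferInstance

end CfsgLib.Components
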