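import Cfsg.Agent.Lib.Components.PLayer
import Cfsg.Agent.Lib.PLocal.PConstrained
import Cfsg.Agent.Lib.PGroups.Basic

/-!
# Characteristic `p` passes down to centralizers and normalizers of larger `p`-subgroups

If `C_G(A)` has characteristic `p` and `A ≤ P` are `p`-groups, then so have `C_G(P)` and `N_G(P)`
(`centralizer_charP_of_le`, `normalizer_charP_of_le`).
-/

set_option autoImplicit false
set_option linter.style.haveILetI false

namespace CfsgLib.Components

open Subgroup

variable {G : Type*} [Group G] [Finite G] {p : ℕ} [hp : Fact p.Prime]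

/-- A group with a normal subgroup of characteristic `p` and `p`-power index has characteristic `p`. -/
theorem charP_of_normal_pGroup_quotient {N : Subgroup G} [N.Normal] (hq : IsPGroup p (G ⧸ N))
    (hc : centralizer (Cfsg.pCore p N : Set N) ≤ Cfsg.pCore p N) :
    centralizer (Cfsg.pCore p G : Set G) ≤ Cfsg.pCore p G := by
  have hsn : N.IsSubnormal := (inferInstance : N.Normal).isSubnormal
  have hcore : Cfsg.pPrimeCore p G = ⊥ := by
    have h1 : Cfsg.pPrimeCore p G ≤ N := by
      obtain ⟨k, hk⟩ := (hq.to_subgroup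
        ((Cfsg.pPrimeCore p G).map (QuotientGroup.mk' N))).exists_card_eq
      rw [← QuotientGroup.ker_mk' N, ← Subgroup.map_eq_bot_iff, Subgroup.eq_bot_iff_card]
      exact Nat.eq_one_of_dvd_coprimes ((pPrimeCore_coprime (G := G) p).pow_right k)
        (Subgroup.card_map_dvd _ _) (dvd_of_eq hk)
    have h2 := pPrimeCore_subnormal p hsn
    rwa [PLocal.pPrimeCore_eq_bot_of_charP hc, Subgroup.map_bot, inf_eq_left.mpr h1, eq_comm] at h2
  refine centralizer_pCore_le_of_layer_eq_bot hcore (layer_eq_bot_iff.mpr fun L hL => ?_)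
  have hLN : L ≤ N := by
    haveI := hq.isNilpotent
    rw [← QuotientGroup.ker_mk' N, ← Subgroup.map_eq_bot_iff]
    by_contra hbot
    haveI : Nontrivial ↥(L.map (QuotientGroup.mk' N)) :=
      (Subgroup.nontrivial_iff_ne_bot _).mpr hbot
    exact IsQuasisimple.not_isSolvable (IsQuasisimple.of_surjective hL.2
      (f := (QuotientGroup.mk' N).subgroupMap L)
      ((QuotientGroup.mk' N).subgroupMap_surjective L)) inferInstance
  exact layer_eq_bot_iff.mp (layer_eq_bot_of_centralizer_pCore_le hc) _
    (isComponent_subgroupOf hL hLN)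

/-- One step: `M ≤ N(P)`-invariant version. -/
theorem centralizer_charP_step {M P : Subgroup G} (hP : IsPGroup p P) (hMP : M ≤ P)
    (hPM : P ≤ normalizer (M : Set G))
    (hc : centralizer (Cfsg.pCore p (centralizer (M : Set G)) : Set (centralizer (M : Set G))) ≤
      Cfsg.pCore p (centralizer (M : Set G))) :
    centralizer (Cfsg.pCore p (centralizer (P : Set G)) : Set (centralizer (P : Set G))) ≤
      Cfsg.pCore p (centralizer (P : Set G)) := by
  set C := centralizer (M : Set G) with hC
  set J := C ⊔ P with hJ
  have hCJ : C ≤ J := le_sup_left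
  have hPJ : P ≤ J := le_sup_right
  have hPC : P ≤ normalizer (C : Set G) := by
    intro g hg
    rw [Subgroup.mem_normalizer_iff]
    intro y
    have hgM := hPM hg
    rw [hC, Subgroup.mem_centralizer_iff, Subgroup.mem_centralizer_iff]
    constructor
    · intro h z hz
      have hz' : g⁻¹ * z * g ∈ M := (Subgroup.mem_normalizer_iff''.mp hgM z).mp hz
      calc z * (g * y * g⁻¹) = g * ((g⁻¹ * z * g) * y) * g⁻¹ := by group
        _ = g * (y * (g⁻¹ * z * g)) * g⁻¹ := by rw [h _ hz']
        _ = g * y * g⁻¹ * z := by group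
    · intro h z hz
      have hz' : g * z * g⁻¹ ∈ M := (Subgroup.mem_normalizer_iff.mp hgM z).mp hz
      calc z * y = g⁻¹ * ((g * z * g⁻¹) * (g * y * g⁻¹)) * g := by group
        _ = g⁻¹ * ((g * y * g⁻¹) * (g * z * g⁻¹)) * g := by rw [h _ hz']
        _ = y * z := by group
  haveI : (C.subgroupOf J).Normal :=
    Subgroup.normal_subgroupOf_of_le_normalizer (sup_le Subgroup.le_normalizer hPC)
  have hq : IsPGroup p (J ⧸ C.subgroupOf J) := by
    have h1 : (P.subgroupOf J).map (QuotientGroup.mk' (C.subgroupOf J)) = ⊤ := by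
      rw [← top_le_iff, ← Subgroup.map_top_of_surjective _ (QuotientGroup.mk'_surjective _),
        Subgroup.map_le_iff_le_comap, Subgroup.comap_map_eq, QuotientGroup.ker_mk',
        ← Subgroup.subgroupOf_sup hPJ hCJ]
      exact fun x _ => (sup_comm C P).le x.2
    have h2 := (hP.comap_of_injective J.subtype J.subtype_injective).map
      (QuotientGroup.mk' (C.subgroupOf J))
    rw [show P.comap J.subtype = P.subgroupOf J from rfl, h1] at h2
    exact h2.of_equiv Subgroup.topEquiv
  have hJc := charP_of_normal_pGroup_quotient hq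
    (PLocal.centralizer_pCore_le_congr (Subgroup.subgroupOfEquivOfLe hCJ).symm hc)
  set X := (centralizer (P : Set G)).subgroupOf J with hX
  have hXc : X ≤ centralizer ((P.subgroupOf J : Subgroup J) : Set J) := fun x hx =>
    Subgroup.mem_centralizer_iff.mpr fun y hy => Subtype.ext (Subgroup.mem_centralizer_iff.mp hx _ hy)
  have hCX : centralizer ((P.subgroupOf J : Subgroup J) : Set J) ≤ X := fun x hx =>
    Subgroup.mem_centralizer_iff.mpr fun y hy =>
      congrArg Subtype.val (Subgroup.mem_centralizer_iff.mp hx ⟨y, hPJ hy⟩ hy)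
  have h := (PLocal.centralizer_pCore_le_local hJc
    (hP.comap_of_injective J.subtype J.subtype_injective) hCX
    (hXc.trans (Subgroup.centralizer_le_normalizer _)) (Or.inr hXc)).2
  refine PLocal.centralizer_pCore_le_congr (Subgroup.subgroupOfEquivOfLe ?_) h
  exact (Subgroup.centralizer_le hMP).trans hCJ

/-- If `C(A)` has characteristic `p` then so has `C(P)` for every `p`-group `P ≥ A`. -/
theorem centralizer_charP_of_le {A : Subgroup G}
    (hc : centralizer (Cfsg.pCore p (centralizer (A : Set G)) : Set (centralizer (A : Set G))) ≤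
      Cfsg.pCore p (centralizer (A : Set G))) :
    ∀ {P : Subgroup G}, IsPGroup p P → A ≤ P →
      centralizer (Cfsg.pCore p (centralizer (P : Set G)) : Set (centralizer (P : Set G))) ≤
        Cfsg.pCore p (centralizer (P : Set G)) := by
  intro P
  induction hn : Nat.card P using Nat.strong_induction_on generalizing P with
  | _ n ih =>
    intro hP hAP
    by_cases hPA : A = P
    · subst hPA; exact hc
    have hne : A.subgroupOf P ≠ ⊤ := fun e =>
      hPA (le_antisymm hAP (Subgroup.subgroupOf_eq_top.mp e))
    obtain h | ⟨M, hM, hAM⟩ := eq_top_or_exists_le_coatom (A.subgroupOf P)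
    · exact absurd h hne
    haveI hMn : M.Normal := PGroups.normal_of_isCoatom' hP hM
    set M' := M.map P.subtype with hM'
    have hM'P : M' ≤ P := Subgroup.map_subtype_le M
    have hcard : Nat.card M' < n := by
      rw [← hn, hM', Subgroup.card_map_of_injective P.subtype_injective]
      exact card_lt_of_ne_top hM.1
    have hAM' : A ≤ M' := by
      rw [← Subgroup.map_subgroupOf_eq_of_le hAP]
      exact Subgroup.map_mono hAM
    refine centralizer_charP_step hP hM'P ?_ (ih _ hcard rfl (hP.to_le hM'P) hAM')
    intro g hg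
    exact Subgroup.le_normalizer_map P.subtype
      ⟨⟨g, hg⟩, (Subgroup.normalizer_eq_top M).ge (Subgroup.mem_top _), rfl⟩

/-- If `C(A)` has characteristic `p` then so has `N(U)` for every `p`-group `U ≥ A`. -/
theorem normalizer_charP_of_le {A U : Subgroup G}
    (hc : centralizer (Cfsg.pCore p (centralizer (A : Set G)) : Set (centralizer (A : Set G))) ≤
      Cfsg.pCore p (centralizer (A : Set G))) (hU : IsPGroup p U) (hAU : A ≤ U) :
    centralizer (Cfsg.pCore p (normalizer (U : Set G)) : Set (normalizer (U : Set G))) ≤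
      Cfsg.pCore p (normalizer (U : Set G)) := by
  set N := normalizer (U : Set G) with hN
  haveI := pCore_normal (G := N) p
  set R := (Cfsg.pCore p N).map N.subtype with hR
  have hUR : U ≤ R := by
    rw [← Subgroup.map_subgroupOf_eq_of_le (Subgroup.le_normalizer : U ≤ N)]
    exact Subgroup.map_mono (le_pCore Subgroup.normal_in_normalizer
      (hU.comap_of_injective N.subtype N.subtype_injective))
  have hRc := centralizer_charP_of_le hc ((pCore_isPGroup p).map N.subtype) (hAU.trans hUR)
  have hRN : centralizer (R : Set G) ≤ N :=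
    (Subgroup.centralizer_le hUR).trans (Subgroup.centralizer_le_normalizer _)
  set D := centralizer (Cfsg.pCore p N : Set N) with hD
  have hDeq : D = (centralizer (R : Set G)).subgroupOf N := by
    ext x
    constructor
    · intro hx
      refine Subgroup.mem_centralizer_iff.mpr ?_
      rintro _ ⟨y, hy, rfl⟩
      exact congrArg Subtype.val (Subgroup.mem_centralizer_iff.mp hx y hy)
    · intro hx
      exact Subgroup.mem_centralizer_iff.mpr fun y hy =>
        Subtype.ext (Subgroup.mem_centralizer_iff.mp hx _ ⟨y, hy, rfl⟩)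
  haveI hDn : D.Normal := inferInstance
  have hDc : centralizer (Cfsg.pCore p D : Set D) ≤ Cfsg.pCore p D :=
    PLocal.centralizer_pCore_le_congr ((Subgroup.subgroupOfEquivOfLe hRN).symm.trans
      (MulEquiv.subgroupCongr hDeq.symm)) hRc
  intro d hd
  have h1 : (⟨d, hd⟩ : D) ∈ Cfsg.pCore p D := by
    refine hDc (Subgroup.mem_centralizer_iff.mpr fun u hu => Subtype.ext ?_)
    exact Subgroup.mem_centralizer_iff.mp hd _ ((pCore_subnormal p hDn.isSubnormal).le ⟨u, hu, rfl⟩).1
  exact ((pCore_subnormal p hDn.isSubnormal).le ⟨_, h1, rfl⟩).1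

/-- `F* = O_p` in a group of characteristic `p`. -/
theorem gFitting_eq_pCore_of_charP (hc : centralizer (Cfsg.pCore p G : Set G) ≤ Cfsg.pCore p G) :
    Cfsg.generalizedFittingSubgroup G = Cfsg.pCore p G := by
  rw [Cfsg.generalizedFittingSubgroup, layer_eq_bot_of_centralizer_pCore_le hc, bot_sup_eq,
    fitting_eq_pCore_of_core_bot (PLocal.pPrimeCore_eq_bot_of_charP hc)]

end CfsgLib.Components
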