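import Cfsg.Agent.Lib.Components.Component

/-!
# The radicals as characteristic subgroups; behaviour in normal and subnormal subgroups
-/

set_option linter.style.haveILetI false

open scoped Pointwise

namespace CfsgLib.Components

open Subgroup

variable {G : Type*} [Group G] {H : Type*} [Group H]

theorem fitting_map_le (e : G ≃* H) :
    (Cfsg.fittingSubgroup G).map e.toMonoidHom ≤ Cfsg.fittingSubgroup H := by
  rw [Subgroup.map_le_iff_le_comap]
  refine sSup_le fun N hN => ?_
  rw [← Subgroup.map_le_iff_le_comap]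
  exact le_fitting (hN.1.map e.toMonoidHom e.surjective)
    ((Group.isNilpotent_congr (N.equivMapOfInjective _ e.injective)).mp hN.2)

theorem fitting_map_equiv (e : G ≃* H) :
    (Cfsg.fittingSubgroup G).map e.toMonoidHom = Cfsg.fittingSubgroup H := by
  refine le_antisymm (fitting_map_le e) ?_
  rw [Subgroup.map_equiv_eq_comap_symm' e, ← Subgroup.map_le_iff_le_comap]
  exact fitting_map_le e.symm

theorem fitting_characteristic : (Cfsg.fittingSubgroup G).Characteristic :=
  Subgroup.characteristic_iff_map_eq.mpr fun e => fitting_map_equiv e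

theorem pCore_map_le (p : ℕ) (e : G ≃* H) :
    (Cfsg.pCore p G).map e.toMonoidHom ≤ Cfsg.pCore p H := by
  rw [Subgroup.map_le_iff_le_comap]
  refine sSup_le fun N hN => ?_
  rw [← Subgroup.map_le_iff_le_comap]
  exact le_pCore (hN.1.map e.toMonoidHom e.surjective) (hN.2.map _)

theorem pCore_map_equiv (p : ℕ) (e : G ≃* H) :
    (Cfsg.pCore p G).map e.toMonoidHom = Cfsg.pCore p H := by
  refine le_antisymm (pCore_map_le p e) ?_
  rw [Subgroup.map_equiv_eq_comap_symm' e, ← Subgroup.map_le_iff_le_comap]
  exact pCore_map_le p e.symm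

theorem pCore_characteristic (p : ℕ) : (Cfsg.pCore p G).Characteristic :=
  Subgroup.characteristic_iff_map_eq.mpr fun e => pCore_map_equiv p e

theorem pPrimeCore_map_le (p : ℕ) (e : G ≃* H) :
    (Cfsg.pPrimeCore p G).map e.toMonoidHom ≤ Cfsg.pPrimeCore p H := by
  rw [Subgroup.map_le_iff_le_comap]
  refine sSup_le fun N hN => ?_
  rw [← Subgroup.map_le_iff_le_comap]
  refine le_pPrimeCore (hN.1.map e.toMonoidHom e.surjective) ?_
  rw [Subgroup.card_map_of_injective e.injective]
  exact hN.2

theorem pPrimeCore_map_equiv (p : ℕ) (e : G ≃* H) :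
    (Cfsg.pPrimeCore p G).map e.toMonoidHom = Cfsg.pPrimeCore p H := by
  refine le_antisymm (pPrimeCore_map_le p e) ?_
  rw [Subgroup.map_equiv_eq_comap_symm' e, ← Subgroup.map_le_iff_le_comap]
  exact pPrimeCore_map_le p e.symm

theorem pPrimeCore_characteristic (p : ℕ) : (Cfsg.pPrimeCore p G).Characteristic :=
  Subgroup.characteristic_iff_map_eq.mpr fun e => pPrimeCore_map_equiv p e

theorem solRadical_map_le (e : G ≃* H) :
    (solRadical G).map e.toMonoidHom ≤ solRadical H := by
  rw [Subgroup.map_le_iff_le_comap]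
  refine sSup_le fun N hN => ?_
  rw [← Subgroup.map_le_iff_le_comap]
  haveI := hN.2
  exact le_solRadical (hN.1.map e.toMonoidHom e.surjective)
    (Group.isSolvable_of_surjective (f := (N.equivMapOfInjective _ e.injective).toMonoidHom)
      (MulEquiv.surjective _))

theorem solRadical_map_equiv (e : G ≃* H) :
    (solRadical G).map e.toMonoidHom = solRadical H := by
  refine le_antisymm (solRadical_map_le e) ?_
  rw [Subgroup.map_equiv_eq_comap_symm' e, ← Subgroup.map_le_iff_le_comap]
  exact solRadical_map_le e.symm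

theorem solRadical_characteristic : (solRadical G).Characteristic :=
  Subgroup.characteristic_iff_map_eq.mpr fun e => solRadical_map_equiv e

/-- `O_p` of a subnormal subgroup. -/
theorem pCore_subnormal [Finite G] (p : ℕ) {K : Subgroup G} (hK : K.IsSubnormal) :
    (Cfsg.pCore p K).map K.subtype = Cfsg.pCore p G ⊓ K := by
  refine le_antisymm (le_inf (subnormal_pGroup_le_pCore
    ((pCore_normal p).isSubnormal.trans' hK) ((pCore_isPGroup p).map _))
    (Subgroup.map_subtype_le _)) ?_
  rw [← map_subtype_subgroupOf (inf_le_right : Cfsg.pCore p G ⊓ K ≤ K)]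
  refine Subgroup.map_mono (subnormal_pGroup_le_pCore
    (((pCore_normal p).isSubnormal.inf hK).subgroupOf (K := K)) ?_)
  exact ((pCore_isPGroup p).to_le inf_le_left).of_equiv
    (Subgroup.subgroupOfEquivOfLe inf_le_right).symm

/-- `O_{p'}` of a subnormal subgroup. -/
theorem pPrimeCore_subnormal [Finite G] (p : ℕ) {K : Subgroup G} (hK : K.IsSubnormal) :
    (Cfsg.pPrimeCore p K).map K.subtype = Cfsg.pPrimeCore p G ⊓ K := by
  refine le_antisymm (le_inf (subnormal_coprime_le_pPrimeCore
    ((pPrimeCore_normal p).isSubnormal.trans' hK) ?_)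
    (Subgroup.map_subtype_le _)) ?_
  · rw [Subgroup.card_map_of_injective K.subtype_injective]
    exact pPrimeCore_coprime p
  rw [← map_subtype_subgroupOf (inf_le_right : Cfsg.pPrimeCore p G ⊓ K ≤ K)]
  refine Subgroup.map_mono (subnormal_coprime_le_pPrimeCore
    (((pPrimeCore_normal p).isSubnormal.inf hK).subgroupOf (K := K)) ?_)
  rw [Nat.card_congr (Subgroup.subgroupOfEquivOfLe inf_le_right).toEquiv]
  exact (pPrimeCore_coprime p).coprime_dvd_left (Subgroup.card_dvd_of_le inf_le_left)

/-- The Fitting subgroup of a subnormal subgroup. -/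
theorem fitting_subnormal [Finite G] {K : Subgroup G} (hK : K.IsSubnormal) :
    (Cfsg.fittingSubgroup K).map K.subtype = Cfsg.fittingSubgroup G ⊓ K := by
  refine le_antisymm (le_inf (subnormal_nilpotent_le_fitting
    (fitting_normal.isSubnormal.trans' hK) ?_) (Subgroup.map_subtype_le _)) ?_
  · exact (Group.isNilpotent_congr
      (Subgroup.equivMapOfInjective _ _ K.subtype_injective)).mp fitting_isNilpotent
  rw [← map_subtype_subgroupOf (inf_le_right : Cfsg.fittingSubgroup G ⊓ K ≤ K)]
  refine Subgroup.map_mono (subnormal_nilpotent_le_fitting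
    ((fitting_normal.isSubnormal.inf hK).subgroupOf (K := K)) ?_)
  haveI := fitting_isNilpotent (G := G)
  exact (Group.isNilpotent_congr (Subgroup.subgroupOfEquivOfLe inf_le_right)).mpr
    ((Group.isNilpotent_congr (Subgroup.subgroupOfEquivOfLe inf_le_left)).mp inferInstance)

end CfsgLib.Components
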