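import Cfsg.Agent.Lib.Components.PComponentExtra
import Cfsg.Agent.Lib.Core.Coprime
import Cfsg.Agent.Lib.Core.SolvableStruct
import Cfsg.Agent.Lib.PLocal.PConstrained
import Cfsg.Agent.Lib.Transfer.PResidual

/-!
# The `p`-layer, `p`-constraint and `p`-local subgroups

* `pLayer_normal`, `isPComponent_map_subtype_iff`, `isPComponent_map_equiv`;
* `layer_eq_bot_iff_centralizer_pCore_le` (for `O_{p'} = 1`);
* `pLayer_commutes_pCore`; `centralizes_pCore_of_local`.
-/

set_option autoImplicit false
set_option linter.style.haveILetI false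

namespace CfsgLib.Components

open Subgroup
open CfsgLib.Signalizer
open scoped Pointwise commutatorElement

variable {G : Type*} [Group G] [Finite G] {p : ℕ} [hp : Fact p.Prime]

/-! ### Transport -/

omit [Finite G] hp in
theorem map_equiv_normal {H : Type*} [Group H] (e : G ≃* H) {N : Subgroup G} (hN : N.Normal) :
    (N.map e.toMonoidHom).Normal := hN.map _ e.surjective

omit hp in
theorem isPComponent_map_equiv {H : Type*} [Group H] [Finite H] (e : G ≃* H) {K : Subgroup G}
    (hK : Cfsg.IsPComponent p K) : Cfsg.IsPComponent p (K.map e.toMonoidHom) := by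
  have hmap : (Cfsg.pPrimeCore p G).map e.toMonoidHom = Cfsg.pPrimeCore p H :=
    Core.map_equiv_pPrimeCore e
  set ψ := QuotientGroup.congr (Cfsg.pPrimeCore p G) (Cfsg.pPrimeCore p H) e hmap with hψ
  have hcomm : ∀ A : Subgroup G, (A.map e.toMonoidHom).map (modCore p H) =
      (A.map (modCore p G)).map ψ.toMonoidHom := by
    intro A
    rw [Subgroup.map_map, Subgroup.map_map]
    congr 1
  refine ⟨hK.1.map e.surjective, ?_, fun A hA hle heq => ?_⟩
  · show Cfsg.IsComponent ((K.map e.toMonoidHom).map (modCore p H))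
    rw [hcomm]
    exact isComponent_map_equiv ψ hK.2.1
  · have hA' : A = (A.comap e.toMonoidHom).map e.toMonoidHom :=
      (Subgroup.map_comap_eq_self_of_surjective e.surjective A).symm
    rw [hA']
    congr 1
    refine hK.2.2 _ (hA.comap _) ?_ ?_
    · rw [← Subgroup.comap_map_eq_self_of_injective (f := e.toMonoidHom) e.injective K]
      exact Subgroup.comap_mono hle
    · refine Subgroup.map_injective ψ.injective ?_
      change A.map (modCore p H) = (K.map e.toMonoidHom).map (modCore p H) at heq
      rw [hA', hcomm, hcomm] at heq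
      exact heq

omit hp in
theorem isPComponent_conj {K : Subgroup G} (hK : Cfsg.IsPComponent p K) (g : G) :
    Cfsg.IsPComponent p (MulAut.conj g • K) :=
  isPComponent_map_equiv (MulAut.conj g) hK

omit hp in
theorem pLayer_normal : (Cfsg.pLayer p G).Normal := by
  refine ⟨fun x hx g => ?_⟩
  have h : (Cfsg.pLayer p G).map (MulAut.conj g).toMonoidHom ≤ Cfsg.pLayer p G := by
    rw [Subgroup.map_le_iff_le_comap]
    exact sSup_le fun K hK => Subgroup.map_le_iff_le_comap.mp
      (pComponent_le_pLayer (isPComponent_conj hK g))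
  exact h ⟨x, hx, rfl⟩

omit hp in
theorem pLayer_map_equiv {H : Type*} [Group H] [Finite H] (e : G ≃* H) :
    (Cfsg.pLayer p G).map e.toMonoidHom = Cfsg.pLayer p H := by
  apply le_antisymm
  · rw [Subgroup.map_le_iff_le_comap]
    exact sSup_le fun K hK => Subgroup.map_le_iff_le_comap.mp
      (pComponent_le_pLayer (isPComponent_map_equiv e hK))
  · refine sSup_le fun K hK => ?_
    rw [Subgroup.map_equiv_eq_comap_symm' e, ← Subgroup.map_le_iff_le_comap]
    exact pComponent_le_pLayer (isPComponent_map_equiv e.symm hK)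

omit hp in
theorem isPComponent_map_subtype_iff {H : Subgroup G} (hH : H.IsSubnormal) {K : Subgroup H} :
    Cfsg.IsPComponent p (K.map H.subtype) ↔ Cfsg.IsPComponent p K := by
  have hcore : ∀ x : H, x ∈ Cfsg.pPrimeCore p H ↔ (x : G) ∈ Cfsg.pPrimeCore p G := by
    intro x
    constructor
    · intro hx
      exact ((pPrimeCore_subnormal p hH).le ⟨x, hx, rfl⟩).1
    · intro hx
      obtain ⟨y, hy, e⟩ := (pPrimeCore_subnormal p hH).ge ⟨hx, x.2⟩
      rwa [← Subtype.ext e]
  set f := modCore p G
  set j : H ⧸ Cfsg.pPrimeCore p H →* G ⧸ Cfsg.pPrimeCore p G :=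
    QuotientGroup.map _ _ H.subtype (fun x hx => (hcore x).mp hx) with hj
  have hjinj : Function.Injective j := by
    rw [← MonoidHom.ker_eq_bot_iff, eq_bot_iff]
    intro y hy
    induction y using QuotientGroup.induction_on with
    | _ x =>
      exact Subgroup.mem_bot.mpr ((QuotientGroup.eq_one_iff x).mpr
        ((hcore x).mpr ((QuotientGroup.eq_one_iff (x : G)).mp hy)))
  have hmap : ∀ A : Subgroup H, (A.map H.subtype).map f = (A.map (modCore p H)).map j := by
    intro A
    rw [Subgroup.map_map, Subgroup.map_map]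
    congr 1
  have hrange : j.range.IsSubnormal := by
    have h1 : (H.map f).IsSubnormal := hH.map modCore_surjective
    convert h1 using 1
    rw [MonoidHom.range_eq_map, ← Subgroup.map_top_of_surjective (modCore p H) modCore_surjective,
      ← hmap, ← MonoidHom.range_eq_map, Subgroup.range_subtype]
  have hsn : ∀ B : Subgroup (H ⧸ Cfsg.pPrimeCore p H), (B.map j).IsSubnormal ↔ B.IsSubnormal := by
    intro B
    set e := MonoidHom.ofInjective hjinj
    have he : (B.map e.toMonoidHom).map j.range.subtype = B.map j := by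
      rw [Subgroup.map_map]; rfl
    constructor
    · intro h
      have h2 : (B.map e.toMonoidHom).IsSubnormal := by
        have := h.subgroupOf (K := j.range)
        rwa [← he, Subgroup.subgroupOf, Subgroup.comap_map_eq_self_of_injective
          j.range.subtype_injective] at this
      have h3 := isSubnormal_map_equiv e.symm h2
      rwa [Subgroup.map_map, show e.symm.toMonoidHom.comp e.toMonoidHom = MonoidHom.id _ from
        MonoidHom.ext fun y => e.symm_apply_apply y, Subgroup.map_id] at h3
    · intro h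
      have := (isSubnormal_map_equiv e h).trans' hrange
      rwa [he] at this
  have hcomp : ∀ A : Subgroup H, Cfsg.IsComponent ((A.map H.subtype).map f) ↔
      Cfsg.IsComponent (A.map (modCore p H)) := by
    intro A
    rw [hmap]
    refine and_congr (hsn _) ?_
    exact isQuasisimple_congr (Subgroup.equivMapOfInjective _ j hjinj).symm
  constructor
  · rintro ⟨h1, h2, h3⟩
    refine ⟨?_, (hcomp K).mp h2, fun A hA hle heq => ?_⟩
    · have := h1.subgroupOf (K := H)
      rwa [Subgroup.subgroupOf, Subgroup.comap_map_eq_self_of_injective H.subtype_injective] at this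
    · refine Subgroup.map_injective H.subtype_injective
        (h3 _ (hA.trans' hH) (Subgroup.map_mono hle) ?_)
      show (A.map H.subtype).map f = (K.map H.subtype).map f
      rw [hmap, hmap]
      exact congrArg (Subgroup.map j) heq
  · rintro ⟨h1, h2, h3⟩
    refine ⟨h1.trans' hH, (hcomp K).mpr h2, fun A hA hle heq => ?_⟩
    have hAH : A ≤ H := hle.trans (Subgroup.map_subtype_le _)
    have hA' : A = (A.subgroupOf H).map H.subtype := (Subgroup.map_subgroupOf_eq_of_le hAH).symm
    rw [hA']
    congr 1
    refine h3 _ hA.subgroupOf ?_ (Subgroup.map_injective hjinj ?_)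
    · rw [← Subgroup.comap_map_eq_self_of_injective H.subtype_injective K]
      exact Subgroup.comap_mono hle
    · change A.map f = (K.map H.subtype).map f at heq
      show ((A.subgroupOf H).map (modCore p H)).map j = (K.map (modCore p H)).map j
      rw [← hmap, ← hmap, ← hA']
      exact heq

omit hp in
theorem map_pLayer_subnormal_le {H : Subgroup G} (hH : H.IsSubnormal) :
    (Cfsg.pLayer p H).map H.subtype ≤ Cfsg.pLayer p G := by
  rw [Subgroup.map_le_iff_le_comap]
  exact sSup_le fun K hK => Subgroup.map_le_iff_le_comap.mp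
    (pComponent_le_pLayer ((isPComponent_map_subtype_iff hH).mpr hK))

omit hp in
theorem map_pLayer_eq_of_le {H : Subgroup G} (hH : H.IsSubnormal)
    (h : Cfsg.pLayer p G ≤ H) : (Cfsg.pLayer p H).map H.subtype = Cfsg.pLayer p G := by
  refine le_antisymm (map_pLayer_subnormal_le hH) (sSup_le fun K hK => ?_)
  have hle : K ≤ H := (pComponent_le_pLayer hK).trans h
  rw [← Subgroup.map_subgroupOf_eq_of_le hle]
  refine Subgroup.map_mono (pComponent_le_pLayer ((isPComponent_map_subtype_iff hH).mp ?_))
  rwa [Subgroup.map_subgroupOf_eq_of_le hle]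

/-! ### Perfect subgroups and elements of order prime to `p` -/

omit hp in
theorem perfect_le_pResidual [Fact p.Prime]
    (hG : ⁅(⊤ : Subgroup G), (⊤ : Subgroup G)⁆ = ⊤) :
    Cfsg.pResidual p G = ⊤ := by
  by_contra hne
  haveI : (Cfsg.pResidual p G).Normal := Transfer.pResidual_normal
  haveI := (Transfer.isPGroup_quotient_pResidual (p := p) (G := G)).isNilpotent
  haveI : Nontrivial (G ⧸ Cfsg.pResidual p G) := by
    rw [← Finite.one_lt_card_iff_nontrivial, ← Subgroup.index_eq_card]
    exact Subgroup.one_lt_index_of_ne_top hne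
  refine (Group.IsSolvable.commutator_lt_top_of_nontrivial (G ⧸ Cfsg.pResidual p G)).ne ?_
  rw [commutator_def, ← Subgroup.map_top_of_surjective _ (QuotientGroup.mk'_surjective (Cfsg.pResidual p G)),
    ← Subgroup.map_commutator, hG]

/-- A perfect subgroup lies in whatever contains its elements of order prime to `p`. -/
theorem perfect_le_of_coprime {H C : Subgroup G} (hH : ⁅H, H⁆ = H)
    (h : ∀ x ∈ H, (orderOf x).Coprime p → x ∈ C) : H ≤ C := by
  have hp' : ⁅(⊤ : Subgroup H), (⊤ : Subgroup H)⁆ = ⊤ := by
    refine Subgroup.map_injective H.subtype_injective ?_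
    rw [Subgroup.map_commutator, ← MonoidHom.range_eq_map, Subgroup.range_subtype, hH]
  intro x hx
  have hle : Cfsg.pResidual p H ≤ C.subgroupOf H := Transfer.pResidual_le_iff.mpr fun y hy =>
    Subgroup.mem_subgroupOf.mpr (h y y.2 (by rwa [Subgroup.orderOf_coe]))
  rw [perfect_le_pResidual hp'] at hle
  exact Subgroup.mem_subgroupOf.mp (hle (Subgroup.mem_top ⟨x, hx⟩))

theorem pLayer_perfect : ⁅Cfsg.pLayer p G, Cfsg.pLayer p G⁆ = Cfsg.pLayer p G :=
  le_antisymm (Subgroup.commutator_le_self _) (sSup_le fun K hK =>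
    (pComponent_perfect hK).ge.trans
      (Subgroup.commutator_mono (pComponent_le_pLayer hK) (pComponent_le_pLayer hK)))

/-! ### `O_{p'} = 1` -/

theorem fitting_eq_pCore_of_core_bot (h : Cfsg.pPrimeCore p G = ⊥) :
    Cfsg.fittingSubgroup G = Cfsg.pCore p G := by
  refine le_antisymm ?_ (pCore_le_fitting p)
  rw [Core.fittingSubgroup_eq_finset_sup]
  refine Finset.sup_le fun q hq => ?_
  by_cases hqp : q = p
  · exact hqp ▸ le_rfl
  · exact (Core.pCore_le_pPrimeCore_of_ne hp.out (Nat.prime_of_mem_primeFactors hq) hqp).trans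
      (h ▸ bot_le)

theorem centralizer_pCore_le_of_layer_eq_bot (h : Cfsg.pPrimeCore p G = ⊥)
    (hl : Cfsg.layer G = ⊥) :
    Subgroup.centralizer (Cfsg.pCore p G : Set G) ≤ Cfsg.pCore p G := by
  rw [← fitting_eq_pCore_of_core_bot h]
  exact centralizer_fitting_le_of_layer_eq_bot hl

theorem layer_eq_bot_of_centralizer_pCore_le
    (hc : Subgroup.centralizer (Cfsg.pCore p G : Set G) ≤ Cfsg.pCore p G) :
    Cfsg.layer G = ⊥ := by
  refine layer_eq_bot_iff.mpr fun L hL => ?_
  have h1 : L ≤ Cfsg.pCore p G := (le_layer hL).trans (le_trans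
    (Subgroup.commutator_eq_bot_iff_le_centralizer.mp layer_commutes_fitting)
    ((Subgroup.centralizer_le (pCore_le_fitting p)).trans hc))
  haveI := ((pCore_isPGroup (G := G) p).to_le h1).isNilpotent
  exact IsComponent.not_isSolvable hL inferInstance

theorem isPConstrained_iff_pLayer_eq_bot : Cfsg.IsPConstrained p G ↔ Cfsg.pLayer p G = ⊥ := by
  rw [PLocal.isPConstrained_iff, pLayer_eq_bot_iff]
  exact ⟨layer_eq_bot_of_centralizer_pCore_le,
    centralizer_pCore_le_of_layer_eq_bot (Core.pPrimeCore_quotient_pPrimeCore p G)⟩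

/-! ### `p`-local subgroups -/

theorem pLayer_commutes_pCore : ⁅Cfsg.pLayer p G, Cfsg.pCore p G⁆ = ⊥ := by
  rw [eq_bot_iff, ← Core.pCore_inf_pPrimeCore (G := G) hp.out]
  refine le_inf ?_ ?_
  · haveI := pCore_normal (G := G) p
    exact Subgroup.commutator_le_right _ _
  · conv_rhs => rw [← QuotientGroup.ker_mk' (Cfsg.pPrimeCore p G)]
    rw [← Subgroup.map_eq_bot_iff, Subgroup.map_commutator, eq_bot_iff, ← layer_commutes_fitting]
    exact Subgroup.commutator_mono pLayer_map.le
      ((Core.map_pCore_le _ (QuotientGroup.mk'_surjective _)).trans (pCore_le_fitting p))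

theorem pPrimeCore_commutes_pCore : ⁅Cfsg.pPrimeCore p G, Cfsg.pCore p G⁆ = ⊥ := by
  haveI := pCore_normal (G := G) p
  haveI := pPrimeCore_normal (G := G) p
  rw [eq_bot_iff, ← Core.pCore_inf_pPrimeCore (G := G) hp.out]
  exact le_inf (Subgroup.commutator_le_right _ _) (Subgroup.commutator_le_left _ _)

/-- An element of order prime to `p` centralizing `O_p(N_G(P))` centralizes `O_p(G)`. -/
theorem centralizes_pCore_of_local {P : Subgroup G} (hP : IsPGroup p P) {x : G}
    (hx : (orderOf x).Coprime p)
    (hc : x ∈ Subgroup.centralizer (((Cfsg.pCore p (normalizer (P : Set G))).map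
      (normalizer (P : Set G)).subtype : Subgroup G) : Set G)) :
    x ∈ Subgroup.centralizer (Cfsg.pCore p G : Set G) := by
  set N := normalizer (P : Set G)
  haveI := pCore_normal (G := G) p
  have hPc : P ≤ (Cfsg.pCore p N).map N.subtype := by
    rw [← Subgroup.map_subgroupOf_eq_of_le (Subgroup.le_normalizer : P ≤ N)]
    exact Subgroup.map_mono (le_pCore Subgroup.normal_in_normalizer
      (hP.comap_of_injective _ N.subtype_injective))
  have hRN : Cfsg.pCore p G ⊓ N ≤ (Cfsg.pCore p N).map N.subtype := by
    rw [← Subgroup.map_subgroupOf_eq_of_le (inf_le_right : Cfsg.pCore p G ⊓ N ≤ N)]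
    refine Subgroup.map_mono ((Subgroup.comap_mono inf_le_left).trans ?_)
    exact Core.pCore_subgroupOf_le N
  refine Subgroup.zpowers_le.mp (Core.pq_lemma hP (Q := Subgroup.zpowers x)
    (by rwa [Nat.card_zpowers]) (pCore_isPGroup p) ?_ Subgroup.le_normalizer_of_normal
    Subgroup.le_normalizer_of_normal ?_)
  · intro y hy
    rw [Subgroup.zpowers_eq_closure, Subgroup.centralizer_closure,
      Subgroup.mem_centralizer_singleton_iff]
    exact Subgroup.mem_centralizer_iff.mp hc y (hPc hy)
  · intro y hy
    rw [Subgroup.zpowers_eq_closure, Subgroup.centralizer_closure,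
      Subgroup.mem_centralizer_singleton_iff]
    exact Subgroup.mem_centralizer_iff.mp hc y
      (hRN ⟨hy.1, Subgroup.centralizer_le_normalizer _ hy.2⟩)

end CfsgLib.Components
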