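import Cfsg.Agent.Lib.Components.PLayer

/-!
# Components and `p`-local subgroups (`O_{p'}(G) = 1`)

* `map_pLayer_of_subnormal_le`, `map_pPrimeCore_of_subnormal_le`: transport between subgroups;
* `local_normalizes_component`: `L_{p'}(N_G(P))` and `O_{p'}(N_G(P))` normalize every component;
* `component_commutes_core_centralizer`: `⁅L, O_{p'}(C_G(x))⁆ = 1` when `⁅L, x⁆ ≠ L`.
-/

set_option autoImplicit false
set_option linter.style.haveILetI false

namespace CfsgLib.Components

open Subgroup
open CfsgLib.Signalizer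
open scoped Pointwise commutatorElement

variable {G : Type*} [Group G] [Finite G] {p : ℕ}

/-! ### Transport between subgroups -/

omit [Finite G] in
theorem normalizer_le_normalizer_centralizer' (A : Subgroup G) :
    normalizer (A : Set G) ≤ normalizer (centralizer (A : Set G) : Set G) := by
  intro c hc
  rw [Subgroup.mem_normalizer_iff]
  intro y
  rw [Subgroup.mem_centralizer_iff, Subgroup.mem_centralizer_iff]
  constructor
  · intro h z hz
    have hz' : c⁻¹ * z * c ∈ A := by
      have := (Subgroup.mem_normalizer_iff.mp (inv_mem hc) z).mp hz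
      rwa [inv_inv] at this
    calc z * (c * y * c⁻¹) = c * ((c⁻¹ * z * c) * y) * c⁻¹ := by group
      _ = c * (y * (c⁻¹ * z * c)) * c⁻¹ := by rw [h _ hz']
      _ = c * y * c⁻¹ * z := by group
  · intro h z hz
    have hz' : c * z * c⁻¹ ∈ A := (Subgroup.mem_normalizer_iff.mp hc z).mp hz
    calc z * y = c⁻¹ * ((c * z * c⁻¹) * (c * y * c⁻¹)) * c := by group
      _ = c⁻¹ * ((c * y * c⁻¹) * (c * z * c⁻¹)) * c := by rw [h _ hz']
      _ = y * z := by group

theorem map_pLayer_of_subnormal_le {C H : Subgroup G} (hCH : C ≤ H)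
    (hsn : (C.subgroupOf H).IsSubnormal) :
    (Cfsg.pLayer p C).map C.subtype ≤ (Cfsg.pLayer p H).map H.subtype ∧
      ((Cfsg.pLayer p H).map H.subtype ≤ C →
        (Cfsg.pLayer p C).map C.subtype = (Cfsg.pLayer p H).map H.subtype) := by
  have he : (Cfsg.pLayer p C).map C.subtype =
      ((Cfsg.pLayer p (C.subgroupOf H)).map (C.subgroupOf H).subtype).map H.subtype := by
    rw [← pLayer_map_equiv (Subgroup.subgroupOfEquivOfLe hCH), Subgroup.map_map, Subgroup.map_map]
    rfl
  refine ⟨he ▸ Subgroup.map_mono (map_pLayer_subnormal_le hsn), fun h => ?_⟩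
  rw [he, map_pLayer_eq_of_le hsn (Subgroup.map_le_iff_le_comap.mp h)]

theorem map_pPrimeCore_of_subnormal_le {C H : Subgroup G} (hCH : C ≤ H)
    (hsn : (C.subgroupOf H).IsSubnormal) :
    (Cfsg.pPrimeCore p C).map C.subtype = (Cfsg.pPrimeCore p H).map H.subtype ⊓ C := by
  have he : (Cfsg.pPrimeCore p C).map C.subtype =
      ((Cfsg.pPrimeCore p (C.subgroupOf H)).map (C.subgroupOf H).subtype).map H.subtype := by
    rw [← Core.map_equiv_pPrimeCore (Subgroup.subgroupOfEquivOfLe hCH), Subgroup.map_map,
      Subgroup.map_map]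
    rfl
  rw [he, pPrimeCore_subnormal p hsn, Subgroup.map_inf_eq _ _ _ H.subtype_injective,
    Subgroup.map_subgroupOf_eq_of_le hCH]

variable [hp : Fact p.Prime]

/-! ### Elements permuting components -/

/-- If `W` is a `p'`-subgroup containing all `⁅k, e⁆` for `e` in `E(G) ∩ N(P)`, where `P ≥ O_p(G)` is
centralized by the `p'`-element `k`, then `k` normalizes every component. -/
theorem normalizes_component_of_commutator (hO : Cfsg.pPrimeCore p G = ⊥) {P : Subgroup G}
    (hP : IsPGroup p P) (hR : Cfsg.pCore p G ≤ P) {W : Subgroup G}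
    (hW : (Nat.card W).Coprime p) {k : G} (hk : (orderOf k).Coprime p)
    (hkP : ∀ g ∈ P, g * k = k * g)
    (hkW : ∀ e ∈ Cfsg.layer G, e ∈ normalizer (P : Set G) → ⁅k, e⁆ ∈ W)
    {L : Subgroup G} (hL : Cfsg.IsComponent L) : k ∈ normalizer (L : Set G) := by
  have hcomp : ∀ g : G, Cfsg.IsComponent (MulAut.conj g • L) := fun g => isComponent_conj hL g
  suffices h : ∃ g ∈ P, MulAut.conj k • L = MulAut.conj g • L by
    obtain ⟨g, hg, hkg⟩ := h
    have hpow : ∀ n : ℕ, MulAut.conj (k ^ n) • L = MulAut.conj (g ^ n) • L := by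
      intro n
      induction n with
      | zero => rw [pow_zero, pow_zero]
      | succ n ih =>
        have hc : g * k ^ n = k ^ n * g :=
          ((show Commute g k from hkP g hg).pow_right n).eq
        rw [pow_succ, map_mul, mul_smul, hkg, ← mul_smul, ← map_mul, ← hc, map_mul, mul_smul, ih,
          ← mul_smul, ← map_mul, ← pow_succ']
    obtain ⟨a, ha⟩ := IsPGroup.iff_orderOf.mp hP ⟨g, hg⟩
    rw [Subgroup.orderOf_mk] at ha
    have h1 : k ^ p ^ a ∈ normalizer (L : Set G) := by
      refine mem_normalizer_of_smul_eq_self ?_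
      rw [hpow, ← ha, pow_orderOf_eq_one, map_one, one_smul]
    obtain ⟨m, hm⟩ := exists_pow_eq_self_of_coprime (x := k) (n := p ^ a)
      (hk.symm.pow_left a)
    rw [← hm]
    exact pow_mem h1 m
  by_contra hno
  push Not at hno
  set H := ⨆ g : P, MulAut.conj (g : G) • L with hH
  have hLH : L ≤ H := le_iSup_of_le (⟨1, one_mem P⟩ : P) (by simp)
  have hmem : ∀ g : P, MulAut.conj (g : G) • L ≤ H := fun g =>
    le_iSup (fun g : P => MulAut.conj (g : G) • L) g
  have hHE : H ≤ Cfsg.layer G := iSup_le fun g => le_layer (hcomp g)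
  have hEH : Cfsg.layer G ≤ normalizer (H : Set G) := by
    intro c hc
    refine mem_normalizer_of_smul_eq_self (Subgroup.eq_of_le_of_card_ge ?_ ?_)
    · rw [Subgroup.pointwise_smul_subset_iff]
      refine iSup_le fun g => ?_
      rw [← Subgroup.pointwise_smul_subset_iff,
        smul_eq_self_of_mem_normalizer (component_le_normalizer_layer_member (hcomp g) hc)]
      exact hmem g
    · exact (Nat.card_congr (Subgroup.equivSMul (MulAut.conj c) H).toEquiv).le
  have hPH : P ≤ normalizer (H : Set G) := by
    intro c hc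
    refine mem_normalizer_of_smul_eq_self (Subgroup.eq_of_le_of_card_ge ?_ ?_)
    · rw [Subgroup.pointwise_smul_subset_iff]
      refine iSup_le fun g => ?_
      rw [← Subgroup.pointwise_smul_subset_iff, ← mul_smul, ← map_mul]
      exact hmem ⟨c * g, mul_mem hc g.2⟩
    · exact (Nat.card_congr (Subgroup.equivSMul (MulAut.conj c) H).toEquiv).le
  have hperf : ⁅H, H⁆ = H := le_antisymm (Subgroup.commutator_le_self H)
    (iSup_le fun g => (IsComponent.commutator_eq_self (hcomp g)).ge.trans
      (Subgroup.commutator_mono (hmem g) (hmem g)))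
  -- the centre of `H` lies in `P`
  set Z := H ⊓ centralizer (H : Set G) with hZdef
  have hZP : Z ≤ P := by
    refine le_trans ?_ hR
    rw [← fitting_eq_pCore_of_core_bot hO]
    haveI : IsMulCommutative Z := ⟨⟨fun a b => Subtype.ext
      (Subgroup.mem_centralizer_iff.mp b.2.2 a a.2.1)⟩⟩
    refine subnormal_nilpotent_le_fitting ?_
      (@CommGroup.isNilpotent Z { (inferInstance : Group Z) with mul_comm := mul_comm' })
    have hZE : Z ≤ Cfsg.layer G := inf_le_left.trans hHE
    have hn : (Z.subgroupOf (Cfsg.layer G)).Normal := by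
      refine (Subgroup.normal_subgroupOf_iff_le_normalizer hZE).mpr ?_
      refine le_trans ?_ Subgroup.inf_normalizer_le_normalizer_inf
      exact le_inf hEH (hEH.trans (normalizer_le_normalizer_centralizer' H))
    have := hn.isSubnormal.trans' (layer_normal (G := G)).isSubnormal
    rwa [Subgroup.map_subgroupOf_eq_of_le hZE] at this
  -- a `p`-element of `H ∩ N(P)` outside the centre
  obtain ⟨e, heH, heN, hep, heZ⟩ : ∃ e ∈ H, e ∈ normalizer (P : Set G) ∧
      (∃ j, orderOf e = p ^ j) ∧ e ∉ Z := by
    obtain ⟨S, hS⟩ := (hP.comap_of_injective (H ⊔ P).subtype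
      (H ⊔ P).subtype_injective).exists_le_sylow
    set T := (S : Subgroup ↥(H ⊔ P)).map (H ⊔ P).subtype with hT
    have hPT : P ≤ T := by
      rw [← Subgroup.map_subgroupOf_eq_of_le (le_sup_right : P ≤ H ⊔ P)]
      exact Subgroup.map_mono hS
    have hTHP : T ≤ H ⊔ P := Subgroup.map_subtype_le _
    have hTH : T ≤ normalizer (H : Set G) :=
      hTHP.trans (sup_le Subgroup.le_normalizer hPH)
    have hTp : IsPGroup p T := S.isPGroup'.map _
    have hnot : ¬ T ⊓ H ≤ Z := by
      intro hle
      have h4 := Core.card_sup_mul_card_inf T H hTH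
      have h5 : T ⊔ H = H ⊔ P :=
        le_antisymm (sup_le hTHP le_sup_left) (sup_le le_sup_right (hPT.trans le_sup_left))
      have hi : ¬ p ∣ (T ⊓ H).relIndex H := by
        intro hd
        have h6 : T.relIndex (H ⊔ P) = (T ⊓ H).relIndex H := by
          have a1 : Nat.card T * T.relIndex (H ⊔ P) = Nat.card ↥(H ⊔ P) := by
            rw [← Subgroup.relIndex_bot_left T, Subgroup.relIndex_mul_relIndex _ _ _ bot_le hTHP,
              Subgroup.relIndex_bot_left]
          have a2 : Nat.card ↥(T ⊓ H) * (T ⊓ H).relIndex H = Nat.card H := by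
            rw [← Subgroup.relIndex_bot_left (T ⊓ H),
              Subgroup.relIndex_mul_relIndex _ _ _ bot_le inf_le_right, Subgroup.relIndex_bot_left]
          rw [h5] at h4
          refine Nat.eq_of_mul_eq_mul_left
            (Nat.mul_pos (Nat.card_pos (α := T)) (Nat.card_pos (α := ↥(T ⊓ H)))) ?_
          calc _ = (Nat.card T * T.relIndex (H ⊔ P)) * Nat.card ↥(T ⊓ H) := by ring
            _ = Nat.card T * Nat.card H := by rw [a1, h4]
            _ = _ := by rw [← a2]; ring
        rw [← h6, Subgroup.relIndex, hT, Subgroup.subgroupOf,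
          Subgroup.comap_map_eq_self_of_injective (Subgroup.subtype_injective _)] at hd
        exact S.not_dvd_index hd
      set S' : Sylow p H := ((hTp.to_le inf_le_left : IsPGroup p ↥(T ⊓ H)).comap_of_injective
        H.subtype H.subtype_injective).toSylow hi with hS'
      refine not_dvd_of_sylow_central (p := p) (G := H) (Subgroup.isPerfect_iff.mpr hperf) S' ?_ ?_
      · intro x hx
        refine Subgroup.mem_center_iff.mpr fun y => Subtype.ext ?_
        exact Subgroup.mem_centralizer_iff.mp (hle (show (x : G) ∈ T ⊓ H from hx)).2 y y.2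
      · exact (component_dvd_card hO hL).trans (Subgroup.card_dvd_of_le hLH)
    obtain ⟨w, hw, hwZ⟩ := SetLike.not_le_iff_exists.mp hnot
    have hord : ∀ y ∈ T, ∃ j, orderOf y = p ^ j := fun y hy => by
      obtain ⟨j, hj⟩ := IsPGroup.iff_orderOf.mp hTp ⟨y, hy⟩
      exact ⟨j, by rwa [Subgroup.orderOf_mk] at hj⟩
    by_cases hTP : T ≤ P
    · exact ⟨w, hw.2, Subgroup.le_normalizer (hTP hw.1), hord w hw.1, hwZ⟩
    haveI := hTp.isNilpotent
    obtain ⟨y, hy, hyP⟩ := SetLike.exists_of_lt (Group.normalizerCondition_of_isNilpotent (G := T)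
      (P.subgroupOf T) (lt_top_iff_ne_top.mpr fun e => hTP (Subgroup.subgroupOf_eq_top.mp e)))
    rw [← Subgroup.subgroupOf_normalizer_eq hPT, Subgroup.mem_subgroupOf] at hy
    have hyHP : (y : G) ∈ ((H ⊔ P : Subgroup G) : Set G) := hTHP y.2
    rw [Subgroup.coe_mul_of_right_le_normalizer_left H P hPH] at hyHP
    obtain ⟨h, hh, g, hg, hhg⟩ := hyHP
    have hh' : h = (y : G) * g⁻¹ := by rw [← hhg]; group
    have hhT : h ∈ T := hh' ▸ mul_mem y.2 (inv_mem (hPT hg))
    refine ⟨h, hh, hh' ▸ mul_mem hy (Subgroup.le_normalizer (inv_mem hg)), hord h hhT, fun hhZ => hyP ?_⟩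
    rw [Subgroup.mem_subgroupOf, ← hhg]
    exact mul_mem (hZP hhZ) hg
  -- the image of `H` under `k` commutes with `H`
  have hcommH : ∀ x ∈ H, ∀ z ∈ MulAut.conj k • H, x * z = z * x := by
    have h1 : ⁅H, MulAut.conj k • H⁆ = ⊥ := by
      rw [Subgroup.commutator_eq_bot_iff_le_centralizer]
      refine iSup_le fun g => ?_
      rw [← Subgroup.commutator_eq_bot_iff_le_centralizer, Subgroup.commutator_comm,
        Subgroup.commutator_eq_bot_iff_le_centralizer, Subgroup.pointwise_smul_subset_iff]
      refine iSup_le fun g' => ?_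
      rw [← Subgroup.pointwise_smul_subset_iff, ← mul_smul, ← map_mul,
        ← Subgroup.commutator_eq_bot_iff_le_centralizer]
      refine components_commute (hcomp _) (hcomp g) fun e => hno ((g' : G)⁻¹ * g) ?_ ?_
      · exact mul_mem (inv_mem g'.2) g.2
      · rw [map_mul _ (g' : G)⁻¹, mul_smul, ← e, ← mul_smul, ← map_mul, ← mul_assoc,
          hkP _ (inv_mem g'.2), mul_assoc, inv_mul_cancel, mul_one]
    intro x hx z hz
    exact (Subgroup.mem_centralizer_iff.mp
      (Subgroup.commutator_eq_bot_iff_le_centralizer.mp h1 hx) z hz).symm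
  have he' : k * e * k⁻¹ ∈ MulAut.conj k • H :=
    Subgroup.smul_mem_pointwise_smul e (MulAut.conj k) H heH
  have hce : Commute (k * e * k⁻¹) e⁻¹ :=
    (show Commute (k * e * k⁻¹) e from (hcommH e heH _ he').symm).inv_right
  have hord' : ∃ j, (⁅k, e⁆ : G) ^ p ^ j = 1 := by
    obtain ⟨j, hj⟩ := hep
    refine ⟨j, ?_⟩
    rw [commutatorElement_def, hce.mul_pow, conj_pow, inv_pow, ← hj, pow_orderOf_eq_one]
    group
  have h1 : ⁅k, e⁆ = 1 := by
    obtain ⟨j, hj⟩ := hord'
    exact orderOf_eq_one_iff.mp (Nat.eq_one_of_dvd_coprimes (hW.pow_right j)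
      (W.orderOf_dvd_natCard (hkW e (hHE heH) heN)) (orderOf_dvd_of_pow_eq_one hj))
  refine heZ ⟨heH, Subgroup.mem_centralizer_iff.mpr fun x hx => ?_⟩
  rw [commutatorElement_def, mul_inv_eq_one] at h1
  exact hcommH x hx e (h1 ▸ he')

theorem local_normalizes_component (hO : Cfsg.pPrimeCore p G = ⊥) {P : Subgroup G}
    (hP : IsPGroup p P) {L : Subgroup G} (hL : Cfsg.IsComponent L) :
    (Cfsg.pLayer p (normalizer (P : Set G)) ⊔ Cfsg.pPrimeCore p (normalizer (P : Set G))).map
      (normalizer (P : Set G)).subtype ≤ normalizer (L : Set G) := by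
  haveI := pCore_normal (G := G) p
  set N := normalizer (P : Set G)
  set P₁ := P ⊔ Cfsg.pCore p G with hP₁def
  have hP₁ : IsPGroup p P₁ := hP.to_sup_of_normal_right (pCore_isPGroup p)
  set X := normalizer (P₁ : Set G) with hX
  have hNX : N ≤ X := by
    intro g hg
    refine mem_normalizer_of_smul_eq_self ?_
    rw [Subgroup.smul_sup, smul_eq_self_of_mem_normalizer hg,
      smul_eq_self_of_mem_normalizer (Subgroup.le_normalizer_of_normal (K := ⊤) (Subgroup.mem_top g))]
  set C := centralizer (P₁ : Set G) with hC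
  have hCX : C ≤ X := Subgroup.centralizer_le_normalizer _
  have hCN : C ≤ N := (Subgroup.centralizer_le (SetLike.coe_subset_coe.mpr (le_sup_left : P ≤ P₁))).trans
    (Subgroup.centralizer_le_normalizer _)
  haveI hCXn : (C.subgroupOf X).Normal :=
    (Subgroup.normal_subgroupOf_iff_le_normalizer hCX).mpr (normalizer_le_normalizer_centralizer' _)
  have hCNn : (C.subgroupOf N).Normal :=
    (Subgroup.normal_subgroupOf_iff_le_normalizer hCN).mpr
      (hNX.trans (normalizer_le_normalizer_centralizer' _))
  -- elements of order prime to `p` centralizing `O_p(N)` lie in `C`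
  have hcent : ∀ A : Subgroup N, ⁅A, Cfsg.pCore p N⁆ = ⊥ → ∀ x ∈ A.map N.subtype,
      (orderOf x).Coprime p → x ∈ C := by
    rintro A hA _ ⟨z, hz, rfl⟩ hord
    have hc : (z : G) ∈ centralizer (((Cfsg.pCore p N).map N.subtype : Subgroup G) : Set G) := by
      refine Subgroup.mem_centralizer_iff.mpr ?_
      rintro _ ⟨y, hy, rfl⟩
      exact congrArg Subtype.val (Subgroup.mem_centralizer_iff.mp
        ((Subgroup.commutator_eq_bot_iff_le_centralizer.mp hA) hz) y hy)
    have hPc : P ≤ (Cfsg.pCore p N).map N.subtype := by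
      rw [← Subgroup.map_subgroupOf_eq_of_le (Subgroup.le_normalizer : P ≤ N)]
      exact Subgroup.map_mono (le_pCore Subgroup.normal_in_normalizer
        (hP.comap_of_injective _ N.subtype_injective))
    have h2 : Cfsg.pCore p G ⊔ P ≤ centralizer ({(z : G)} : Set G) := by
      refine sup_le ?_ ?_ <;> intro y hy <;> rw [Subgroup.mem_centralizer_singleton_iff]
      · exact Subgroup.mem_centralizer_iff.mp (centralizes_pCore_of_local hP hord hc) y hy
      · exact Subgroup.mem_centralizer_iff.mp hc y (hPc hy)
    refine Subgroup.mem_centralizer_iff.mpr fun y hy => ?_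
    exact Subgroup.mem_centralizer_singleton_iff.mp (h2 (sup_comm P (Cfsg.pCore p G) ▸ hy))
  -- the `p'`-core of `X`
  set W := (Cfsg.pPrimeCore p X).map X.subtype with hW
  have hWcop : (Nat.card W).Coprime p := by
    rw [hW, Subgroup.card_map_of_injective X.subtype_injective]
    exact pPrimeCore_coprime p
  haveI := pPrimeCore_normal (G := X) p
  have hXcomm : ∀ A : Subgroup X, ⁅A, Cfsg.pCore p X⁆ = ⊥ →
      ∀ g ∈ P₁, ∀ x ∈ A.map X.subtype, g * x = x * g := by
    rintro A hA g hg _ ⟨x, hx, rfl⟩
    have hgX : g ∈ X := Subgroup.le_normalizer hg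
    exact congrArg Subtype.val (Subgroup.mem_centralizer_iff.mp
      ((Subgroup.commutator_eq_bot_iff_le_centralizer.mp hA) hx) ⟨g, hgX⟩
        ((le_pCore Subgroup.normal_in_normalizer
          (hP₁.comap_of_injective _ X.subtype_injective) : P₁.subgroupOf X ≤ _) hg))
  have hWL : W ≤ normalizer (L : Set G) := by
    intro k hk
    refine normalizes_component_of_commutator hO hP₁ le_sup_right hWcop
      (hWcop.coprime_dvd_left (W.orderOf_dvd_natCard hk))
      (fun g hg => hXcomm _ pPrimeCore_commutes_pCore g hg k hk) (fun e _ he => ?_) hL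
    obtain ⟨k', hk', rfl⟩ := hk
    exact ⟨⁅k', ⟨e, he⟩⁆, Subgroup.commutator_le_left _ _
      (Subgroup.commutator_mem_commutator hk' (Subgroup.mem_top _)), rfl⟩
  have hLL : (Cfsg.pLayer p X).map X.subtype ≤ normalizer (L : Set G) := by
    rw [Subgroup.map_le_iff_le_comap]
    refine sSup_le fun K hK => ?_
    rw [← Subgroup.map_le_iff_le_comap]
    set M := (Cfsg.layer G).subgroupOf X with hM
    haveI : M.Normal := (layer_normal (G := G)).subgroupOf X
    set f := modCore p X
    rcases component_le_or_commutes hK.2.1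
      ((inferInstance : M.Normal).map f modCore_surjective).isSubnormal with h | h
    · rintro _ ⟨x, hx, rfl⟩
      obtain ⟨m, hm, e⟩ := h ⟨x, hx, rfl⟩
      have hmx : (m⁻¹ * x : X) ∈ Cfsg.pPrimeCore p X := by
        refine (QuotientGroup.eq_one_iff _).mp ?_
        show f (m⁻¹ * x) = 1
        rw [map_mul, map_inv, e, inv_mul_cancel]
      have := mul_mem (component_le_normalizer_layer_member hL (show (m : G) ∈ Cfsg.layer G from hm))
        (hWL ⟨_, hmx, rfl⟩)
      simpa using this
    · refine perfect_le_of_coprime (p := p)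
        (by rw [← Subgroup.map_commutator, pComponent_perfect hK]) ?_
      intro k hk hord
      refine normalizes_component_of_commutator hO hP₁ le_sup_right hWcop hord
        (fun g hg => hXcomm K ?_ g hg k hk) (fun e he he' => ?_) hL
      · exact le_bot_iff.mp ((Subgroup.commutator_mono (pComponent_le_pLayer hK) le_rfl).trans
          pLayer_commutes_pCore.le)
      obtain ⟨k', hk', rfl⟩ := hk
      refine ⟨⁅k', ⟨e, he'⟩⁆, (QuotientGroup.eq_one_iff _).mp ?_, rfl⟩
      show f ⁅k', (⟨e, he'⟩ : X)⁆ = 1
      rw [map_commutatorElement]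
      exact Subgroup.mem_bot.mp (h.le (Subgroup.commutator_mem_commutator ⟨k', hk', rfl⟩
        ⟨⟨e, he'⟩, he, rfl⟩))
  rw [Subgroup.map_sup]
  refine sup_le ?_ ?_
  · have hle : (Cfsg.pLayer p N).map N.subtype ≤ C := perfect_le_of_coprime (p := p)
      (by rw [← Subgroup.map_commutator, pLayer_perfect]) (hcent _ pLayer_commutes_pCore)
    rw [← (map_pLayer_of_subnormal_le hCN hCNn.isSubnormal).2 hle]
    exact (map_pLayer_of_subnormal_le hCX hCXn.isSubnormal).1.trans hLL
  · have hle : (Cfsg.pPrimeCore p N).map N.subtype ≤ C := fun x hx => by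
      refine hcent _ pPrimeCore_commutes_pCore x hx ((pPrimeCore_coprime (G := N) p).coprime_dvd_left ?_)
      have := ((Cfsg.pPrimeCore p N).map N.subtype).orderOf_dvd_natCard hx
      rwa [Subgroup.card_map_of_injective N.subtype_injective] at this
    rw [← inf_eq_left.mpr hle, ← map_pPrimeCore_of_subnormal_le hCN hCNn.isSubnormal,
      map_pPrimeCore_of_subnormal_le hCX hCXn.isSubnormal]
    exact inf_le_left.trans hWL

/-! ### The centralizer of an element of order `p` -/

/-- The product of the first `n` conjugates of `l` under powers of `x`. -/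
def orbitProd (x : G) : ℕ → G → G
  | 0, _ => 1
  | n + 1, l => orbitProd x n l * (x ^ n * l * (x ^ n)⁻¹)

theorem component_commutes_core_centralizer (hO : Cfsg.pPrimeCore p G = ⊥) {x : G}
    (hx : orderOf x = p) {L : Subgroup G} (hL : Cfsg.IsComponent L)
    (hne : ⁅L, Subgroup.zpowers x⁆ ≠ L) :
    ⁅L, (Cfsg.pPrimeCore p (centralizer ({x} : Set G))).map
      (centralizer ({x} : Set G)).subtype⁆ = ⊥ := by
  set C := centralizer ({x} : Set G) with hC
  set W := (Cfsg.pPrimeCore p C).map C.subtype with hW
  have hWcop : (Nat.card W).Coprime p := by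
    rw [hW, Subgroup.card_map_of_injective C.subtype_injective]
    exact pPrimeCore_coprime p
  haveI := pPrimeCore_normal (G := C) p
  have hWC : W ≤ C := Subgroup.map_subtype_le _
  have hLd : p ∣ Nat.card L := component_dvd_card hO hL
  -- components of `C` commute with `W`
  have hcompC : ∀ D : Subgroup G, D ≤ C → Cfsg.IsComponent (D.subgroupOf C) → p ∣ Nat.card D →
      ⁅D, W⁆ = ⊥ := by
    intro D hDC hD hd
    rcases component_le_or_commutes hD (pPrimeCore_normal (G := C) p).isSubnormal with h | h
    · exfalso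
      have := (pPrimeCore_coprime (G := C) p).coprime_dvd_left (Subgroup.card_dvd_of_le h)
      rw [Nat.card_congr (Subgroup.subgroupOfEquivOfLe hDC).toEquiv] at this
      exact hp.out.coprime_iff_not_dvd.mp this.symm hd
    · have := congrArg (Subgroup.map C.subtype) h
      rwa [Subgroup.map_commutator, Subgroup.map_subgroupOf_eq_of_le hDC, Subgroup.map_bot] at this
  by_cases hxL : x ∈ normalizer (L : Set G)
  · -- `x` centralizes `L`
    have hle : ⁅L, Subgroup.zpowers x⁆ ≤ L :=
      Subgroup.le_normalizer_iff_commutator_le_left.mp (Subgroup.zpowers_le.mpr hxL)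
    have hn : (⁅L, Subgroup.zpowers x⁆.subgroupOf L).Normal :=
      (Subgroup.normal_subgroupOf_iff_le_normalizer hle).mpr
        (Subgroup.normalizer_commutator_ge_left _ _)
    have hcen := IsQuasisimple.le_center_of_ne_top hL.2 hn
      fun e => hne (le_antisymm hle (Subgroup.subgroupOf_eq_top.mp e))
    have h7 : ⁅⁅L, Subgroup.zpowers x⁆, L⁆ = ⊥ := by
      rw [Subgroup.commutator_eq_bot_iff_le_centralizer]
      intro y hy
      refine Subgroup.mem_centralizer_iff.mpr fun z hz => ?_
      exact congrArg Subtype.val (Subgroup.mem_center_iff.mp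
        (hcen (show (⟨y, hle hy⟩ : L) ∈ _ from hy)) ⟨z, hz⟩)
    have h8 : ⁅⁅Subgroup.zpowers x, L⁆, L⁆ = ⊥ := by
      rwa [Subgroup.commutator_comm (Subgroup.zpowers x) L]
    have h9 := Subgroup.commutator_commutator_eq_bot_of_rotate h7 h8
    rw [IsComponent.commutator_eq_self hL, Subgroup.commutator_eq_bot_iff_le_centralizer] at h9
    have hLC : L ≤ C := fun y hy => Subgroup.mem_centralizer_singleton_iff.mpr
      (Subgroup.mem_centralizer_iff.mp (h9 hy) x (Subgroup.mem_zpowers x)).symm
    exact hcompC L hLC (isComponent_subgroupOf hL hLC) hLd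
  · -- the diagonal of the orbit of `L`
    have hxp : x ^ p = 1 := by rw [← hx, pow_orderOf_eq_one]
    set c : ℕ → Subgroup G := fun i => MulAut.conj (x ^ i) • L with hc
    have hcC : ∀ i, Cfsg.IsComponent (c i) := fun i => isComponent_conj hL _
    have hmemc : ∀ i, ∀ l ∈ L, x ^ i * l * (x ^ i)⁻¹ ∈ c i := fun i l hl =>
      Subgroup.smul_mem_pointwise_smul l (MulAut.conj (x ^ i)) L hl
    have hne' : ∀ i j : ℕ, i < j → j < p → c j ≠ c i := by
      intro i j hij hj he
      refine hxL ?_
      have h1 : x ^ (j - i) ∈ normalizer (L : Set G) := by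
        refine mem_normalizer_of_smul_eq_self ?_
        have he' : MulAut.conj (x ^ (i + (j - i))) • L = MulAut.conj (x ^ i) • L := by
          rw [Nat.add_sub_cancel' hij.le]; exact he
        rw [pow_add, map_mul, mul_smul] at he'
        exact (smul_left_cancel _ he')
      obtain ⟨m, hm⟩ := exists_pow_eq_self_of_coprime (x := x) (n := j - i) (by
        rw [hx]
        exact (hp.out.coprime_iff_not_dvd.mpr fun hd => by
          have := Nat.le_of_dvd (by omega) hd; omega).symm)
      rw [← hm]
      exact pow_mem h1 m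
    have hcomm : ∀ i j : ℕ, i ≠ j → i < p → j < p → ∀ a ∈ c i, ∀ b ∈ c j, a * b = b * a := by
      intro i j hij hi hj a ha b hb
      have hne2 : c i ≠ c j := by
        rcases lt_or_gt_of_ne hij with h | h
        · exact (hne' i j h hj).symm
        · exact hne' j i h hi
      exact (Subgroup.mem_centralizer_iff.mp (Subgroup.commutator_eq_bot_iff_le_centralizer.mp
        (components_commute (hcC i) (hcC j) hne2) ha) b hb).symm
    have hfc : ∀ n ≤ p, ∀ j, n ≤ j → j < p → ∀ l ∈ L, ∀ b ∈ c j,
        orbitProd x n l * b = b * orbitProd x n l := by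
      intro n
      induction n with
      | zero => intro _ j _ _ l _ b _; simp [orbitProd]
      | succ n ih =>
        intro hn j hnj hj l hl b hb
        have h1 := ih (by omega) j (by omega) hj l hl b hb
        have h2 := hcomm n j (by omega) (by omega) hj _ (hmemc n l hl) b hb
        rw [orbitProd, mul_assoc, h2, ← mul_assoc, h1, mul_assoc]
    have hmul : ∀ n ≤ p, ∀ l ∈ L, ∀ m ∈ L,
        orbitProd x n (l * m) = orbitProd x n l * orbitProd x n m := by
      intro n
      induction n with
      | zero => intro _ l _ m _; simp [orbitProd]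
      | succ n ih =>
        intro hn l hl m hm
        have h1 := hfc n (by omega) n le_rfl (by omega) m hm _ (hmemc n l hl)
        simp only [orbitProd]
        rw [ih (by omega) l hl m hm,
          show x ^ n * (l * m) * (x ^ n)⁻¹ = (x ^ n * l * (x ^ n)⁻¹) * (x ^ n * m * (x ^ n)⁻¹) by group]
        rw [mul_assoc (orbitProd x n l) (orbitProd x n m), ← mul_assoc (orbitProd x n m), h1,
          mul_assoc (x ^ n * l * (x ^ n)⁻¹), ← mul_assoc (orbitProd x n l)]
    have hconjP : ∀ n, 1 ≤ n → n ≤ p → ∀ l ∈ L, ∀ m ∈ L,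
        orbitProd x n l * m * (orbitProd x n l)⁻¹ = l * m * l⁻¹ := by
      intro n
      induction n with
      | zero => intro h; omega
      | succ n ih =>
        intro _ hn l hl m hm
        rcases Nat.eq_zero_or_pos n with rfl | hn0
        · simp [orbitProd]
        have hm' : m ∈ c 0 := by simpa [hc] using hm
        have h2 := hcomm n 0 (by omega) (by omega) hp.out.pos _ (hmemc n l hl) m hm'
        rw [orbitProd, mul_inv_rev, ← ih hn0 (by omega) l hl m hm]
        calc orbitProd x n l * (x ^ n * l * (x ^ n)⁻¹) * m *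
              ((x ^ n * l * (x ^ n)⁻¹)⁻¹ * (orbitProd x n l)⁻¹)
            = orbitProd x n l * ((x ^ n * l * (x ^ n)⁻¹) * m) * (x ^ n * l * (x ^ n)⁻¹)⁻¹ *
              (orbitProd x n l)⁻¹ := by simp only [mul_assoc]
          _ = orbitProd x n l * m * (orbitProd x n l)⁻¹ := by rw [h2]; group
    have hshift : ∀ n, ∀ l, x * orbitProd x n l * x⁻¹ = l⁻¹ * orbitProd x (n + 1) l := by
      intro n
      induction n with
      | zero => intro l; simp [orbitProd]
      | succ n ih =>
        intro l
        rw [orbitProd, orbitProd, ← mul_assoc l⁻¹, ← ih l, pow_succ' x n]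
        group
    have hg : ∀ g : G, g * x = x * g → ∀ n l,
        g * orbitProd x n l * g⁻¹ = orbitProd x n (g * l * g⁻¹) := by
      intro g hg n
      induction n with
      | zero => intro l; simp [orbitProd]
      | succ n ih =>
        intro l
        have h1 : g * x ^ n = x ^ n * g := ((show Commute g x from hg).pow_right n).eq
        rw [orbitProd, orbitProd, ← ih l]
        calc g * (orbitProd x n l * (x ^ n * l * (x ^ n)⁻¹)) * g⁻¹
            = g * orbitProd x n l * g⁻¹ * ((g * x ^ n) * l * (g * x ^ n)⁻¹) := by group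
          _ = _ := by rw [h1]; group
    -- the diagonal
    let φ : L →* G :=
      { toFun := fun l => orbitProd x p l
        map_one' := by
          have := hmul p le_rfl 1 (one_mem L) 1 (one_mem L)
          rw [mul_one] at this
          exact left_eq_mul.mp this
        map_mul' := fun a b => hmul p le_rfl a a.2 b b.2 }
    set D := φ.range with hD
    have hDC : D ≤ C := by
      rintro _ ⟨l, rfl⟩
      refine Subgroup.mem_centralizer_singleton_iff.mpr ?_
      have h1 := hshift p (l : G)
      rw [orbitProd, hxp, inv_one, mul_one, one_mul] at h1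
      have h2 : orbitProd x p (l : G) * l = l * orbitProd x p l :=
        mul_inv_eq_iff_eq_mul.mp (by simpa using hconjP p hp.out.one_le le_rfl l l.2 l l.2)
      rw [h2, inv_mul_cancel_left] at h1
      exact (mul_inv_eq_iff_eq_mul.mp h1).symm
    have hker : φ.ker ≤ Subgroup.center L := by
      intro l hl
      refine Subgroup.mem_center_iff.mpr fun m => Subtype.ext ?_
      have h1 := hconjP p hp.out.one_le le_rfl l l.2 m m.2
      rw [show orbitProd x p (l : G) = 1 from MonoidHom.mem_ker.mp hl, one_mul, inv_one, mul_one] at h1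
      exact eq_mul_inv_iff_mul_eq.mp h1
    have hqs : Cfsg.IsQuasisimple D := by
      haveI : Nontrivial D := by
        rw [Subgroup.nontrivial_iff_ne_bot]
        intro h0
        refine IsQuasisimple.center_ne_top hL.2 (top_le_iff.mp ((le_of_eq ?_).trans hker))
        exact (MonoidHom.ker_eq_top_iff.mpr (MonoidHom.range_eq_bot_iff.mp h0)).symm
      exact IsQuasisimple.of_surjective hL.2 φ.rangeRestrict φ.rangeRestrict_surjective
    have hDd : p ∣ Nat.card D := by
      by_contra hd
      obtain ⟨S⟩ : Nonempty (Sylow p L) := inferInstance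
      refine not_dvd_of_sylow_central hL.2.1 S (fun s hs => hker ?_) hLd
      obtain ⟨j, hj⟩ := IsPGroup.iff_orderOf.mp S.isPGroup' ⟨s, hs⟩
      rw [Subgroup.orderOf_mk] at hj
      rw [MonoidHom.mem_ker, ← orderOf_eq_one_iff]
      exact Nat.eq_one_of_dvd_coprimes ((hp.out.coprime_iff_not_dvd.mpr hd).symm.pow_right j)
        (D.orderOf_dvd_natCard ⟨s, rfl⟩) (hj ▸ orderOf_map_dvd φ s)
    have hDE : D ≤ Cfsg.layer G := by
      have h1 : ∀ n, ∀ l ∈ L, orbitProd x n l ∈ Cfsg.layer G := by
        intro n
        induction n with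
        | zero => exact fun l _ => one_mem _
        | succ n ih => exact fun l hl => mul_mem (ih l hl) (le_layer (hcC n) (hmemc n l hl))
      rintro _ ⟨l, rfl⟩
      exact h1 p l l.2
    have hDc : Cfsg.IsComponent (D.subgroupOf C) := by
      refine ⟨?_, (isQuasisimple_congr (Subgroup.subgroupOfEquivOfLe hDC)).mpr hqs⟩
      haveI : ((Cfsg.layer G).subgroupOf C).Normal := (layer_normal (G := G)).subgroupOf C
      have hle : D.subgroupOf C ≤ (Cfsg.layer G).subgroupOf C := Subgroup.comap_mono hDE
      have hn : ((D.subgroupOf C).subgroupOf ((Cfsg.layer G).subgroupOf C)).Normal := by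
        refine (Subgroup.normal_subgroupOf_iff_le_normalizer hle).mpr ?_
        intro g hgE
        have hgL : (g : G) ∈ normalizer (L : Set G) := component_le_normalizer_layer_member hL hgE
        have hgx : (g : G) * x = x * g := Subgroup.mem_centralizer_singleton_iff.mp g.2
        rw [← Subgroup.subgroupOf_normalizer_eq hDC, Subgroup.mem_subgroupOf]
        refine mem_normalizer_of_smul_eq_self (Subgroup.eq_of_le_of_card_ge ?_ ?_)
        · intro y hy
          rw [Subgroup.mem_pointwise_smul_iff_inv_smul_mem] at hy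
          obtain ⟨l, hl⟩ := hy
          refine ⟨⟨(g : G) * l * (g : G)⁻¹, (Subgroup.mem_normalizer_iff.mp hgL _).mp l.2⟩, ?_⟩
          show orbitProd x p ((g : G) * l * (g : G)⁻¹) = y
          rw [← hg g hgx, show orbitProd x p (l : G) = _ from hl, MulAut.smul_def,
            MulAut.conj_inv_apply]
          group
        · exact (Nat.card_congr (Subgroup.equivSMul (MulAut.conj (g : G)) D).toEquiv).le
      have := hn.isSubnormal.trans' (inferInstance : ((Cfsg.layer G).subgroupOf C).Normal).isSubnormal
      rwa [Subgroup.map_subgroupOf_eq_of_le hle] at this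
    have hDW := hcompC D hDC hDc hDd
    rw [Subgroup.commutator_comm, Subgroup.commutator_eq_bot_iff_le_centralizer] at hDW ⊢
    intro w hw
    have hwx : w * x = x * w := Subgroup.mem_centralizer_singleton_iff.mp (hWC hw)
    have hwD : ∀ l ∈ L, w * orbitProd x p l * w⁻¹ = orbitProd x p l := fun l hl => by
      rw [← (Subgroup.mem_centralizer_iff.mp (hDW hw) _ ⟨⟨l, hl⟩, rfl⟩ :
        orbitProd x p l * w = w * orbitProd x p l), mul_inv_cancel_right]
    obtain ⟨j, hj, hwj⟩ : ∃ j, j < p ∧ MulAut.conj w • L = c j := by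
      by_contra hno
      push Not at hno
      have h1 : ∀ n ≤ p, ∀ l ∈ L, ∀ b ∈ MulAut.conj w • L,
          orbitProd x n l * b = b * orbitProd x n l := by
        intro n
        induction n with
        | zero => intro _ l _ b _; simp [orbitProd]
        | succ n ih =>
          intro hn l hl b hb
          have h2 : x ^ n * l * (x ^ n)⁻¹ * b = b * (x ^ n * l * (x ^ n)⁻¹) :=
            (Subgroup.mem_centralizer_iff.mp (Subgroup.commutator_eq_bot_iff_le_centralizer.mp
              (components_commute (hcC n) (isComponent_conj hL w) (hno n (by omega)).symm)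
              (hmemc n l hl)) b hb).symm
          rw [orbitProd, mul_assoc, h2, ← mul_assoc, ih (by omega) l hl b hb, mul_assoc]
      apply IsQuasisimple.center_ne_top hL.2
      refine eq_top_iff.mpr fun l _ => Subgroup.mem_center_iff.mpr fun m => Subtype.ext ?_
      have h3 := hconjP p hp.out.one_le le_rfl l l.2 m m.2
      have h4 := h1 p le_rfl l l.2 _ (Subgroup.smul_mem_pointwise_smul (m : G) (MulAut.conj w) L m.2)
      rw [MulAut.smul_def, MulAut.conj_apply] at h4
      have h5 : orbitProd x p (l : G) * m = m * orbitProd x p l := by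
        calc orbitProd x p (l : G) * m
            = w⁻¹ * (w * orbitProd x p l * w⁻¹ * (w * m * w⁻¹)) * w := by group
          _ = w⁻¹ * ((w * m * w⁻¹) * (w * orbitProd x p l * w⁻¹)) * w := by rw [hwD l l.2, h4]
          _ = m * orbitProd x p l := by group
      rw [h5, mul_inv_cancel_right] at h3
      exact eq_mul_inv_iff_mul_eq.mp h3
    set g := (x ^ j)⁻¹ * w with hgdef
    have hgx : g * x = x * g :=
      (((Commute.refl x).pow_left j).inv_left.mul_left (show Commute w x from hwx)).eq
    have hgL : g ∈ normalizer (L : Set G) := by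
      refine mem_normalizer_of_smul_eq_self ?_
      rw [hgdef, map_mul, mul_smul, hwj]
      simp [hc, ← mul_smul]
    have hgc : g ∈ centralizer (L : Set G) := by
      have h1 : ∀ l ∈ L, orbitProd x p (g * l * g⁻¹) = orbitProd x p l := by
        intro l hl
        rw [← hg g hgx, hgdef]
        have h2 : (x ^ j)⁻¹ * orbitProd x p l * x ^ j = orbitProd x p l := by
          have h3 : Commute (orbitProd x p l) x :=
            Subgroup.mem_centralizer_singleton_iff.mp (hDC ⟨⟨l, hl⟩, rfl⟩)
          rw [mul_assoc, (h3.pow_right j).eq, inv_mul_cancel_left]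
        calc (x ^ j)⁻¹ * w * orbitProd x p l * ((x ^ j)⁻¹ * w)⁻¹
            = (x ^ j)⁻¹ * (w * orbitProd x p l * w⁻¹) * x ^ j := by group
          _ = _ := by rw [hwD l hl, h2]
      have h3 : ∀ a ∈ L, ∀ b ∈ L, g * a * g⁻¹ * b * (g * a * g⁻¹)⁻¹ = a * b * a⁻¹ := by
        intro a ha b hb
        rw [← hconjP p hp.out.one_le le_rfl _ ((Subgroup.mem_normalizer_iff.mp hgL a).mp ha) b hb,
          ← hconjP p hp.out.one_le le_rfl a ha b hb, h1 a ha]
      have h4 : ∀ a ∈ L, ∀ b ∈ L, ⁅g, a⁆ * b = b * ⁅g, a⁆ := by
        intro a ha b hb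
        have := h3 a ha (a⁻¹ * b * a) (mul_mem (mul_mem (inv_mem ha) hb) ha)
        calc ⁅g, a⁆ * b = g * a * g⁻¹ * (a⁻¹ * b * a) * (g * a * g⁻¹)⁻¹ * (g * a * g⁻¹ * a⁻¹) := by
              rw [commutatorElement_def]; group
          _ = b * ⁅g, a⁆ := by rw [this, commutatorElement_def]; group
      have hmem : ∀ a ∈ L, ⁅g, a⁆ ∈ L := fun a ha => by
        rw [commutatorElement_def]
        exact mul_mem ((Subgroup.mem_normalizer_iff.mp hgL a).mp ha) (inv_mem ha)
      let ψ : L →* Subgroup.center L :=
        { toFun := fun a => ⟨⟨⁅g, (a : G)⁆, hmem a a.2⟩,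
            Subgroup.mem_center_iff.mpr fun b => Subtype.ext (h4 a a.2 b b.2).symm⟩
          map_one' := Subtype.ext (Subtype.ext (commutatorElement_one_right g))
          map_mul' := fun a b => by
            refine Subtype.ext (Subtype.ext ?_)
            show ⁅g, (a : G) * b⁆ = ⁅g, (a : G)⁆ * ⁅g, (b : G)⁆
            have h6 := h4 b b.2 a a.2
            have h7 : (a : G) * ⁅g, (b : G)⁆ * (a : G)⁻¹ = ⁅g, (b : G)⁆ := by
              rw [← h6, mul_inv_cancel_right]
            rw [commutatorElement_mul_right_eq_mul_conj, mul_assoc ⁅g, (a : G)⁆,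
              mul_assoc ⁅g, (a : G)⁆, h7] }
      have hψ : ψ.ker = ⊤ := by
        rw [eq_top_iff, ← hL.2.1.commutator_eq_top, _root_.commutator_def, Subgroup.commutator_le]
        intro a _ b _
        rw [MonoidHom.mem_ker, map_commutatorElement]
        exact commutatorElement_eq_one_iff_mul_comm.mpr
          (Subtype.ext ((Subgroup.mem_center_iff.mp (ψ b).2) (ψ a : L)))
      refine Subgroup.mem_centralizer_iff.mpr fun a ha => ?_
      have h6 : ⁅g, a⁆ = 1 := congrArg (fun z : Subgroup.center L => ((z : L) : G))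
        (MonoidHom.mem_ker.mp (hψ.ge (Subgroup.mem_top (⟨a, ha⟩ : L))))
      exact (commutatorElement_eq_one_iff_mul_comm.mp h6).symm
    -- the orbit index is zero
    set m := orderOf w with hm
    have hmp : m.Coprime p := hWcop.coprime_dvd_left (W.orderOf_dvd_natCard hw)
    have hgm : g ^ m = ((x ^ j)⁻¹) ^ m := by
      rw [hgdef, Commute.mul_pow (((show Commute x w from hwx.symm).pow_left j).inv_left), hm,
        pow_orderOf_eq_one, mul_one]
    have hxjm : x ^ (j * m) ∈ normalizer (L : Set G) := by
      have h1 := pow_mem (Subgroup.centralizer_le_normalizer _ hgc) m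
      rw [hgm, inv_pow, ← pow_mul] at h1
      exact inv_mem_iff.mp h1
    have hj0 : j = 0 := by
      by_contra hj0
      refine hxL ?_
      obtain ⟨k, hk⟩ := exists_pow_eq_self_of_coprime (x := x) (n := j * m) (by
        rw [hx]
        exact Nat.Coprime.mul_left ((hp.out.coprime_iff_not_dvd.mpr fun hd => by
          have := Nat.le_of_dvd (Nat.pos_of_ne_zero hj0) hd; omega).symm) hmp)
      rw [← hk]
      exact pow_mem hxjm k
    rw [hgdef, hj0, pow_zero, inv_one, one_mul] at hgc
    exact hgc

end CfsgLib.Components
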