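import Cfsg.Agent.Lib.Components.Subnormal
import Mathlib.GroupTheory.IsPerfect
import Cfsg.Prelude.Def_CaseTheorems

/-!
# Quasisimple groups

A normal or subnormal subgroup is central or everything; quotients; transport along isomorphisms.
-/

set_option linter.style.haveILetI false

namespace CfsgLib.Components

open Subgroup
open scoped commutatorElement

variable {G : Type*} [Group G]

theorem IsQuasisimple.isPerfect (h : Cfsg.IsQuasisimple G) : Group.IsPerfect G := h.1

theorem IsQuasisimple.center_ne_top (h : Cfsg.IsQuasisimple G) : Subgroup.center G ≠ ⊤ := by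
  intro hc
  haveI := h.2
  obtain ⟨x, y, hxy⟩ := exists_pair_ne (G ⧸ Subgroup.center G)
  refine hxy (QuotientGroup.induction_on x fun a => QuotientGroup.induction_on y fun b => ?_)
  rw [QuotientGroup.eq, hc]
  exact Subgroup.mem_top _

theorem IsQuasisimple.nontrivial (h : Cfsg.IsQuasisimple G) : Nontrivial G := by
  rcases subsingleton_or_nontrivial G with hs | hs
  · exact absurd (Subsingleton.elim _ _) (IsQuasisimple.center_ne_top h)
  · exact hs

theorem IsQuasisimple.not_isSolvable (h : Cfsg.IsQuasisimple G) : ¬ Group.IsSolvable G := by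
  haveI := h.1
  haveI := IsQuasisimple.nontrivial h
  exact Group.IsPerfect.not_isSolvable G

theorem IsQuasisimple.not_isNilpotent (h : Cfsg.IsQuasisimple G) : ¬ Group.IsNilpotent G := by
  intro hn
  exact IsQuasisimple.not_isSolvable h inferInstance

theorem IsQuasisimple.not_isMulCommutative (h : Cfsg.IsQuasisimple G) : ¬ IsMulCommutative G := by
  haveI := h.1
  haveI := IsQuasisimple.nontrivial h
  exact Group.IsPerfect.not_isMulCommutative G

/-- A normal subgroup of a quasisimple group is central or everything. -/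
theorem IsQuasisimple.normal_le_center_or_eq_top (h : Cfsg.IsQuasisimple G) {N : Subgroup G}
    (hN : N.Normal) : N ≤ Subgroup.center G ∨ N = ⊤ := by
  haveI := h.2
  haveI := h.1
  set f := QuotientGroup.mk' (Subgroup.center G)
  have hf : Function.Surjective f := QuotientGroup.mk'_surjective _
  rcases (hN.map f hf).eq_bot_or_eq_top with hb | ht
  · left
    rwa [Subgroup.map_eq_bot_iff, QuotientGroup.ker_mk'] at hb
  · right
    have hsup : N ⊔ Subgroup.center G = ⊤ := by
      have := congrArg (Subgroup.comap f) ht
      rwa [Subgroup.comap_map_eq, QuotientGroup.ker_mk', Subgroup.comap_top] at this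
    have hle : commutator G ≤ N := by
      rw [commutator_def, ← hsup, Subgroup.commutator_le]
      intro a ha b hb
      obtain ⟨n, hn, z, hz, rfl⟩ := (Subgroup.mem_sup_of_normal_right).mp ha
      obtain ⟨m, hm, w, hw, rfl⟩ := (Subgroup.mem_sup_of_normal_right).mp hb
      have hzc : ∀ g, z * g = g * z := fun g => (Subgroup.mem_center_iff.mp hz g).symm
      have hwc : ∀ g, w * g = g * w := fun g => (Subgroup.mem_center_iff.mp hw g).symm
      have h1 : ⁅z, m * w⁆ = 1 := commutatorElement_eq_one_iff_mul_comm.mpr (hzc _)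
      have h2 : ⁅n, w⁆ = 1 := commutatorElement_eq_one_iff_mul_comm.mpr (hwc _).symm
      rw [commutatorElement_mul_left_eq_conj_mul, h1, commutatorElement_mul_right_eq_mul_conj n m w,
        h2]
      simpa using Subgroup.commutator_le_self N (Subgroup.commutator_mem_commutator hn hm)
    rw [Group.IsPerfect.commutator_eq_top] at hle
    exact top_le_iff.mp hle

/-- A subnormal subgroup of a quasisimple group is central or everything. -/
theorem IsQuasisimple.subnormal_eq_top_or_le_center (h : Cfsg.IsQuasisimple G) {H : Subgroup G}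
    (hH : H.IsSubnormal) : H = ⊤ ∨ H ≤ Subgroup.center G := by
  induction hH with
  | top => exact Or.inl rfl
  | step A B hAB _ hn ih =>
    rcases ih with rfl | hB
    · rcases IsQuasisimple.normal_le_center_or_eq_top h
        (Subgroup.normalizer_eq_top_iff.mp
          (top_le_iff.mp ((normal_subgroupOf_iff_le_normalizer hAB).mp hn))) with h' | h'
      · exact Or.inr h'
      · exact Or.inl h'
    · exact Or.inr (hAB.trans hB)

/-- A proper normal subgroup of a quasisimple group is central. -/
theorem IsQuasisimple.le_center_of_ne_top (h : Cfsg.IsQuasisimple G) {N : Subgroup G}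
    (hN : N.Normal) (hne : N ≠ ⊤) : N ≤ Subgroup.center G :=
  (IsQuasisimple.normal_le_center_or_eq_top h hN).resolve_right hne

/-- Criterion: a nontrivial perfect group in which every proper normal subgroup is central. -/
theorem isQuasisimple_of_normal_le_center [Nontrivial G] [Group.IsPerfect G]
    (h : ∀ N : Subgroup G, N.Normal → N ≠ ⊤ → N ≤ Subgroup.center G) : Cfsg.IsQuasisimple G := by
  refine ⟨inferInstance, ?_⟩
  haveI : Nontrivial (G ⧸ Subgroup.center G) := by
    by_contra hs
    rw [not_nontrivial_iff_subsingleton] at hs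
    apply Group.IsPerfect.not_isMulCommutative G
    refine ⟨⟨fun a b => ?_⟩⟩
    have ha : a ∈ Subgroup.center G :=
      (QuotientGroup.eq_one_iff a).mp (Subsingleton.elim _ _)
    exact (Subgroup.mem_center_iff.mp ha b).symm
  refine ⟨fun N hN => ?_⟩
  set f := QuotientGroup.mk' (Subgroup.center G)
  by_cases ht : N.comap f = ⊤
  · exact Or.inr (by
      rw [← Subgroup.map_comap_eq_self_of_surjective (QuotientGroup.mk'_surjective _) N, ht,
        Subgroup.map_top_of_surjective _ (QuotientGroup.mk'_surjective _)])
  · left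
    rw [← Subgroup.map_comap_eq_self_of_surjective (QuotientGroup.mk'_surjective _) N,
      Subgroup.map_eq_bot_iff, QuotientGroup.ker_mk']
    exact h _ (hN.comap f) ht

theorem isQuasisimple_iff : Cfsg.IsQuasisimple G ↔
    Nontrivial G ∧ Group.IsPerfect G ∧
      ∀ N : Subgroup G, N.Normal → N ≠ ⊤ → N ≤ Subgroup.center G :=
  ⟨fun h => ⟨IsQuasisimple.nontrivial h, h.1,
    fun _ hN hne => IsQuasisimple.le_center_of_ne_top h hN hne⟩,
   fun ⟨h1, h2, h3⟩ => by haveI := h1; haveI := h2; exact isQuasisimple_of_normal_le_center h3⟩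

/-- A nontrivial image of a quasisimple group is quasisimple. -/
theorem IsQuasisimple.of_surjective {H : Type*} [Group H] [Nontrivial H]
    (h : Cfsg.IsQuasisimple G) (f : G →* H) (hf : Function.Surjective f) :
    Cfsg.IsQuasisimple H := by
  haveI := h.1
  haveI : Group.IsPerfect H := Group.IsPerfect.ofSurjective hf
  refine isQuasisimple_of_normal_le_center fun N hN hne => ?_
  have hne' : N.comap f ≠ ⊤ := fun ht => hne (by
    rw [← Subgroup.map_comap_eq_self_of_surjective hf N, ht, Subgroup.map_top_of_surjective f hf])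
  have hle := IsQuasisimple.le_center_of_ne_top h (hN.comap f) hne'
  intro x hx
  obtain ⟨a, rfl⟩ := hf x
  refine Subgroup.mem_center_iff.mpr fun y => ?_
  obtain ⟨b, rfl⟩ := hf y
  rw [← map_mul, ← map_mul, Subgroup.mem_center_iff.mp (hle hx) b]

theorem IsQuasisimple.congr {H : Type*} [Group H] (e : G ≃* H) (h : Cfsg.IsQuasisimple G) :
    Cfsg.IsQuasisimple H := by
  haveI := IsQuasisimple.nontrivial h
  haveI := e.symm.toEquiv.nontrivial
  exact IsQuasisimple.of_surjective h e.toMonoidHom e.surjective

theorem isQuasisimple_congr {H : Type*} [Group H] (e : G ≃* H) :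
    Cfsg.IsQuasisimple G ↔ Cfsg.IsQuasisimple H :=
  ⟨IsQuasisimple.congr e, IsQuasisimple.congr e.symm⟩

theorem IsQuasisimple.quotient (h : Cfsg.IsQuasisimple G) {N : Subgroup G} [N.Normal]
    (hN : N ≠ ⊤) : Cfsg.IsQuasisimple (G ⧸ N) := by
  haveI : Nontrivial (G ⧸ N) := by
    by_contra hs
    rw [not_nontrivial_iff_subsingleton] at hs
    exact hN (top_le_iff.mp fun x _ => (QuotientGroup.eq_one_iff x).mp (Subsingleton.elim _ _))
  exact IsQuasisimple.of_surjective h _ (QuotientGroup.mk'_surjective N)

/-- A nonabelian simple group is quasisimple. -/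
theorem isQuasisimple_of_isSimpleGroup [IsSimpleGroup G] (h : ¬ IsMulCommutative G) :
    Cfsg.IsQuasisimple G := by
  haveI : Group.IsPerfect G := by
    refine Group.isPerfect_def.mpr ?_
    refine (IsSimpleGroup.eq_bot_or_eq_top_of_normal (commutator G) inferInstance).resolve_left ?_
    intro hb
    apply h
    rw [commutator_eq_bot_iff_center_eq_top] at hb
    exact ⟨⟨fun a b => Subgroup.mem_center_iff.mp (hb ▸ Subgroup.mem_top b) a⟩⟩
  refine isQuasisimple_of_normal_le_center fun N hN hne => ?_
  rw [(hN.eq_bot_or_eq_top).resolve_right hne]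
  exact bot_le

/-! ### Quasisimple subgroups -/

theorem IsQuasisimple.commutator_eq_self {K : Subgroup G} (h : Cfsg.IsQuasisimple K) :
    ⁅K, K⁆ = K :=
  Subgroup.isPerfect_iff.mp h.1

theorem IsQuasisimple.ne_bot {K : Subgroup G} (h : Cfsg.IsQuasisimple K) : K ≠ ⊥ :=
  K.nontrivial_iff_ne_bot.mp (IsQuasisimple.nontrivial h)

/-- A quasisimple subgroup does not lie in its own centralizer. -/
theorem IsQuasisimple.commutator_self_ne_bot {K : Subgroup G} (h : Cfsg.IsQuasisimple K) :
    ⁅K, K⁆ ≠ ⊥ := by
  rw [IsQuasisimple.commutator_eq_self h]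
  exact IsQuasisimple.ne_bot h

end CfsgLib.Components
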