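import Cfsg.Agent.Lib.Components.Radicals
import Cfsg.Agent.Lib.Components.Quasisimple
import Cfsg.Prelude.Def_Local

/-!
# Components and the layer

A component lies in or commutes with each subnormal subgroup; distinct components commute;
transport; the layer.
-/

set_option linter.style.haveILetI false

open scoped Pointwise

namespace CfsgLib.Components

open Subgroup

variable {G : Type*} [Group G]

/-! ### Transport -/

theorem isQuasisimple_map_iff {H : Type*} [Group H] {f : G →* H} (hf : Function.Injective f)
    {K : Subgroup G} : Cfsg.IsQuasisimple (K.map f) ↔ Cfsg.IsQuasisimple K :=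
  isQuasisimple_congr (K.equivMapOfInjective f hf).symm

/-- Components of a subnormal subgroup are the components of the group lying in it. -/
theorem isComponent_map_subtype_iff {H : Subgroup G} (hH : H.IsSubnormal) {K : Subgroup H} :
    Cfsg.IsComponent (K.map H.subtype) ↔ Cfsg.IsComponent K := by
  unfold Cfsg.IsComponent
  rw [isSubnormal_map_subtype_iff hH, isQuasisimple_map_iff H.subtype_injective]

/-- A component of `G` lying in any subgroup `H` is a component of `H`. -/
theorem isComponent_subgroupOf {H L : Subgroup G} (hL : Cfsg.IsComponent L) (hLH : L ≤ H) :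
    Cfsg.IsComponent (L.subgroupOf H) :=
  ⟨hL.1.subgroupOf, (isQuasisimple_congr (Subgroup.subgroupOfEquivOfLe hLH)).mpr hL.2⟩

theorem isComponent_of_subgroupOf {H L : Subgroup G} (hH : H.IsSubnormal) (hLH : L ≤ H)
    (hL : Cfsg.IsComponent (L.subgroupOf H)) : Cfsg.IsComponent L := by
  rw [← map_subtype_subgroupOf hLH]
  exact (isComponent_map_subtype_iff hH).mpr hL

theorem isComponent_map_equiv {H : Type*} [Group H] (e : G ≃* H) {L : Subgroup G}
    (hL : Cfsg.IsComponent L) : Cfsg.IsComponent (L.map e.toMonoidHom) :=
  ⟨hL.1.map e.surjective, (isQuasisimple_map_iff (f := e.toMonoidHom) e.injective).mpr hL.2⟩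

theorem isComponent_conj {L : Subgroup G} (hL : Cfsg.IsComponent L) (g : G) :
    Cfsg.IsComponent (MulAut.conj g • L) := by
  rw [conj_smul_eq_map]
  exact isComponent_map_equiv (MulAut.conj g) hL

/-- The image of a component under a surjection is trivial or a component. -/
theorem isComponent_map_of_surjective {H : Type*} [Group H] {f : G →* H}
    (hf : Function.Surjective f) {L : Subgroup G} (hL : Cfsg.IsComponent L) (hne : L.map f ≠ ⊥) :
    Cfsg.IsComponent (L.map f) := by
  refine ⟨hL.1.map hf, ?_⟩
  haveI := (L.map f).nontrivial_iff_ne_bot.mpr hne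
  exact IsQuasisimple.of_surjective hL.2 (f.subgroupMap L) (f.subgroupMap_surjective L)

theorem IsComponent.ne_bot {L : Subgroup G} (hL : Cfsg.IsComponent L) : L ≠ ⊥ :=
  IsQuasisimple.ne_bot hL.2

theorem IsComponent.commutator_eq_self {L : Subgroup G} (hL : Cfsg.IsComponent L) :
    ⁅L, L⁆ = L :=
  IsQuasisimple.commutator_eq_self hL.2

theorem IsComponent.not_isSolvable {L : Subgroup G} (hL : Cfsg.IsComponent L) :
    ¬ Group.IsSolvable L :=
  IsQuasisimple.not_isSolvable hL.2

/-! ### The dichotomy -/

/-- A component lies in, or commutes with, every subnormal subgroup. -/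
theorem component_le_or_commutes [Finite G] {L H : Subgroup G} (hL : Cfsg.IsComponent L)
    (hH : H.IsSubnormal) : L ≤ H ∨ ⁅L, H⁆ = ⊥ := by
  induction hn : Nat.card G using Nat.strong_induction_on generalizing G with
  | _ n ih =>
    obtain rfl | ⟨N, hNn, hHN, hN⟩ := hH.lt_normal
    · exact Or.inl le_top
    by_cases hLN : L ≤ N
    · rcases ih (Nat.card N) (hn ▸ card_lt_of_ne_top hN.ne) (isComponent_subgroupOf hL hLN)
        (hH.subgroupOf (K := N)) rfl with h | h
      · left
        intro x hx
        exact h (show (⟨x, hLN hx⟩ : N) ∈ L.subgroupOf N from hx)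
      · right
        have := congrArg (Subgroup.map N.subtype) h
        rwa [Subgroup.map_commutator, map_subtype_subgroupOf hLN, map_subtype_subgroupOf hHN,
          Subgroup.map_bot] at this
    · right
      suffices h : ⁅L, N⁆ = ⊥ from le_bot_iff.mp ((commutator_mono le_rfl hHN).trans h.le)
      obtain hLtop | ⟨M, hMn, hLM, hM⟩ := hL.1.lt_normal
      · subst hLtop
        have hqs : Cfsg.IsQuasisimple G := (isQuasisimple_congr Subgroup.topEquiv).mp hL.2
        exact commutator_top_left_eq_bot_iff_le_center.mpr
          (IsQuasisimple.le_center_of_ne_top hqs hNn hN.ne)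
      · have hsn : (N ⊓ M).IsSubnormal := Subgroup.Normal.isSubnormal inferInstance
        have key : ⁅L, N ⊓ M⁆ = ⊥ := by
          rcases ih (Nat.card M) (hn ▸ card_lt_of_ne_top hM.ne) (isComponent_subgroupOf hL hLM)
            (hsn.subgroupOf (K := M)) rfl with h | h
          · exact absurd (fun x hx =>
              ((h (show (⟨x, hLM hx⟩ : M) ∈ L.subgroupOf M from hx)) : x ∈ N ⊓ M).1) hLN
          · have := congrArg (Subgroup.map M.subtype) h
            rwa [Subgroup.map_commutator, map_subtype_subgroupOf hLM,
              map_subtype_subgroupOf (inf_le_right : N ⊓ M ≤ M), Subgroup.map_bot] at this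
        have h1 : ⁅⁅L, N⁆, L⁆ = ⊥ := by
          rw [commutator_comm ⁅L, N⁆ L]
          refine le_bot_iff.mp ((commutator_mono le_rfl ?_).trans key.le)
          exact le_inf (commutator_le_right L N)
            ((commutator_mono hLM le_rfl).trans (commutator_le_left M N))
        have h2 : ⁅⁅N, L⁆, L⁆ = ⊥ := by rwa [commutator_comm N L]
        have h3 := commutator_commutator_eq_bot_of_rotate h1 h2
        rwa [IsComponent.commutator_eq_self hL] at h3

/-- Two components coincide or commute. -/
theorem components_eq_or_commute [Finite G] {K L : Subgroup G} (hK : Cfsg.IsComponent K)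
    (hL : Cfsg.IsComponent L) : K = L ∨ ⁅K, L⁆ = ⊥ := by
  rcases component_le_or_commutes hK hL.1 with h | h
  · left
    rcases IsQuasisimple.subnormal_eq_top_or_le_center hL.2 (hK.1.subgroupOf (K := L)) with ht | hc
    · exact le_antisymm h (Subgroup.subgroupOf_eq_top.mp ht)
    · exfalso
      apply IsQuasisimple.commutator_self_ne_bot hK.2
      refine commutator_eq_bot_iff_le_centralizer.mpr fun x hx => ?_
      rw [Subgroup.mem_centralizer_iff]
      intro y hy
      have := Subgroup.mem_center_iff.mp (hc (show (⟨x, h hx⟩ : L) ∈ K.subgroupOf L from hx))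
        ⟨y, h hy⟩
      exact congrArg Subtype.val this
  · exact Or.inr h

theorem components_commute [Finite G] {K L : Subgroup G} (hK : Cfsg.IsComponent K)
    (hL : Cfsg.IsComponent L) (hne : K ≠ L) : ⁅K, L⁆ = ⊥ :=
  (components_eq_or_commute hK hL).resolve_left hne

theorem component_le_normalizer_component [Finite G] {K L : Subgroup G}
    (hK : Cfsg.IsComponent K) (hL : Cfsg.IsComponent L) :
    K ≤ Subgroup.normalizer (L : Set G) := by
  rcases components_eq_or_commute hK hL with rfl | h
  · exact Subgroup.le_normalizer
  · exact (commutator_eq_bot_iff_le_centralizer.mp h).trans (Subgroup.centralizer_le_normalizer _)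

theorem component_commutes_of_solvable_subnormal [Finite G] {L H : Subgroup G}
    (hL : Cfsg.IsComponent L) (hH : H.IsSubnormal) (hsol : Group.IsSolvable H) : ⁅L, H⁆ = ⊥ := by
  refine (component_le_or_commutes hL hH).resolve_left fun h => IsComponent.not_isSolvable hL ?_
  haveI := hsol
  exact Group.isSolvable_of_isSolvable_injective (f := Subgroup.inclusion h)
    (Subgroup.inclusion_injective h)

/-- A component centralizes every solvable subgroup it normalizes. -/
theorem component_commutes_of_solvable_invariant [Finite G] {L H : Subgroup G}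
    (hL : Cfsg.IsComponent L) (hsol : Group.IsSolvable H)
    (hinv : L ≤ Subgroup.normalizer (H : Set G)) : ⁅L, H⁆ = ⊥ := by
  haveI hn : (H.subgroupOf (L ⊔ H)).Normal :=
    (normal_subgroupOf_iff_le_normalizer le_sup_right).mpr (sup_le hinv Subgroup.le_normalizer)
  have h := component_commutes_of_solvable_subnormal
    (isComponent_subgroupOf hL (le_sup_left : L ≤ L ⊔ H))
    (Subgroup.Normal.isSubnormal hn)
    (by
      haveI := hsol
      exact Group.isSolvable_of_surjective
        (f := (Subgroup.subgroupOfEquivOfLe (le_sup_right : H ≤ L ⊔ H)).symm.toMonoidHom)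
        (MulEquiv.surjective _))
  have := congrArg (Subgroup.map (L ⊔ H).subtype) h
  rwa [Subgroup.map_commutator, map_subtype_subgroupOf le_sup_left,
    map_subtype_subgroupOf le_sup_right, Subgroup.map_bot] at this

theorem component_commutes_fitting [Finite G] {L : Subgroup G} (hL : Cfsg.IsComponent L) :
    ⁅L, Cfsg.fittingSubgroup G⁆ = ⊥ :=
  haveI := fitting_isNilpotent (G := G)
  component_commutes_of_solvable_subnormal hL (fitting_normal.isSubnormal) inferInstance

/-! ### The layer -/

theorem le_layer {L : Subgroup G} (hL : Cfsg.IsComponent L) : L ≤ Cfsg.layer G :=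
  le_sSup hL

theorem layer_le_iff {H : Subgroup G} :
    Cfsg.layer G ≤ H ↔ ∀ L : Subgroup G, Cfsg.IsComponent L → L ≤ H :=
  sSup_le_iff

theorem layer_normal : (Cfsg.layer G).Normal :=
  normal_sSup_of_conj_invariant fun g _ hA => isComponent_conj hA g

theorem layer_map_equiv {H : Type*} [Group H] (e : G ≃* H) :
    (Cfsg.layer G).map e.toMonoidHom = Cfsg.layer H := by
  apply le_antisymm
  · rw [Subgroup.map_le_iff_le_comap, layer_le_iff]
    intro L hL
    rw [← Subgroup.map_le_iff_le_comap]
    exact le_layer (isComponent_map_equiv e hL)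
  · rw [layer_le_iff]
    intro L hL
    rw [Subgroup.map_equiv_eq_comap_symm' e, ← Subgroup.map_le_iff_le_comap]
    exact le_layer (isComponent_map_equiv e.symm hL)

theorem layer_characteristic : (Cfsg.layer G).Characteristic :=
  Subgroup.characteristic_iff_map_eq.mpr fun e => layer_map_equiv e

theorem component_le_normalizer_layer_member [Finite G] {L : Subgroup G}
    (hL : Cfsg.IsComponent L) : Cfsg.layer G ≤ Subgroup.normalizer (L : Set G) :=
  layer_le_iff.mpr fun _ hK => component_le_normalizer_component hK hL

theorem component_normal_in_layer [Finite G] {L : Subgroup G} (hL : Cfsg.IsComponent L) :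
    (L.subgroupOf (Cfsg.layer G)).Normal :=
  (normal_subgroupOf_iff_le_normalizer (le_layer hL)).mpr (component_le_normalizer_layer_member hL)

theorem layer_perfect : ⁅Cfsg.layer G, Cfsg.layer G⁆ = Cfsg.layer G :=
  le_antisymm (Subgroup.commutator_le_self _) (layer_le_iff.mpr fun _ hL =>
    (IsComponent.commutator_eq_self hL).symm.le.trans
      (commutator_mono (le_layer hL) (le_layer hL)))

theorem layer_commutes_fitting [Finite G] : ⁅Cfsg.layer G, Cfsg.fittingSubgroup G⁆ = ⊥ :=
  commutator_sSup_left_eq_bot.mpr fun _ hL => component_commutes_fitting hL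

theorem layer_commutes_solvable_invariant [Finite G] {H : Subgroup G} (hsol : Group.IsSolvable H)
    (hinv : Cfsg.layer G ≤ Subgroup.normalizer (H : Set G)) : ⁅Cfsg.layer G, H⁆ = ⊥ :=
  commutator_sSup_left_eq_bot.mpr fun _ hL =>
    component_commutes_of_solvable_invariant hL hsol ((le_layer hL).trans hinv)

theorem layer_commutes_solvable_subnormal [Finite G] {H : Subgroup G} (hsol : Group.IsSolvable H)
    (hH : H.IsSubnormal) : ⁅Cfsg.layer G, H⁆ = ⊥ :=
  commutator_sSup_left_eq_bot.mpr fun _ hL =>
    component_commutes_of_solvable_subnormal hL hH hsol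

theorem layer_eq_bot_iff : Cfsg.layer G = ⊥ ↔ ∀ L : Subgroup G, ¬ Cfsg.IsComponent L := by
  constructor
  · exact fun h L hL => IsComponent.ne_bot hL (le_bot_iff.mp (h ▸ le_layer hL))
  · exact fun h => le_bot_iff.mp (layer_le_iff.mpr fun L hL => absurd hL (h L))

theorem layer_eq_bot_of_isSolvable [Group.IsSolvable G] : Cfsg.layer G = ⊥ :=
  layer_eq_bot_iff.mpr fun _ hL => IsComponent.not_isSolvable hL inferInstance

/-- The layer of a subnormal subgroup lies in the layer. -/
theorem map_layer_subnormal_le {H : Subgroup G} (hH : H.IsSubnormal) :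
    (Cfsg.layer H).map H.subtype ≤ Cfsg.layer G := by
  rw [Subgroup.map_le_iff_le_comap, layer_le_iff]
  intro L hL
  rw [← Subgroup.map_le_iff_le_comap]
  exact le_layer ((isComponent_map_subtype_iff hH).mpr hL)

/-- The layer lies in `H` iff every component does; then it is the layer of `H`. -/
theorem map_layer_eq_of_layer_le [Finite G] {H : Subgroup G} (hH : H.IsSubnormal)
    (h : Cfsg.layer G ≤ H) : (Cfsg.layer H).map H.subtype = Cfsg.layer G := by
  refine le_antisymm (map_layer_subnormal_le hH) (layer_le_iff.mpr fun L hL => ?_)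
  rw [← map_subtype_subgroupOf ((le_layer hL).trans h)]
  exact Subgroup.map_mono (le_layer (isComponent_subgroupOf hL ((le_layer hL).trans h)))

end CfsgLib.Components
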