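import Cfsg.Agent.Lib.Components.PComponentOf

/-!
# Components permuted by an element of order `p`

For a component `J` with `x ∉ N(J)`, `x ^ p = 1`: the `p` conjugates commute, `diagHom` is the diagonal map
`l ↦ ∏ (x ^ i) l (x ^ i)⁻¹`.

* `pComponent_le_orbit`: a `p`-component of `C(x)` inside the layer lies in the product of one orbit;
* `pumpUp_dichotomy`: it lies in one `x`-invariant component or is the diagonal of `p` components.
-/

set_option autoImplicit false
set_option linter.style.haveILetI false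

namespace CfsgLib.Components

open Subgroup
open CfsgLib.Signalizer
open scoped commutatorElement Pointwise

variable {G : Type*} [Group G] {p : ℕ}

/-- `J` is a component not normalized by `x`, `x ^ p = 1`. -/
structure IsPermuted (p : ℕ) (x : G) (J : Subgroup G) : Prop where
  comp : Cfsg.IsComponent J
  pow : x ^ p = 1
  notMem : x ∉ normalizer (J : Set G)

namespace IsPermuted

variable [Finite G] [hp : Fact p.Prime] {x : G} {J : Subgroup G}

omit [Finite G] hp in
theorem isComponent_conj_pow (h : IsPermuted p x J) (i : ℕ) :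
    Cfsg.IsComponent (MulAut.conj (x ^ i) • J) := isComponent_conj h.comp _

omit [Finite G] hp in
theorem mem_conj (i : ℕ) {l : G} (hl : l ∈ J) : x ^ i * l * (x ^ i)⁻¹ ∈ MulAut.conj (x ^ i) • J :=
  Subgroup.smul_mem_pointwise_smul l (MulAut.conj (x ^ i)) J hl

theorem pow_notMem (h : IsPermuted p x J) {i : ℕ} (hi : 0 < i) (hip : i < p) :
    x ^ i ∉ normalizer (J : Set G) := by
  intro hmem
  obtain ⟨m, hm⟩ := exists_pow_eq_self_of_coprime (x := x) (n := i) (by
    have h1 : orderOf x = p := orderOf_eq_prime h.pow fun h1 => h.notMem (h1 ▸ one_mem _)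
    rw [h1]
    exact (hp.out.coprime_iff_not_dvd.mpr fun hd => by
      have := Nat.le_of_dvd hi hd; omega).symm)
  exact h.notMem (hm ▸ pow_mem hmem m)

theorem conj_ne (h : IsPermuted p x J) {i j : ℕ} (hij : i < j) (hj : j < p) :
    MulAut.conj (x ^ j) • J ≠ MulAut.conj (x ^ i) • J := by
  intro he
  refine h.pow_notMem (i := j - i) (by omega) (by omega) (mem_normalizer_of_smul_eq_self ?_)
  have he' : MulAut.conj (x ^ (i + (j - i))) • J = MulAut.conj (x ^ i) • J := by
    rw [Nat.add_sub_cancel' hij.le]; exact he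
  rw [pow_add, map_mul, mul_smul] at he'
  exact smul_left_cancel _ he'

theorem comm (h : IsPermuted p x J) {i j : ℕ} (hij : i ≠ j) (hi : i < p) (hj : j < p) {a b : G}
    (ha : a ∈ MulAut.conj (x ^ i) • J) (hb : b ∈ MulAut.conj (x ^ j) • J) : a * b = b * a := by
  have hne : MulAut.conj (x ^ i) • J ≠ MulAut.conj (x ^ j) • J := by
    rcases lt_or_gt_of_ne hij with h' | h'
    · exact (h.conj_ne h' hj).symm
    · exact h.conj_ne h' hi
  exact (Subgroup.mem_centralizer_iff.mp (Subgroup.commutator_eq_bot_iff_le_centralizer.mp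
    (components_commute (h.isComponent_conj_pow i) (h.isComponent_conj_pow j) hne) ha) b hb).symm

theorem orbitProd_comm (h : IsPermuted p x J) : ∀ n ≤ p, ∀ j, n ≤ j → j < p → ∀ l ∈ J,
    ∀ b ∈ MulAut.conj (x ^ j) • J, orbitProd x n l * b = b * orbitProd x n l := by
  intro n
  induction n with
  | zero => intro _ j _ _ l _ b _; simp [orbitProd]
  | succ n ih =>
    intro hn j hnj hj l hl b hb
    have h1 := ih (by omega) j (by omega) hj l hl b hb
    have h2 := h.comm (i := n) (j := j) (by omega) (by omega) hj (mem_conj n hl) hb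
    rw [orbitProd, mul_assoc, h2, ← mul_assoc, h1, mul_assoc]

theorem orbitProd_mul (h : IsPermuted p x J) : ∀ n ≤ p, ∀ l ∈ J, ∀ m ∈ J,
    orbitProd x n (l * m) = orbitProd x n l * orbitProd x n m := by
  intro n
  induction n with
  | zero => intro _ l _ m _; simp [orbitProd]
  | succ n ih =>
    intro hn l hl m hm
    have h1 := h.orbitProd_comm n (by omega) n le_rfl (by omega) m hm _ (mem_conj n hl)
    simp only [orbitProd]
    rw [ih (by omega) l hl m hm,
      show x ^ n * (l * m) * (x ^ n)⁻¹ = (x ^ n * l * (x ^ n)⁻¹) * (x ^ n * m * (x ^ n)⁻¹) by group]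
    rw [mul_assoc (orbitProd x n l) (orbitProd x n m), ← mul_assoc (orbitProd x n m), h1,
      mul_assoc (x ^ n * l * (x ^ n)⁻¹), ← mul_assoc (orbitProd x n l)]

/-- The diagonal homomorphism. -/
def diagHom (h : IsPermuted p x J) : J →* G where
  toFun l := orbitProd x p l
  map_one' := by
    have := h.orbitProd_mul p le_rfl 1 (one_mem J) 1 (one_mem J)
    rw [mul_one] at this
    exact left_eq_mul.mp this
  map_mul' a b := h.orbitProd_mul p le_rfl a a.2 b b.2

omit [Finite G] hp in
theorem orbitProd_shift (x : G) : ∀ n l, x * orbitProd x n l * x⁻¹ = l⁻¹ * orbitProd x (n + 1) l := by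
  intro n
  induction n with
  | zero => intro l; simp [orbitProd]
  | succ n ih =>
    intro l
    rw [orbitProd, orbitProd, ← mul_assoc l⁻¹, ← ih l, pow_succ' x n]
    group

omit [Finite G] hp in
theorem orbitProd_conj {g : G} (hg : g * x = x * g) : ∀ n l,
    g * orbitProd x n l * g⁻¹ = orbitProd x n (g * l * g⁻¹) := by
  intro n
  induction n with
  | zero => intro l; simp [orbitProd]
  | succ n ih =>
    intro l
    have h1 : g * x ^ n = x ^ n * g := ((show Commute g x from hg).pow_right n).eq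
    rw [orbitProd, orbitProd, ← ih l]
    calc g * (orbitProd x n l * (x ^ n * l * (x ^ n)⁻¹)) * g⁻¹
        = g * orbitProd x n l * g⁻¹ * ((g * x ^ n) * l * (g * x ^ n)⁻¹) := by group
      _ = _ := by rw [h1]; group

theorem orbitProd_act (h : IsPermuted p x J) : ∀ n, 1 ≤ n → n ≤ p → ∀ l ∈ J, ∀ m ∈ J,
    orbitProd x n l * m * (orbitProd x n l)⁻¹ = l * m * l⁻¹ := by
  intro n
  induction n with
  | zero => intro h'; omega
  | succ n ih =>
    intro _ hn l hl m hm
    rcases Nat.eq_zero_or_pos n with rfl | hn0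
    · simp [orbitProd]
    have hm' : m ∈ MulAut.conj (x ^ 0) • J := by simpa using hm
    have h2 := h.comm (i := n) (j := 0) (by omega) (by omega) hp.out.pos (mem_conj n hl) hm'
    rw [orbitProd, mul_inv_rev, ← ih hn0 (by omega) l hl m hm]
    calc orbitProd x n l * (x ^ n * l * (x ^ n)⁻¹) * m *
          ((x ^ n * l * (x ^ n)⁻¹)⁻¹ * (orbitProd x n l)⁻¹)
        = orbitProd x n l * ((x ^ n * l * (x ^ n)⁻¹) * m) * (x ^ n * l * (x ^ n)⁻¹)⁻¹ *
          (orbitProd x n l)⁻¹ := by simp only [mul_assoc]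
      _ = orbitProd x n l * m * (orbitProd x n l)⁻¹ := by rw [h2]; group

theorem diagHom_act (h : IsPermuted p x J) (l : J) {m : G} (hm : m ∈ J) :
    h.diagHom l * m * (h.diagHom l)⁻¹ = l * m * (l : G)⁻¹ :=
  h.orbitProd_act p hp.out.one_le le_rfl l l.2 m hm

theorem diagHom_commute (h : IsPermuted p x J) (l : J) : Commute (h.diagHom l) x := by
  have h1 := orbitProd_shift x p (l : G)
  rw [orbitProd, h.pow, inv_one, mul_one, one_mul] at h1
  have h2 : orbitProd x p (l : G) * l = l * orbitProd x p l :=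
    mul_inv_eq_iff_eq_mul.mp (by simpa using h.orbitProd_act p hp.out.one_le le_rfl l l.2 l l.2)
  rw [h2, inv_mul_cancel_left] at h1
  exact (mul_inv_eq_iff_eq_mul.mp h1).symm

theorem diagHom_act_conj (h : IsPermuted p x J) (l : J) (i : ℕ) {m : G} (hm : m ∈ J) :
    h.diagHom l * (x ^ i * m * (x ^ i)⁻¹) * (h.diagHom l)⁻¹ =
      x ^ i * (l * m * (l : G)⁻¹) * (x ^ i)⁻¹ := by
  have h1 : h.diagHom l * x ^ i = x ^ i * h.diagHom l := ((h.diagHom_commute l).pow_right i).eq
  calc h.diagHom l * (x ^ i * m * (x ^ i)⁻¹) * (h.diagHom l)⁻¹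
      = (h.diagHom l * x ^ i) * m * (h.diagHom l * x ^ i)⁻¹ := by group
    _ = x ^ i * (h.diagHom l * m * (h.diagHom l)⁻¹) * (x ^ i)⁻¹ := by rw [h1]; group
    _ = _ := by rw [h.diagHom_act l hm]

theorem diag_isPerfect (h : IsPermuted p x J) : ⁅h.diagHom.range, h.diagHom.range⁆ = h.diagHom.range := by
  haveI := h.comp.2.1
  haveI : Group.IsPerfect h.diagHom.range :=
    Group.IsPerfect.ofSurjective h.diagHom.rangeRestrict_surjective
  exact Subgroup.isPerfect_iff.mp inferInstance

theorem diag_isQuasisimple (h : IsPermuted p x J) : Cfsg.IsQuasisimple h.diagHom.range := by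
  haveI : Nontrivial h.diagHom.range := by
    rw [Subgroup.nontrivial_iff_ne_bot]
    intro h0
    refine IsQuasisimple.center_ne_top h.comp.2 (eq_top_iff.mpr fun l _ =>
      Subgroup.mem_center_iff.mpr fun m => Subtype.ext ?_)
    have h1 := h.diagHom_act l m.2
    rw [show h.diagHom l = 1 from Subgroup.mem_bot.mp (h0.le ⟨l, rfl⟩), one_mul, inv_one, mul_one] at h1
    exact eq_mul_inv_iff_mul_eq.mp h1
  exact IsQuasisimple.of_surjective h.comp.2 h.diagHom.rangeRestrict
    h.diagHom.rangeRestrict_surjective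

/-- The diagonal meets every factor nontrivially in action. -/
theorem diag_not_le (h : IsPermuted p x J) : ¬ h.diagHom.range ≤ J := fun hle => by
  refine IsQuasisimple.center_ne_top h.comp.2 (eq_top_iff.mpr fun l _ =>
    Subgroup.mem_center_iff.mpr fun m => Subtype.ext ?_)
  have h1 := h.diagHom_act_conj l 1 m.2
  have h0 : h.diagHom l ∈ MulAut.conj (x ^ 0) • J := by simpa using hle ⟨l, rfl⟩
  have h2 := h.comm (i := 0) (j := 1) (by omega) hp.out.pos hp.out.one_lt h0 (mem_conj 1 m.2)
  rw [h2, mul_inv_cancel_right] at h1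
  exact (eq_mul_inv_iff_mul_eq.mp (mul_left_cancel (mul_right_cancel h1)))

theorem diag_not_commute (h : IsPermuted p x J) : ⁅h.diagHom.range, J⁆ ≠ ⊥ := fun he => by
  refine IsQuasisimple.center_ne_top h.comp.2 (eq_top_iff.mpr fun l _ =>
    Subgroup.mem_center_iff.mpr fun m => Subtype.ext ?_)
  have h1 := h.diagHom_act l m.2
  rw [← Subgroup.mem_centralizer_iff.mp
    (Subgroup.commutator_eq_bot_iff_le_centralizer.mp he ⟨l, rfl⟩) (m : G) m.2,
    mul_inv_cancel_right] at h1
  exact eq_mul_inv_iff_mul_eq.mp h1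

theorem diag_le_iSup (h : IsPermuted p x J) :
    h.diagHom.range ≤ ⨆ i : ℕ, MulAut.conj (x ^ i) • J := by
  have h1 : ∀ n, ∀ l ∈ J, orbitProd x n l ∈ (⨆ i : ℕ, MulAut.conj (x ^ i) • J : Subgroup G) := by
    intro n
    induction n with
    | zero => exact fun l _ => one_mem _
    | succ n ih => exact fun l hl => mul_mem (ih l hl) (Subgroup.mem_iSup_of_mem n (mem_conj n hl))
  rintro _ ⟨l, rfl⟩
  exact h1 p l l.2

end IsPermuted

/-! ### `p`-components of `C(x)` inside the layer -/

variable [Finite G] [hp : Fact p.Prime]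

theorem pGen_sup_le' {A O : Subgroup G} (hn : O ≤ normalizer (A : Set G))
    (hO : (Nat.card O).Coprime p) : pGen p (A ⊔ O) ≤ A := by
  set H := A ⊔ O with hH
  have hA : A ≤ H := le_sup_left
  haveI : (A.subgroupOf H).Normal :=
    Subgroup.normal_subgroupOf_of_le_normalizer (sup_le Subgroup.le_normalizer hn)
  refine pGen_le_iff.mpr fun g hg k hk => ?_
  refine Subgroup.mem_subgroupOf.mp (pGen_sup_le (A := A.subgroupOf H) (O := O.subgroupOf H) ?_
    (mem_pGen (k := k) (x := (⟨g, hg⟩ : H)) ?_ (Subtype.ext hk)))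
  · rwa [Nat.card_congr (Subgroup.subgroupOfEquivOfLe (le_sup_right : O ≤ H)).toEquiv]
  · rw [← Subgroup.subgroupOf_sup hA le_sup_right, ← hH, Subgroup.subgroupOf_self]
    exact Subgroup.mem_top _

/-- A `p`-component of `C(x)` inside `E(G)` lies in the product of one orbit of components. -/
theorem pComponent_le_orbit {x : G} {K : Subgroup G}
    (hK : Cfsg.IsPComponentOf p K (centralizer ({x} : Set G))) (hKE : K ≤ Cfsg.layer G) :
    ∃ J : Subgroup G, Cfsg.IsComponent J ∧ ⁅K, J⁆ ≠ ⊥ ∧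
      K ≤ ⨆ i : ℕ, MulAut.conj (x ^ i) • J := by
  obtain ⟨J, hJ, hne⟩ : ∃ J : Subgroup G, Cfsg.IsComponent J ∧ ⁅K, J⁆ ≠ ⊥ := by
    by_contra hno
    push Not at hno
    have h1 : Cfsg.layer G ≤ centralizer (K : Set G) := layer_le_iff.mpr fun L hL => by
      rw [← Subgroup.commutator_eq_bot_iff_le_centralizer, Subgroup.commutator_comm, hno L hL]
    refine PCompOf.ne_bot hK ?_
    rw [← PCompOf.perfect hK, Subgroup.commutator_eq_bot_iff_le_centralizer]
    exact hKE.trans h1
  refine ⟨J, hJ, hne, ?_⟩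
  set F := ⨆ i : ℕ, MulAut.conj (x ^ i) • J with hF
  have hJF : J ≤ F := le_iSup_of_le 0 (by simp)
  set C := centralizer ({x} : Set G) with hC
  set E := Cfsg.layer G with hE
  haveI hEn : E.Normal := layer_normal
  have hcomp : ∀ i : ℕ, Cfsg.IsComponent (MulAut.conj (x ^ i) • J) := fun i => isComponent_conj hJ _
  have hFE : F ≤ E := iSup_le fun i => le_layer (hcomp i)
  have hEF : E ≤ normalizer (F : Set G) := by
    intro c hc
    refine mem_normalizer_of_smul_eq_self (Subgroup.eq_of_le_of_card_ge ?_ ?_)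
    · rw [Subgroup.pointwise_smul_subset_iff]
      refine iSup_le fun i => ?_
      rw [← Subgroup.pointwise_smul_subset_iff,
        smul_eq_self_of_mem_normalizer (component_le_normalizer_layer_member (hcomp i) hc)]
      exact le_iSup (fun i : ℕ => MulAut.conj (x ^ i) • J) i
    · exact (Nat.card_congr (Subgroup.equivSMul (MulAut.conj c) F).toEquiv).le
  set A := E ⊓ centralizer (F : Set G) with hA
  have hEA : E ≤ normalizer (A : Set G) := (le_inf Subgroup.le_normalizer
    (hEF.trans (normalizer_le_normalizer_centralizer' F))).trans Subgroup.inf_normalizer_le_normalizer_inf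
  have hEFA : E ≤ F ⊔ A := layer_le_iff.mpr fun L hL => by
    by_cases hor : ∃ i : ℕ, L = MulAut.conj (x ^ i) • J
    · obtain ⟨i, rfl⟩ := hor
      exact (le_iSup (fun i : ℕ => MulAut.conj (x ^ i) • J) i).trans le_sup_left
    · push Not at hor
      refine le_trans (le_inf (le_layer hL) ?_) le_sup_right
      rw [← Subgroup.commutator_eq_bot_iff_le_centralizer, Subgroup.commutator_comm,
        Subgroup.commutator_eq_bot_iff_le_centralizer]
      refine iSup_le fun i => ?_
      rw [← Subgroup.commutator_eq_bot_iff_le_centralizer]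
      exact components_commute (hcomp i) hL (hor i).symm
  set N := F ⊓ C with hN
  have hFn : (F.subgroupOf E).Normal := (Subgroup.normal_subgroupOf_iff_le_normalizer hFE).mpr hEF
  have hNsn : (F.subgroupOf C).IsSubnormal := (hFn.isSubnormal.trans' hEn.isSubnormal |>.comap C.subtype)
    |> fun h => by rwa [Subgroup.map_subgroupOf_eq_of_le hFE] at h
  have hxx : ∀ i : ℕ, MulAut.conj x • MulAut.conj (x ^ i) • J = MulAut.conj (x ^ (i + 1)) • J := by
    intro i
    rw [← mul_smul, ← map_mul, ← pow_succ']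
  have hxF : x ∈ normalizer (F : Set G) := by
    refine mem_normalizer_of_smul_eq_self (Subgroup.eq_of_le_of_card_ge ?_ ?_)
    · rw [Subgroup.pointwise_smul_subset_iff]
      refine iSup_le fun i => ?_
      rw [← Subgroup.pointwise_smul_subset_iff, hxx]
      exact le_iSup (fun i : ℕ => MulAut.conj (x ^ i) • J) (i + 1)
    · exact (Nat.card_congr (Subgroup.equivSMul (MulAut.conj x) F).toEquiv).le
  -- each element of `K` is a product over `F` and `A`
  have hdec : ∀ k ∈ K, ∃ f ∈ F, ∃ a ∈ A, k = f * a ∧ ∀ e ∈ F, (x * f * x⁻¹ * f⁻¹) * e = e * (x * f * x⁻¹ * f⁻¹) := by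
    intro k hk
    have hk' : k ∈ ((F ⊔ A : Subgroup G) : Set G) := hEFA (hKE hk)
    rw [Subgroup.coe_mul_of_right_le_normalizer_left F A (inf_le_left.trans hEF)] at hk'
    obtain ⟨f, hf, a, ha, rfl⟩ := hk'
    refine ⟨f, hf, a, ha, rfl, fun e he => ?_⟩
    have hxk : x * (f * a) = f * a * x := (Subgroup.mem_centralizer_singleton_iff.mp (hK.1 hk)).symm
    have h1 : x * f * x⁻¹ * f⁻¹ = f * (a * (x * a⁻¹ * x⁻¹)) * f⁻¹ := by
      calc x * f * x⁻¹ * f⁻¹ = (x * (f * a)) * a⁻¹ * x⁻¹ * f⁻¹ := by group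
        _ = (f * a * x) * a⁻¹ * x⁻¹ * f⁻¹ := by rw [hxk]
        _ = _ := by group
    have h2 : x * a⁻¹ * x⁻¹ ∈ centralizer (F : Set G) :=
      (Subgroup.mem_normalizer_iff.mp (normalizer_le_normalizer_centralizer' F hxF) _).mp (inv_mem ha.2)
    have h3 : f * (a * (x * a⁻¹ * x⁻¹)) * f⁻¹ ∈ centralizer (F : Set G) :=
      (Subgroup.mem_normalizer_iff.mp (normalizer_le_normalizer_centralizer' F
        (Subgroup.le_normalizer hf)) _).mp (mul_mem ha.2 h2)
    rw [← h1] at h3
    exact (Subgroup.mem_centralizer_iff.mp h3 e he).symm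
  have hKAN : K ≤ A ⊔ N := by
    conv_lhs => rw [← PCompOf.perfect hK]
    rw [Subgroup.commutator_le]
    intro k hk k' hk'
    obtain ⟨f, hf, a, ha, rfl, hz⟩ := hdec k hk
    obtain ⟨f', hf', a', ha', rfl, hz'⟩ := hdec k' hk'
    have hcA : ∀ b ∈ A, ∀ e ∈ F, b * e = e * b := fun b hb e he =>
      (Subgroup.mem_centralizer_iff.mp hb.2 e he).symm
    have hffF : ⁅f, f'⁆ ∈ F := Subgroup.commutator_le_self F (Subgroup.commutator_mem_commutator hf hf')
    have hffC : ⁅f, f'⁆ ∈ C := by
      refine Subgroup.mem_centralizer_singleton_iff.mpr ?_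
      set z := x * f * x⁻¹ * f⁻¹ with hzdef
      set z' := x * f' * x⁻¹ * f'⁻¹ with hzdef'
      have hzF : z ∈ F := mul_mem ((Subgroup.mem_normalizer_iff.mp hxF f).mp hf) (inv_mem hf)
      have hz'F : z' ∈ F := mul_mem ((Subgroup.mem_normalizer_iff.mp hxF f').mp hf') (inv_mem hf')
      have h3 : x * ⁅f, f'⁆ * x⁻¹ = ⁅f, f'⁆ := by
        calc x * ⁅f, f'⁆ * x⁻¹ = ⁅z * f, z' * f'⁆ := by
              simp only [hzdef, hzdef', commutatorElement_def]; group
          _ = ⁅f, f'⁆ := by
            rw [commutatorElement_mul_left_eq_conj_mul,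
              show ⁅z, z' * f'⁆ = 1 from commutatorElement_eq_one_iff_mul_comm.mpr
                (hz _ (mul_mem hz'F hf')), mul_one,
              hz _ (Subgroup.commutator_le_self F
                (Subgroup.commutator_mem_commutator hf (mul_mem hz'F hf'))), mul_inv_cancel_right,
              commutatorElement_mul_right_eq_mul_conj,
              show ⁅f, z'⁆ = 1 from commutatorElement_eq_one_iff_mul_comm.mpr (hz' f hf).symm,
              one_mul, hz' _ hffF, mul_inv_cancel_right]
      calc ⁅f, f'⁆ * x = (x * ⁅f, f'⁆ * x⁻¹) * x := by rw [h3]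
        _ = x * ⁅f, f'⁆ := by group
    have e1 : ⁅f * a, f' * a'⁆ = ⁅f, f'⁆ * ⁅a, a'⁆ := by
      rw [commutatorElement_mul_left_eq_conj_mul, commutatorElement_mul_right_eq_mul_conj a f' a',
        show ⁅a, f'⁆ = 1 from commutatorElement_eq_one_iff_mul_comm.mpr (hcA a ha f' hf'),
        one_mul, commutatorElement_mul_right_eq_mul_conj f f' a',
        show ⁅f, a'⁆ = 1 from commutatorElement_eq_one_iff_mul_comm.mpr (hcA a' ha' f hf).symm,
        mul_one]
      have hb : ⁅a, a'⁆ ∈ A := Subgroup.commutator_le_self A (Subgroup.commutator_mem_commutator ha ha')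
      rw [← hcA _ hb f' hf', mul_inv_cancel_right, ← hcA _ hb f hf, mul_inv_cancel_right,
        mul_inv_cancel_right]
      exact hcA _ hb _ hffF
    rw [e1]
    exact mul_mem (Subgroup.mem_sup_right ⟨hffF, hffC⟩)
      (Subgroup.mem_sup_left (Subgroup.commutator_le_self A (Subgroup.commutator_mem_commutator ha ha')))
  haveI := pPrimeCore_normal (G := C) p
  rcases component_le_or_commutes hK.2.2.1 (hNsn.map (modCore_surjective (p := p))) with h | h
  · -- `K ≤ F`
    set OC := (Cfsg.pPrimeCore p C).map C.subtype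
    have hcop : (Nat.card ↥(OC ⊓ E)).Coprime p := by
      refine Nat.Coprime.coprime_dvd_left (Subgroup.card_dvd_of_le inf_le_left) ?_
      rw [Subgroup.card_map_of_injective C.subtype_injective]
      exact pPrimeCore_coprime p
    have hsub : K ≤ F ⊔ (OC ⊓ E) := by
      intro k hk
      obtain ⟨e, he, hek⟩ := h ⟨⟨k, hK.1 hk⟩, hk, rfl⟩
      have h1 : e⁻¹ * (⟨k, hK.1 hk⟩ : C) ∈ Cfsg.pPrimeCore p C := QuotientGroup.eq.mp hek
      have h2 : (e : G)⁻¹ * k ∈ OC ⊓ E :=
        Subgroup.mem_inf.mpr ⟨⟨_, h1, rfl⟩, mul_mem (inv_mem (hFE he)) (hKE hk)⟩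
      rw [show k = (e : G) * ((e : G)⁻¹ * k) by group]
      exact mul_mem (Subgroup.mem_sup_left he) (Subgroup.mem_sup_right h2)
    exact (PCompOf.pGen_eq hK).ge.trans
      ((pGen_mono hsub).trans (pGen_sup_le' (inf_le_right.trans hEF) hcop))
  · -- `K` would centralize `F`
    exfalso
    set OC := (Cfsg.pPrimeCore p C).map C.subtype
    have hcop : (Nat.card ↥(OC ⊓ E)).Coprime p := by
      refine Nat.Coprime.coprime_dvd_left (Subgroup.card_dvd_of_le inf_le_left) ?_
      rw [Subgroup.card_map_of_injective C.subtype_injective]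
      exact pPrimeCore_coprime p
    have hsub : K ≤ A ⊔ (OC ⊓ E) := by
      conv_lhs => rw [← PCompOf.perfect hK]
      rw [Subgroup.commutator_le]
      intro k hk k' hk'
      have hk'' : k' ∈ ((A ⊔ N : Subgroup G) : Set G) := hKAN hk'
      rw [Subgroup.coe_mul_of_right_le_normalizer_left A N
        ((inf_le_left.trans hFE).trans hEA)] at hk''
      obtain ⟨a, ha, m, hm, rfl⟩ := hk''
      rw [commutatorElement_mul_right_eq_mul_conj]
      have h1 : ⁅k, a⁆ ∈ A := by
        rw [commutatorElement_def]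
        exact mul_mem ((Subgroup.mem_normalizer_iff.mp (hEA (hKE hk)) a).mp ha) (inv_mem ha)
      have h2 : ⁅k, m⁆ ∈ OC ⊓ E := by
        refine ⟨⟨⁅(⟨k, hK.1 hk⟩ : C), (⟨m, hm.2⟩ : C)⁆, (QuotientGroup.eq_one_iff _).mp ?_, rfl⟩,
          Subgroup.commutator_le_self E (Subgroup.commutator_mem_commutator (hKE hk) (hFE hm.1))⟩
        show modCore p C ⁅(⟨k, hK.1 hk⟩ : C), (⟨m, hm.2⟩ : C)⁆ = 1
        rw [map_commutatorElement]
        exact Subgroup.mem_bot.mp (h.le (Subgroup.commutator_mem_commutator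
          ⟨⟨k, hK.1 hk⟩, hk, rfl⟩ ⟨⟨m, hm.2⟩, hm.1, rfl⟩))
      refine mul_mem (mul_mem (mul_mem (Subgroup.mem_sup_left h1) ?_) (Subgroup.mem_sup_right h2)) ?_
      · exact Subgroup.mem_sup_left ha
      · exact Subgroup.mem_sup_left (inv_mem ha)
    have h3 : K ≤ A := (PCompOf.pGen_eq hK).ge.trans
      ((pGen_mono hsub).trans (pGen_sup_le' (inf_le_right.trans hEA) hcop))
    refine hne (le_bot_iff.mp ((Subgroup.commutator_mono (h3.trans inf_le_right) hJF).trans
      (le_of_eq ?_)))
    rw [Subgroup.commutator_eq_bot_iff_le_centralizer]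

/-- A `p`-component of `C(x)` inside `E(G)`: in one invariant component, or a diagonal. -/
theorem pumpUp_dichotomy {x : G} (hx : orderOf x = p) {K : Subgroup G}
    (hK : Cfsg.IsPComponentOf p K (centralizer ({x} : Set G))) (hKE : K ≤ Cfsg.layer G) :
    ∃ J : Subgroup G, Cfsg.IsComponent J ∧ ((x ∈ normalizer (J : Set G) ∧ K ≤ J) ∨
      ∃ h : IsPermuted p x J, K = h.diagHom.range) := by
  obtain ⟨J, hJ, -, hKF⟩ := pComponent_le_orbit hK hKE
  refine ⟨J, hJ, ?_⟩
  set F := ⨆ i : ℕ, MulAut.conj (x ^ i) • J with hF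
  by_cases hxJ : x ∈ normalizer (J : Set G)
  · refine Or.inl ⟨hxJ, hKF.trans (iSup_le fun i => ?_)⟩
    rw [smul_eq_self_of_mem_normalizer (pow_mem hxJ i)]
  right
  have h : IsPermuted p x J := ⟨hJ, by rw [← hx, pow_orderOf_eq_one], hxJ⟩
  refine ⟨h, ?_⟩
  set R := h.diagHom.range with hR
  have hmod : ∀ i : ℕ, MulAut.conj (x ^ i) • J = MulAut.conj (x ^ (i % p)) • J := fun i => by
    rw [pow_mod_orderOf x i |>.symm, hx]
  have hFJ : F ≤ J ⊔ centralizer (J : Set G) := iSup_le fun i => by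
    by_cases hi : MulAut.conj (x ^ i) • J = J
    · exact hi.le.trans le_sup_left
    · exact (Subgroup.commutator_eq_bot_iff_le_centralizer.mp
        (components_commute (h.isComponent_conj_pow i) hJ hi)).trans le_sup_right
  have hRF : R ≤ F := h.diag_le_iSup
  -- fixed points in `F` are diagonal modulo the centre
  have hfix : ∀ k ∈ K, ∃ r ∈ R, r⁻¹ * k ∈ centralizer (F : Set G) := by
    intro k hk
    have hk' : k ∈ ((J ⊔ centralizer (J : Set G) : Subgroup G) : Set G) := hFJ (hKF hk)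
    rw [Subgroup.coe_mul_of_left_le_normalizer_right J _
      (Subgroup.le_normalizer.trans (normalizer_le_normalizer_centralizer' J))] at hk'
    obtain ⟨l, hl, c, hc, rfl⟩ := hk'
    refine ⟨h.diagHom ⟨l, hl⟩, ⟨⟨l, hl⟩, rfl⟩, ?_⟩
    have hle : F ≤ centralizer ({(h.diagHom ⟨l, hl⟩)⁻¹ * (l * c)} : Set G) := iSup_le fun i => by
      intro b hb
      obtain ⟨m, hm, rfl⟩ := hb
      refine Subgroup.mem_centralizer_singleton_iff.mpr ?_
      show x ^ i * m * (x ^ i)⁻¹ * ((h.diagHom ⟨l, hl⟩)⁻¹ * (l * c)) =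
        (h.diagHom ⟨l, hl⟩)⁻¹ * (l * c) * (x ^ i * m * (x ^ i)⁻¹)
      set d := h.diagHom ⟨l, hl⟩ with hd
      have h1 : d * (x ^ i * m * (x ^ i)⁻¹) * d⁻¹ = x ^ i * (l * m * l⁻¹) * (x ^ i)⁻¹ :=
        h.diagHom_act_conj ⟨l, hl⟩ i hm
      have hxk : (l * c) * x ^ i = x ^ i * (l * c) :=
        ((show Commute (l * c) x from Subgroup.mem_centralizer_singleton_iff.mp (hK.1 hk)).pow_right i).eq
      have hcm : c * m = m * c := (Subgroup.mem_centralizer_iff.mp hc m hm).symm
      have h2 : (l * c) * (x ^ i * m * (x ^ i)⁻¹) * (l * c)⁻¹ = x ^ i * (l * m * l⁻¹) * (x ^ i)⁻¹ := by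
        calc (l * c) * (x ^ i * m * (x ^ i)⁻¹) * (l * c)⁻¹
            = ((l * c) * x ^ i) * m * ((l * c) * x ^ i)⁻¹ := by group
          _ = x ^ i * (l * (c * m) * c⁻¹ * l⁻¹) * (x ^ i)⁻¹ := by rw [hxk]; group
          _ = _ := by rw [hcm]; group
      calc x ^ i * m * (x ^ i)⁻¹ * (d⁻¹ * (l * c))
          = d⁻¹ * (d * (x ^ i * m * (x ^ i)⁻¹) * d⁻¹) * (l * c) := by group
        _ = d⁻¹ * ((l * c) * (x ^ i * m * (x ^ i)⁻¹) * (l * c)⁻¹) * (l * c) := by rw [h1, h2]
        _ = d⁻¹ * (l * c) * (x ^ i * m * (x ^ i)⁻¹) := by group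
    exact Subgroup.mem_centralizer_iff.mpr fun b hb =>
      Subgroup.mem_centralizer_singleton_iff.mp (hle hb)
  have hKR : K ≤ R := by
    conv_lhs => rw [← PCompOf.perfect hK]
    rw [Subgroup.commutator_le]
    intro a ha b hb
    obtain ⟨r, hr, hrc⟩ := hfix a ha
    obtain ⟨s, hs, hsc⟩ := hfix b hb
    set c := r⁻¹ * a with hc
    set d := s⁻¹ * b with hd
    have e1 : a = r * c := by rw [hc]; group
    have e2 : b = s * d := by rw [hd]; group
    rw [e1, e2]
    have hcd : ∀ e ∈ F, c * e = e * c ∧ d * e = e * d := fun e he =>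
      ⟨(Subgroup.mem_centralizer_iff.mp hrc e he).symm, (Subgroup.mem_centralizer_iff.mp hsc e he).symm⟩
    have hdF : d ∈ F := mul_mem (inv_mem (hRF hs)) (hKF hb)
    have hcF : c ∈ F := mul_mem (inv_mem (hRF hr)) (hKF ha)
    rw [commutatorElement_mul_left_eq_conj_mul,
      show ⁅c, s * d⁆ = 1 from commutatorElement_eq_one_iff_mul_comm.mpr
        (hcd _ (mul_mem (hRF hs) hdF)).1,
      commutatorElement_mul_right_eq_mul_conj r s d,
      show ⁅r, d⁆ = 1 from commutatorElement_eq_one_iff_mul_comm.mpr (hcd _ (hRF hr)).2.symm]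
    simp only [mul_one, one_mul, mul_inv_cancel, mul_inv_cancel_right]
    exact Subgroup.commutator_le_self R (Subgroup.commutator_mem_commutator hr hs)
  have hRC : R ≤ centralizer ({x} : Set G) := by
    rintro _ ⟨l, rfl⟩
    exact Subgroup.mem_centralizer_singleton_iff.mpr (h.diagHom_commute l).eq
  rcases IsQuasisimple.subnormal_eq_top_or_le_center h.diag_isQuasisimple
    (subnormal_subgroupOf_mono hRC hK.2.1) with ht | hcn
  · exact le_antisymm hKR (Subgroup.subgroupOf_eq_top.mp ht)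
  · exfalso
    refine PCompOf.ne_bot hK ?_
    rw [← PCompOf.perfect hK, Subgroup.commutator_eq_bot_iff_le_centralizer]
    intro a ha
    refine Subgroup.mem_centralizer_iff.mpr fun b hb => ?_
    exact congrArg Subtype.val (Subgroup.mem_center_iff.mp
      (hcn (show (⟨a, hKR ha⟩ : R) ∈ K.subgroupOf R from ha)) ⟨b, hKR hb⟩)

end CfsgLib.Components
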