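import Cfsg.Agent.Lib.Signalizer.PComponents

/-!
# Further properties of `p`-components
-/

set_option autoImplicit false
set_option linter.style.haveILetI false

namespace CfsgLib.Components

open Subgroup
open CfsgLib.Signalizer
open scoped commutatorElement

variable {G : Type*} [Group G] [Finite G] {p : ℕ} [hp : Fact p.Prime]

omit [Finite G] hp in
theorem pComponent_le_pLayer {K : Subgroup G} (hK : Cfsg.IsPComponent p K) :
    K ≤ Cfsg.pLayer p G := le_sSup hK

omit hp in
theorem pComponent_ker {K : Subgroup G} (hK : Cfsg.IsPComponent p K) :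
    ((modCore p G).subgroupMap K).ker = Cfsg.pPrimeCore p K := by
  apply Subgroup.map_injective K.subtype_injective
  rw [pComponent_core hK]
  ext x
  simp only [Subgroup.mem_map, MonoidHom.mem_ker, Subgroup.mem_inf]
  constructor
  · rintro ⟨y, hy, rfl⟩
    exact ⟨(QuotientGroup.eq_one_iff _).mp (congrArg Subtype.val hy), y.2⟩
  · rintro ⟨hx, hxK⟩
    exact ⟨⟨x, hxK⟩, Subtype.ext ((QuotientGroup.eq_one_iff x).mpr hx), rfl⟩

omit hp in
theorem pComponent_quotient_core {K : Subgroup G} (hK : Cfsg.IsPComponent p K) :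
    Cfsg.IsQuasisimple (K ⧸ Cfsg.pPrimeCore p K) := by
  refine IsQuasisimple.congr ?_ hK.2.1.2
  exact ((QuotientGroup.quotientMulEquivOfEq (pComponent_ker hK).symm).trans
    (QuotientGroup.quotientKerEquivOfSurjective ((modCore p G).subgroupMap K)
      ((modCore p G).subgroupMap_surjective K))).symm

omit hp in
theorem pComponent_isPerfect {K : Subgroup G} (hK : Cfsg.IsPComponent p K) : Group.IsPerfect K :=
  Subgroup.isPerfect_iff.mpr (pComponent_perfect hK)

theorem pComponent_quasisimple_iff {K : Subgroup G} (hK : Cfsg.IsPComponent p K) :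
    Cfsg.IsQuasisimple K ↔ ⁅K, (Cfsg.pPrimeCore p K).map K.subtype⁆ = ⊥ := by
  have hbr : ⁅K, (Cfsg.pPrimeCore p K).map K.subtype⁆ = ⊥ ↔
      Cfsg.pPrimeCore p K ≤ Subgroup.center K := by
    rw [Subgroup.commutator_comm, Subgroup.commutator_eq_bot_iff_le_centralizer,
      Subgroup.map_le_iff_le_comap]
    constructor
    · intro h x hx
      exact Subgroup.mem_center_iff.mpr fun y =>
        Subtype.ext (Subgroup.mem_centralizer_iff.mp (h hx) y y.2)
    · intro h x hx
      exact Subgroup.mem_centralizer_iff.mpr fun y hy =>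
        congrArg Subtype.val (Subgroup.mem_center_iff.mp (h hx) ⟨y, hy⟩)
  rw [hbr]
  refine ⟨fun h => IsQuasisimple.le_center_of_ne_top h (pPrimeCore_normal p) fun e => ?_, fun h => ?_⟩
  · have h1 := pPrimeCore_coprime (G := K) p
    rw [e, Subgroup.card_top] at h1
    exact hp.out.coprime_iff_not_dvd.mp h1.symm (pComponent_dvd_card hK)
  haveI := pComponent_isPerfect hK
  haveI : Nontrivial K := Finite.one_lt_card_iff_nontrivial.mp
    (lt_of_lt_of_le hp.out.one_lt (Nat.le_of_dvd Nat.card_pos (pComponent_dvd_card hK)))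
  refine isQuasisimple_of_normal_le_center fun N hN hne => ?_
  haveI := hN
  set f := QuotientGroup.mk' (Cfsg.pPrimeCore p K) with hf
  rcases IsQuasisimple.normal_le_center_or_eq_top (pComponent_quotient_core hK)
    (hN.map f (QuotientGroup.mk'_surjective _)) with hc | ht
  · have h1 : ⁅N, (⊤ : Subgroup K)⁆ ≤ Cfsg.pPrimeCore p K := by
      conv_rhs => rw [← QuotientGroup.ker_mk' (Cfsg.pPrimeCore p K)]
      rw [← Subgroup.map_eq_bot_iff, Subgroup.map_commutator, eq_bot_iff]
      refine (Subgroup.commutator_mono hc le_rfl).trans (le_of_eq ?_)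
      rw [Subgroup.commutator_eq_bot_iff_le_centralizer]
      exact Subgroup.center_le_centralizer _
    have h2 : ⁅⁅N, (⊤ : Subgroup K)⁆, (⊤ : Subgroup K)⁆ = ⊥ := by
      rw [Subgroup.commutator_eq_bot_iff_le_centralizer]
      exact (h1.trans h).trans (Subgroup.center_le_centralizer _)
    have h3 : ⁅⁅(⊤ : Subgroup K), ⊤⁆, N⁆ = ⊥ :=
      Subgroup.commutator_commutator_eq_bot_of_rotate (by rw [Subgroup.commutator_comm ⊤ N]; exact h2) h2
    rw [← commutator_def, Group.IsPerfect.commutator_eq_top, Subgroup.commutator_comm,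
      Subgroup.commutator_eq_bot_iff_le_centralizer] at h3
    intro x hx
    exact Subgroup.mem_center_iff.mpr fun y =>
      Subgroup.mem_centralizer_iff.mp (h3 hx) y (Subgroup.mem_top y)
  · exfalso
    apply hne
    have hsup : N ⊔ Cfsg.pPrimeCore p K = ⊤ := by
      have := congrArg (Subgroup.comap f) ht
      rwa [Subgroup.comap_map_eq, hf, QuotientGroup.ker_mk', Subgroup.comap_top] at this
    refine top_le_iff.mp ?_
    rw [← Group.IsPerfect.commutator_eq_top (G := K), commutator_def, ← hsup,
      Subgroup.commutator_le]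
    intro a ha b hb
    obtain ⟨n, hn, z, hz, rfl⟩ := (Subgroup.mem_sup_of_normal_right).mp ha
    obtain ⟨m, hm, w, hw, rfl⟩ := (Subgroup.mem_sup_of_normal_right).mp hb
    have h1 : ⁅z, m * w⁆ = 1 := commutatorElement_eq_one_iff_mul_comm.mpr
      (Subgroup.mem_center_iff.mp (h hz) _).symm
    have h2 : ⁅n, w⁆ = 1 := commutatorElement_eq_one_iff_mul_comm.mpr
      (Subgroup.mem_center_iff.mp (h hw) _)
    rw [commutatorElement_mul_left_eq_conj_mul, h1, commutatorElement_mul_right_eq_mul_conj n m w, h2]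
    simpa using Subgroup.commutator_le_self N (Subgroup.commutator_mem_commutator hn hm)

/-- A `p`-component is minimal among perfect subnormal subgroups of order divisible by `p`. -/
theorem pComponent_eq_of_perfect_subnormal {K H : Subgroup G} (hK : Cfsg.IsPComponent p K)
    (hle : H ≤ K) (hsn : H.IsSubnormal) (hperf : ⁅H, H⁆ = H) (hd : p ∣ Nat.card H) : H = K := by
  have hsn' : ((H.map (modCore p G)).subgroupOf (K.map (modCore p G))).IsSubnormal :=
    (hsn.map modCore_surjective).subgroupOf
  rcases IsQuasisimple.subnormal_eq_top_or_le_center hK.2.1.2 hsn' with ht | hc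
  · exact hK.2.2 H hsn hle (le_antisymm (Subgroup.map_mono hle) (Subgroup.subgroupOf_eq_top.mp ht))
  exfalso
  have hcomm : ⁅H.map (modCore p G), H.map (modCore p G)⁆ = ⊥ := by
    rw [Subgroup.commutator_eq_bot_iff_le_centralizer]
    intro x hx
    refine Subgroup.mem_centralizer_iff.mpr fun y hy => ?_
    have hx' : (⟨x, Subgroup.map_mono hle hx⟩ : K.map (modCore p G)) ∈ Subgroup.center _ := hc hx
    exact congrArg Subtype.val (Subgroup.mem_center_iff.mp hx' ⟨y, Subgroup.map_mono hle hy⟩)
  rw [← Subgroup.map_commutator, hperf, Subgroup.map_eq_bot_iff, QuotientGroup.ker_mk'] at hcomm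
  exact hp.out.coprime_iff_not_dvd.mp
    ((pPrimeCore_coprime p).coprime_dvd_left (Subgroup.card_dvd_of_le hcomm)).symm hd

theorem pComponents_commute_of_quasisimple {K L : Subgroup G} (hK : Cfsg.IsPComponent p K)
    (hL : Cfsg.IsPComponent p L) (hne : K ≠ L) (hq : Cfsg.IsQuasisimple K) : ⁅K, L⁆ = ⊥ := by
  have h0 := (pComponent_quasisimple_iff hK).mp hq
  rw [pComponent_core hK] at h0
  have h1 : ⁅⁅K, L⁆, K⁆ = ⊥ := by
    rw [Subgroup.commutator_comm, eq_bot_iff, ← h0]
    exact Subgroup.commutator_mono le_rfl ((pComponents_commutator_le hK hL hne).trans inf_le_left)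
  have h2 : ⁅⁅L, K⁆, K⁆ = ⊥ := by rwa [Subgroup.commutator_comm L K]
  have h3 := Subgroup.commutator_commutator_eq_bot_of_rotate (H₁ := K) (H₂ := K) (H₃ := L) h1 h2
  rwa [pComponent_perfect hK] at h3

end CfsgLib.Components
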