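import Cfsg.Agent.Lib.Components.LocalBalance
import Cfsg.Agent.Lib.Components.PComponentExtra
import Cfsg.Prelude.Def_KGroupFacts

/-!
# `L`-balance under the Schreier property

* `exists_inner`: a perfect subgroup normalizing a component with solvable `Out` induces inner automorphisms;
* `local_layer_le_layer`: `L_{p'}(N(R)) ≤ E(X)` when `O_{p'}(X) = 1`;
* `pLayer_local_le`: `L_{p'}(N(R)) ≤ L_{p'}(X)`.
-/

set_option autoImplicit false
set_option linter.style.haveILetI false

namespace CfsgLib.Components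

open Subgroup
open CfsgLib.Signalizer
open scoped Pointwise commutatorElement

variable {G : Type*} [Group G]

/-- The action of `MulAut L` on `L / Z(L)`. -/
noncomputable def centralQuotientAut (L : Type*) [Group L] :
    MulAut L →* MulAut (L ⧸ Subgroup.center L) where
  toFun e := QuotientGroup.congr _ _ e
    (Subgroup.characteristic_iff_map_eq.mp inferInstance e)
  map_one' := by
    ext x
    obtain ⟨a, rfl⟩ := QuotientGroup.mk_surjective x
    rfl
  map_mul' e f := by
    ext x
    obtain ⟨a, rfl⟩ := QuotientGroup.mk_surjective x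
    rfl

/-- Schreier: a perfect group normalizing a component induces inner automorphisms on it. -/
theorem exists_inner {L K : Subgroup G} (hL : Cfsg.IsComponent L)
    (hKn : K ≤ normalizer (L : Set G)) (hK : ⁅K, K⁆ = K)
    (hS : Group.IsSolvable (Cfsg.Out (↥L ⧸ Subgroup.center ↥L))) :
    ∀ k ∈ K, ∃ l ∈ L, l⁻¹ * k ∈ centralizer (L : Set G) := by
  intro k hk
  set Lb := ↥L ⧸ Subgroup.center ↥L
  set f : K →* Cfsg.Out Lb := (QuotientGroup.mk' (Cfsg.Inn Lb)).comp
    ((centralQuotientAut L).comp (L.normalizerMonoidHom.comp (Subgroup.inclusion hKn))) with hf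
  haveI hp : Group.IsPerfect K := Subgroup.isPerfect_iff.mpr hK
  have hbot : f ⟨k, hk⟩ = 1 := by
    haveI : Group.IsSolvable (Cfsg.Out Lb) := hS
    haveI : Group.IsPerfect f.range := Group.IsPerfect.ofSurjective f.rangeRestrict_surjective
    by_contra h
    haveI : Nontrivial f.range :=
      ⟨⟨⟨f ⟨k, hk⟩, ⟨k, hk⟩, rfl⟩, 1, fun e => h (congrArg Subtype.val e)⟩⟩
    exact (Group.IsSolvable.commutator_lt_top_of_nontrivial f.range).ne
      (Group.IsPerfect.commutator_eq_top)
  rw [hf, MonoidHom.comp_apply, QuotientGroup.mk'_apply, QuotientGroup.eq_one_iff] at hbot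
  obtain ⟨lb, hlb⟩ := hbot
  obtain ⟨⟨l, hl⟩, rfl⟩ := QuotientGroup.mk_surjective lb
  refine ⟨l, hl, ?_⟩
  set c := l⁻¹ * k with hc
  have hcn : c ∈ normalizer (L : Set G) := mul_mem (inv_mem (le_normalizer hl)) (hKn hk)
  have hmem : ∀ a ∈ L, c * a * c⁻¹ * a⁻¹ ∈ L := fun a ha =>
    mul_mem ((mem_normalizer_iff.mp hcn a).mp ha) (inv_mem ha)
  have hcen : ∀ a : L, (⟨c * a * c⁻¹ * (a : G)⁻¹, hmem a a.2⟩ : L) ∈ Subgroup.center L := by
    intro a
    have h1 := congrArg (fun e : MulAut Lb => e (QuotientGroup.mk a)) hlb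
    simp only [centralQuotientAut, MonoidHom.coe_mk, OneHom.coe_mk, MulAut.conj_apply] at h1
    change (QuotientGroup.mk (⟨l, hl⟩ * a * ⟨l, hl⟩⁻¹) : Lb) =
      QuotientGroup.mk (⟨k * a * k⁻¹, (mem_normalizer_iff.mp (hKn hk) _).mp a.2⟩ : L) at h1
    rw [QuotientGroup.eq] at h1
    have h2 : (⟨c * a * c⁻¹ * (a : G)⁻¹, hmem a a.2⟩ : L) = (a * ⟨l, hl⟩⁻¹) *
        ((⟨l, hl⟩ * a * ⟨l, hl⟩⁻¹)⁻¹ * ⟨k * a * k⁻¹, (mem_normalizer_iff.mp (hKn hk) _).mp a.2⟩) *
        (a * ⟨l, hl⟩⁻¹)⁻¹ := by
      refine Subtype.ext ?_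
      simp only [Subgroup.coe_mul, Subgroup.coe_inv, hc]
      group
    rw [h2]
    exact Subgroup.Normal.conj_mem inferInstance _ h1 _
  let ψ : L →* Subgroup.center L :=
    { toFun := fun a => ⟨_, hcen a⟩
      map_one' := Subtype.ext (Subtype.ext (by simp))
      map_mul' := fun a b => by
        refine Subtype.ext (Subtype.ext ?_)
        show c * ((a : G) * b) * c⁻¹ * ((a : G) * b)⁻¹ =
          (c * a * c⁻¹ * (a : G)⁻¹) * (c * b * c⁻¹ * (b : G)⁻¹)
        have h3 : (a : G) * (c * b * c⁻¹ * (b : G)⁻¹) = (c * b * c⁻¹ * (b : G)⁻¹) * a :=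
          congrArg Subtype.val (Subgroup.mem_center_iff.mp (hcen b) a)
        calc c * ((a : G) * b) * c⁻¹ * ((a : G) * b)⁻¹
            = (c * a * c⁻¹) * (c * b * c⁻¹ * (b : G)⁻¹) * (a : G)⁻¹ := by group
          _ = (c * a * c⁻¹ * (a : G)⁻¹) * ((a : G) * (c * b * c⁻¹ * (b : G)⁻¹)) * (a : G)⁻¹ := by group
          _ = _ := by rw [h3]; group }
  have hψ : ψ.ker = ⊤ := by
    rw [eq_top_iff, ← hL.2.1.commutator_eq_top, _root_.commutator_def, Subgroup.commutator_le]
    intro a _ b _
    rw [MonoidHom.mem_ker, map_commutatorElement]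
    exact commutatorElement_eq_one_iff_mul_comm.mpr
      (Subtype.ext ((Subgroup.mem_center_iff.mp (ψ b).2) (ψ a : L)))
  refine mem_centralizer_iff.mpr fun a ha => ?_
  have h6 : c * a * c⁻¹ * a⁻¹ = 1 := congrArg (fun z : Subgroup.center L => ((z : L) : G))
    (MonoidHom.mem_ker.mp (hψ.ge (Subgroup.mem_top (⟨a, ha⟩ : L))))
  rw [mul_inv_eq_one, mul_inv_eq_iff_eq_mul] at h6
  exact h6.symm

/-- A perfect subgroup normalizing all components and centralizing `F(G)` lies in `E(G)`. -/
theorem le_layer_of_schreier [Finite G] {K : Subgroup G} (hK : ⁅K, K⁆ = K)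
    (hn : ∀ L : Subgroup G, Cfsg.IsComponent L → K ≤ normalizer (L : Set G))
    (hF : K ≤ centralizer (Cfsg.fittingSubgroup G : Set G))
    (hS : ∀ L : Subgroup G, Cfsg.IsComponent L → Group.IsSolvable (Cfsg.Out (↥L ⧸ Subgroup.center ↥L))) :
    K ≤ Cfsg.layer G := by
  classical
  haveI := layer_normal (G := G)
  have key : K ≤ Cfsg.generalizedFittingSubgroup G := by
    intro k hk
    have step : ∀ s : Set (Subgroup G), s.Finite → (∀ L ∈ s, Cfsg.IsComponent L) →
        ∃ e ∈ Cfsg.layer G, ∀ L ∈ s, e⁻¹ * k ∈ centralizer (L : Set G) := by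
      intro s hs
      induction s, hs using Set.Finite.induction_on with
      | empty => intro _; exact ⟨1, one_mem _, fun L hL => absurd hL (Set.notMem_empty L)⟩
      | @insert L t hLt _ ih =>
        intro hcomp
        obtain ⟨e, he, het⟩ := ih fun M hM => hcomp M (Set.mem_insert_of_mem _ hM)
        have hLc := hcomp L (Set.mem_insert _ _)
        obtain ⟨l, hl, hlc⟩ := exists_inner hLc (hn L hLc) hK (hS L hLc) k hk
        -- the part of `e` in `L`
        have hdec : ∃ l' ∈ L, l'⁻¹ * e ∈ centralizer (L : Set G) := by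
          have hE : Cfsg.layer G ≤ L ⊔ centralizer (L : Set G) := layer_le_iff.mpr fun M hM => by
            by_cases hML : M = L
            · exact hML ▸ le_sup_left
            · exact (commutator_eq_bot_iff_le_centralizer.mp (components_commute hM hLc hML)).trans le_sup_right
          have he' : e ∈ ((L ⊔ centralizer (L : Set G) : Subgroup G) : Set G) := hE he
          rw [Subgroup.coe_mul_of_left_le_normalizer_right L _
            (le_normalizer.trans (normalizer_le_normalizer_centralizer' L))] at he'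
          obtain ⟨u, hu, v, hv, rfl⟩ := he'
          exact ⟨u, hu, by simpa using hv⟩
        obtain ⟨l', hl', hl'e⟩ := hdec
        -- `e' = e · (l'⁻¹ l)`
        refine ⟨e * (l'⁻¹ * l), mul_mem he (le_layer hLc (mul_mem (inv_mem hl') hl)), fun M hM => ?_⟩
        have hLL : l'⁻¹ * l ∈ L := mul_mem (inv_mem hl') hl
        rcases Set.mem_insert_iff.mp hM with rfl | hM'
        · have hd : (l'⁻¹ * e)⁻¹ ∈ centralizer (M : Set G) := inv_mem hl'e
          have h1 : (l'⁻¹ * e) * (l'⁻¹ * l) = (l'⁻¹ * l) * (l'⁻¹ * e) :=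
            (mem_centralizer_iff.mp hl'e _ hLL).symm
          have h2 : (e * (l'⁻¹ * l))⁻¹ * k = (l'⁻¹ * e)⁻¹ * (l⁻¹ * k) := by
            have : e * (l'⁻¹ * l) = l * (l'⁻¹ * e) := by
              calc e * (l'⁻¹ * l) = l' * ((l'⁻¹ * e) * (l'⁻¹ * l)) := by group
                _ = l' * ((l'⁻¹ * l) * (l'⁻¹ * e)) := by rw [h1]
                _ = _ := by group
            rw [this]; group
          rw [h2]
          exact mul_mem hd hlc
        · have hne : L ≠ M := fun h => hLt (h ▸ hM')
          have hLM : L ≤ centralizer (M : Set G) :=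
            commutator_eq_bot_iff_le_centralizer.mp (components_commute hLc (hcomp M hM) hne)
          rw [mul_inv_rev, mul_assoc]
          exact mul_mem (inv_mem (hLM hLL)) (het M hM')
    obtain ⟨e, he, hec⟩ := step {L | Cfsg.IsComponent L} (Set.toFinite _) fun L hL => hL
    have hc : e⁻¹ * k ∈ centralizer (Cfsg.generalizedFittingSubgroup G : Set G) := by
      rw [Cfsg.generalizedFittingSubgroup]
      have h1 : Cfsg.layer G ⊔ Cfsg.fittingSubgroup G ≤ centralizer ({e⁻¹ * k} : Set G) := by
        refine sup_le (layer_le_iff.mpr fun L hL => ?_) fun u hu => ?_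
        · exact fun u hu => mem_centralizer_singleton_iff.mpr (mem_centralizer_iff.mp (hec L hL) u hu)
        · refine mem_centralizer_singleton_iff.mpr (mem_centralizer_iff.mp (mul_mem (inv_mem ?_) (hF hk)) u hu)
          exact commutator_eq_bot_iff_le_centralizer.mp layer_commutes_fitting he
      exact mem_centralizer_iff.mpr fun u hu => mem_centralizer_singleton_iff.mp (h1 hu)
    have := mul_mem (layer_le_gFitting he) (centralizer_gFitting_le hc)
    rwa [mul_inv_cancel_left] at this
  -- `F* / E` is solvable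
  haveI hfn := fitting_normal (G := G)
  haveI := fitting_isNilpotent (G := G)
  set π := QuotientGroup.mk' (Cfsg.layer G)
  have h1 : K.map π ≤ (Cfsg.fittingSubgroup G).map π := by
    refine (map_mono key).trans ?_
    rw [Cfsg.generalizedFittingSubgroup, Subgroup.map_sup, QuotientGroup.map_mk'_self, bot_sup_eq]
  haveI : Group.IsNilpotent ((Cfsg.fittingSubgroup G).map π) :=
    Group.nilpotent_of_surjective (π.subgroupMap (Cfsg.fittingSubgroup G))
      (π.subgroupMap_surjective _)
  have h2 : Group.IsSolvable (K.map π) :=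
    CfsgLib.Core.isSolvable_of_le inferInstance h1
  have h3 : K.map π = ⊥ := by
    by_contra hne
    haveI : Nontrivial (K.map π) := (nontrivial_iff_ne_bot _).mpr hne
    haveI : Group.IsPerfect (K.map π) :=
      Subgroup.isPerfect_iff.mpr (by rw [← Subgroup.map_commutator, hK])
    exact (Group.IsSolvable.commutator_lt_top_of_nontrivial (K.map π)).ne
      Group.IsPerfect.commutator_eq_top
  rwa [Subgroup.map_eq_bot_iff, QuotientGroup.ker_mk'] at h3

variable [Finite G] {p : ℕ} [hp : Fact p.Prime]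

/-- `L`-balance when `O_{p'}(G) = 1`. -/
theorem local_layer_le_layer (hO : Cfsg.pPrimeCore p G = ⊥)
    (hS : ∀ L : Subgroup G, Cfsg.IsComponent L → Group.IsSolvable (Cfsg.Out (↥L ⧸ Subgroup.center ↥L)))
    {R : Subgroup G} (hR : IsPGroup p R) :
    (Cfsg.pLayer p (normalizer (R : Set G))).map (normalizer (R : Set G)).subtype ≤ Cfsg.layer G := by
  set N := normalizer (R : Set G)
  have hK : ⁅(Cfsg.pLayer p N).map N.subtype, (Cfsg.pLayer p N).map N.subtype⁆ =
      (Cfsg.pLayer p N).map N.subtype := by rw [← Subgroup.map_commutator, pLayer_perfect]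
  refine le_layer_of_schreier hK (fun L hL => (Subgroup.map_mono le_sup_left).trans
    (local_normalizes_component hO hR hL)) ?_ hS
  rw [fitting_eq_pCore_of_core_bot hO]
  refine perfect_le_of_coprime (p := p) hK fun x hx hcop => ?_
  refine centralizes_pCore_of_local hR hcop ?_
  obtain ⟨z, hz, rfl⟩ := hx
  rw [Subgroup.mem_centralizer_iff]
  rintro _ ⟨v, hv, rfl⟩
  exact congrArg Subtype.val (mem_centralizer_iff.mp
    (commutator_eq_bot_iff_le_centralizer.mp pLayer_commutes_pCore hz) v hv)

/-- `L`-balance: it suffices to prove it in `G / O_{p'}(G)`. -/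
theorem pLayer_local_le_of
    (hloc : ∀ R' : Subgroup (G ⧸ Cfsg.pPrimeCore p G), IsPGroup p R' →
      (Cfsg.pLayer p (normalizer (R' : Set (G ⧸ Cfsg.pPrimeCore p G)))).map
        (normalizer (R' : Set (G ⧸ Cfsg.pPrimeCore p G))).subtype ≤
          Cfsg.layer (G ⧸ Cfsg.pPrimeCore p G))
    {R : Subgroup G} (hR : IsPGroup p R) :
    (Cfsg.pLayer p (normalizer (R : Set G))).map (normalizer (R : Set G)).subtype ≤ Cfsg.pLayer p G := by
  haveI := pPrimeCore_normal (G := G) p
  set π := modCore p G with hπ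
  set N := normalizer (R : Set G) with hN
  set N' := normalizer ((R.map π : Subgroup (G ⧸ Cfsg.pPrimeCore p G)) : Set (G ⧸ Cfsg.pPrimeCore p G)) with hN'
  have hmapN : N.map π = N' :=
    PLocal.map_normalizer_eq (Cfsg.pPrimeCore p G) (pPrimeCore_coprime p) hR
  -- it suffices to show that each `p`-component maps into the layer
  rw [Subgroup.map_le_iff_le_comap]
  refine sSup_le fun K hK => ?_
  rw [← Subgroup.map_le_iff_le_comap]
  set f : N →* N' := (π.comp N.subtype).codRestrict N' (fun h => hmapN.le ⟨h, h.2, rfl⟩) with hf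
  have hfs : Function.Surjective f := by
    rintro ⟨z, hz⟩
    obtain ⟨h, hh, rfl⟩ := hmapN.ge hz
    exact ⟨⟨h, hh⟩, rfl⟩
  have hker : f.ker ≤ Cfsg.pPrimeCore p N := by
    refine le_pPrimeCore inferInstance ((pPrimeCore_coprime (G := G) p).coprime_dvd_left ?_)
    rw [← Subgroup.card_map_of_injective N.subtype_injective]
    refine Subgroup.card_dvd_of_le ?_
    rintro _ ⟨z, hz, rfl⟩
    exact (QuotientGroup.eq_one_iff _).mp (congrArg Subtype.val hz)
  have hKf : K.map f ≤ Cfsg.pLayer p N' := by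
    have hO : (Cfsg.pPrimeCore p N).map f = Cfsg.pPrimeCore p N' := by
      refine le_antisymm (le_pPrimeCore ((pPrimeCore_normal (G := N) p).map f hfs)
        ((pPrimeCore_coprime (G := N) p).coprime_dvd_left (Subgroup.card_map_dvd _ _))) ?_
      have h1 : (Cfsg.pPrimeCore p N').comap f ≤ Cfsg.pPrimeCore p N := by
        refine le_pPrimeCore ((pPrimeCore_normal (G := N') p).comap f) ?_
        have a1 : f.ker.relIndex ((Cfsg.pPrimeCore p N').comap f) =
            (⊥ : Subgroup N').relIndex (Cfsg.pPrimeCore p N') := by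
          rw [← MonoidHom.comap_bot, Subgroup.relIndex_comap,
            Subgroup.map_comap_eq_self_of_surjective hfs]
        rw [← Subgroup.relIndex_bot_left,
          ← Subgroup.relIndex_mul_relIndex _ _ _ bot_le (Subgroup.ker_le_comap _ _), a1,
          Subgroup.relIndex_bot_left, Subgroup.relIndex_bot_left]
        exact Nat.Coprime.mul_left ((pPrimeCore_coprime (G := N) p).coprime_dvd_left
          (Subgroup.card_dvd_of_le hker)) (pPrimeCore_coprime p)
      refine le_trans ?_ (Subgroup.map_mono h1)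
      rw [Subgroup.map_comap_eq_self_of_surjective hfs]
    haveI := pPrimeCore_normal (G := N') p
    set φ := QuotientGroup.map (Cfsg.pPrimeCore p N) (Cfsg.pPrimeCore p N') f
      (Subgroup.map_le_iff_le_comap.mp hO.le)
    have hφs : Function.Surjective φ := by
      intro z
      obtain ⟨w, rfl⟩ := QuotientGroup.mk_surjective z
      obtain ⟨v, rfl⟩ := hfs w
      exact ⟨QuotientGroup.mk v, rfl⟩
    have hφi : Function.Injective φ := by
      rw [← MonoidHom.ker_eq_bot_iff, eq_bot_iff]
      intro z hz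
      obtain ⟨v, rfl⟩ := QuotientGroup.mk_surjective z
      have h1 : f v ∈ Cfsg.pPrimeCore p N' := (QuotientGroup.eq_one_iff _).mp hz
      rw [← hO] at h1
      obtain ⟨o, ho, hov⟩ := h1
      rw [Subgroup.mem_bot, QuotientGroup.eq_one_iff]
      have h2 : o⁻¹ * v ∈ f.ker := by simp [MonoidHom.mem_ker, hov]
      rw [show v = o * (o⁻¹ * v) by group]
      exact mul_mem ho (hker h2)
    have hKb : Cfsg.IsComponent ((K.map f).map (modCore p N')) := by
      rw [show (K.map f).map (modCore p N') = (K.map (modCore p N)).map φ by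
        rw [Subgroup.map_map, Subgroup.map_map]; rfl]
      exact isComponent_map_equiv (MulEquiv.ofBijective φ ⟨hφi, hφs⟩) hK.2.1
    obtain ⟨hP, -⟩ := isPComponent_pGen hKb
    refine le_trans ?_ (pComponent_le_pLayer hP)
    conv_lhs => rw [← pComponent_pGen_eq hK, map_pGen]
    exact pGen_mono (Subgroup.le_comap_map _ _)
  -- now in the quotient
  have h2 := hloc (R.map π) (hR.map π)
  rw [← pLayer_map] at h2
  have h3 : (K.map N.subtype).map π ≤ (Cfsg.pLayer p G).map π := by
    refine le_trans ?_ ((Subgroup.map_mono hKf).trans h2)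
    rw [Subgroup.map_map, Subgroup.map_map]
    exact le_rfl
  haveI := pLayer_normal (G := G) (p := p)
  rw [Subgroup.map_le_iff_le_comap, Subgroup.comap_map_eq, QuotientGroup.ker_mk'] at h3
  calc K.map N.subtype = pGen p (K.map N.subtype) := by
        rw [← map_pGen, pComponent_pGen_eq hK]
    _ ≤ pGen p (Cfsg.pLayer p G ⊔ Cfsg.pPrimeCore p G) := pGen_mono h3
    _ ≤ Cfsg.pLayer p G := by
      refine pGen_le_iff.mpr fun x hx k hk => ?_
      obtain ⟨a, ha, o, ho, rfl⟩ := mem_sup_of_normal_right.mp hx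
      have h4 : (QuotientGroup.mk o : G ⧸ Cfsg.pLayer p G) ^ p ^ k = 1 := by
        rw [← QuotientGroup.mk_pow, QuotientGroup.eq_one_iff]
        have : (QuotientGroup.mk (a * o) : G ⧸ Cfsg.pLayer p G) ^ p ^ k = 1 := by
          rw [← QuotientGroup.mk_pow, hk]; rfl
        rw [QuotientGroup.mk_mul, (QuotientGroup.eq_one_iff a).mpr ha, one_mul,
          ← QuotientGroup.mk_pow, QuotientGroup.eq_one_iff] at this
        exact this
      refine mul_mem ha ((QuotientGroup.eq_one_iff o).mp (orderOf_eq_one_iff.mp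
        (Nat.eq_one_of_dvd_coprimes ((pPrimeCore_coprime (G := G) p).pow_right k) ?_
          (orderOf_dvd_of_pow_eq_one h4))))
      exact (orderOf_map_dvd (QuotientGroup.mk' (Cfsg.pLayer p G)) o).trans
        ((Cfsg.pPrimeCore p G).orderOf_dvd_natCard ho)

/-- `L`-balance: `L_{p'}(N(R)) ≤ L_{p'}(G)` under the Schreier property. -/
theorem pLayer_local_le
    (hS : ∀ K : Subgroup (G ⧸ Cfsg.pPrimeCore p G), Cfsg.IsComponent K →
      Group.IsSolvable (Cfsg.Out (↥K ⧸ Subgroup.center ↥K)))
    {R : Subgroup G} (hR : IsPGroup p R) :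
    (Cfsg.pLayer p (normalizer (R : Set G))).map (normalizer (R : Set G)).subtype ≤ Cfsg.pLayer p G :=
  pLayer_local_le_of
    (fun _ hR' => local_layer_le_layer (Core.pPrimeCore_quotient_pPrimeCore p G) hS hR') hR

end CfsgLib.Components
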