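import Cfsg.Agent.Lib.Components.PComponentOf
import Cfsg.Agent.Lib.Components.SchreierBalance
import Cfsg.Agent.Lib.ZStar.SylowCentralizer

/-!
# `L`-balance for `p = 2`

* `pComponent_two_local_le_layer`: if `O(G) = 1`, every 2-component of a 2-local subgroup lies in `E(G)`;
* `pLayer_two_local_le`: `L_{2'}(N(T)) ≤ L_{2'}(G)` for every 2-subgroup `T`;
* `pLayer_two_centralizer_le`: `L_{2'}(C(T)) ≤ L_{2'}(G)`.
-/

set_option autoImplicit false
set_option linter.style.haveILetI false

universe u

namespace CfsgLib.Components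

open Subgroup
open CfsgLib.Signalizer
open scoped commutatorElement Pointwise

variable {G : Type u} [Group G] [Finite G]

theorem pComponent_two_local_le_layer (hO : Cfsg.pPrimeCore 2 G = ⊥) {T : Subgroup G}
    (hT : IsPGroup 2 T) {K : Subgroup G} (hK : Cfsg.IsPComponentOf 2 K (normalizer (T : Set G))) :
    K ≤ Cfsg.layer G := by
  haveI : Fact (Nat.Prime 2) := ⟨Nat.prime_two⟩
  induction hn : Nat.card G - Nat.card T using Nat.strong_induction_on generalizing T K with
  | _ n ih =>
    set N := normalizer (T : Set G) with hN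
    set E := Cfsg.layer G with hE
    haveI hEn : E.Normal := layer_normal
    haveI := pPrimeCore_normal (G := N) 2
    set O := (Cfsg.pPrimeCore 2 N).map N.subtype with hO'
    have hOcop : (Nat.card O).Coprime 2 := by
      rw [hO', Subgroup.card_map_of_injective N.subtype_injective]
      exact pPrimeCore_coprime 2
    set π := modCore 2 N with hπ
    set Kb := (K.subgroupOf N).map π with hKb
    have hKbc : Cfsg.IsComponent Kb := hK.2.2.1
    have finish : K ≤ E ⊔ O → K ≤ E := fun h =>
      (PCompOf.pGen_eq hK).ge.trans ((pGen_mono h).trans (pGen_sup_le hOcop))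
    haveI hNn : (E.subgroupOf N).Normal := hEn.subgroupOf N
    rcases component_le_or_commutes hKbc (hNn.map π modCore_surjective).isSubnormal with h | h
    · refine finish fun k hk => ?_
      obtain ⟨e, he, hek⟩ := h ⟨⟨k, hK.1 hk⟩, hk, rfl⟩
      have h1 : e⁻¹ * (⟨k, hK.1 hk⟩ : N) ∈ Cfsg.pPrimeCore 2 N := QuotientGroup.eq.mp hek
      rw [show k = (e : G) * ((e⁻¹ * (⟨k, hK.1 hk⟩ : N) : N) : G) by simp]
      exact mul_mem (Subgroup.mem_sup_left he) (Subgroup.mem_sup_right ⟨_, h1, rfl⟩)
    -- `K` commutes with `E ∩ N` modulo the core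
    have hKC : K ≤ centralizer (T : Set G) := by
      haveI := pCore_normal (G := N) 2
      have h1 : K.subgroupOf N ≤ centralizer ((Cfsg.pCore 2 N : Subgroup N) : Set N) :=
        Subgroup.commutator_eq_bot_iff_le_centralizer.mp (le_bot_iff.mp
          ((commutator_mono (pComponent_le_pLayer hK.2) le_rfl).trans pLayer_commutes_pCore.le))
      have hTp : T.subgroupOf N ≤ Cfsg.pCore 2 N := le_pCore Subgroup.normal_in_normalizer
        (hT.comap_of_injective _ N.subtype_injective)
      intro k hk
      refine Subgroup.mem_centralizer_iff.mpr fun r hr => ?_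
      exact congrArg Subtype.val (Subgroup.mem_centralizer_iff.mp
        (h1 (show (⟨k, hK.1 hk⟩ : N) ∈ K.subgroupOf N from hk)) ⟨r, Subgroup.le_normalizer hr⟩
        (hTp (show (⟨r, _⟩ : N) ∈ T.subgroupOf N from hr)))
    set M := E ⊓ N ⊔ T with hM
    have hMN : M ≤ N := sup_le inf_le_right Subgroup.le_normalizer
    obtain ⟨P, hTP, hPM, hPp, hPi⟩ := Transfer.exists_sylow_of_le (le_sup_right : T ≤ M) hT
    by_cases hPT : P ≤ T
    · -- `T ∩ E` is a Sylow subgroup of `E`
      have hTi : ¬ 2 ∣ T.relIndex M := by rwa [le_antisymm hTP hPT]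
      obtain ⟨T₁, hTT₁, hT₁M, hT₁p, hT₁i⟩ := Transfer.exists_sylow_of_le (le_sup_right : T ≤ E ⊔ T) hT
      have hT₁ : T₁ = T := by
        by_contra hne
        have hlt := Transfer.lt_inf_normalizer hT₁p (lt_of_le_of_ne hTT₁ (Ne.symm hne))
        have hle : T₁ ⊓ N ≤ M := by
          intro v hv
          obtain ⟨e, he, t, ht, rfl⟩ := Subgroup.mem_sup_of_normal_left.mp (hT₁M hv.1)
          have heN : e ∈ N := by
            have h1 : e * t ∈ N := hv.2
            have h2 : t ∈ N := Subgroup.le_normalizer ht
            have := N.mul_mem h1 (N.inv_mem h2)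
            rwa [mul_inv_cancel_right] at this
          exact M.mul_mem (Subgroup.mem_sup_left ⟨he, heN⟩) (Subgroup.mem_sup_right ht)
        obtain ⟨m, -, hmV⟩ := Transfer.exists_conj_le hT hTi hle (hT₁p.to_inf_left : IsPGroup 2
          ((T₁ ⊓ N : Subgroup G)))
        refine absurd (Transfer.card_lt_of_lt hlt) (not_lt.mpr ?_)
        refine le_trans (Transfer.card_map_conj m⁻¹ _).ge (Subgroup.card_le_of_le ?_)
        rintro _ ⟨v, hv, rfl⟩
        show m⁻¹ * v * m⁻¹⁻¹ ∈ T
        rw [inv_inv]
        exact hmV v hv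
      subst hT₁
      set S := T₁ ⊓ E with hS
      have hSi : ¬ 2 ∣ S.relIndex E := by
        have a1 := Core.card_sup_mul_card_inf T₁ E Subgroup.le_normalizer_of_normal
        have a2 : Nat.card S * S.relIndex E = Nat.card E := by
          rw [← Subgroup.relIndex_bot_left S, Subgroup.relIndex_mul_relIndex _ _ _ bot_le inf_le_right,
            Subgroup.relIndex_bot_left]
        have a3 : Nat.card T₁ * T₁.relIndex (E ⊔ T₁) = Nat.card ↥(E ⊔ T₁) := by
          rw [← Subgroup.relIndex_bot_left T₁, Subgroup.relIndex_mul_relIndex _ _ _ bot_le le_sup_right,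
            Subgroup.relIndex_bot_left]
        rw [sup_comm T₁ E, ← a3, ← a2] at a1
        have a4 : T₁.relIndex (E ⊔ T₁) = S.relIndex E := by
          refine Nat.eq_of_mul_eq_mul_left (Nat.mul_pos (Nat.card_pos (α := T₁)) (Nat.card_pos (α := S))) ?_
          calc Nat.card T₁ * Nat.card S * T₁.relIndex (E ⊔ T₁)
              = Nat.card T₁ * T₁.relIndex (E ⊔ T₁) * Nat.card S := by ring
            _ = Nat.card T₁ * (Nat.card S * S.relIndex E) := a1
            _ = _ := by ring
        rwa [← a4]
      have hOE : Cfsg.pPrimeCore 2 E = ⊥ := by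
        apply Subgroup.map_injective E.subtype_injective
        rw [pPrimeCore_subnormal 2 hEn.isSubnormal, hO, bot_inf_eq, Subgroup.map_bot]
      have hKE : K ≤ centralizer (E : Set G) :=
        ZStar.le_centralizer_of_perfect inf_le_right (hT.to_le inf_le_left) hSi hOE
          (PCompOf.perfect hK) (PCompOf.pGen_eq hK)
          (hKC.trans (Subgroup.centralizer_le inf_le_left))
      have hKR : K ≤ centralizer (Cfsg.pCore 2 G : Set G) := by
        refine perfect_le_of_coprime (p := 2) (PCompOf.perfect hK) fun x hx hcop => ?_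
        refine centralizes_pCore_of_local hT hcop (Subgroup.mem_centralizer_iff.mpr ?_)
        rintro _ ⟨v, hv, rfl⟩
        exact congrArg Subtype.val (mem_centralizer_iff.mp
          ((commutator_eq_bot_iff_le_centralizer.mp pLayer_commutes_pCore)
            (pComponent_le_pLayer hK.2 (show (⟨x, hK.1 hx⟩ : N) ∈ K.subgroupOf N from hx))) v hv)
      have hKF : K ≤ centralizer (Cfsg.generalizedFittingSubgroup G : Set G) := by
        rw [← Subgroup.commutator_eq_bot_iff_le_centralizer, Cfsg.generalizedFittingSubgroup,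
          commutator_sup_right_eq_bot, fitting_eq_pCore_of_core_bot hO,
          Subgroup.commutator_eq_bot_iff_le_centralizer, Subgroup.commutator_eq_bot_iff_le_centralizer]
        exact ⟨hKE, hKR⟩
      refine absurd ?_ (PCompOf.ne_bot hK)
      rw [← PCompOf.perfect hK, Subgroup.commutator_eq_bot_iff_le_centralizer]
      exact hKF.trans (Subgroup.centralizer_le (hKF.trans centralizer_gFitting_le))
    · -- move to a larger 2-subgroup
      have hlt : Nat.card T < Nat.card P :=
        Transfer.card_lt_of_lt (lt_of_le_not_ge hTP hPT)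
      have hPG : Nat.card P ≤ Nat.card G := Subgroup.card_le_card_group P
      have hPN : P ≤ N := hPM.trans hMN
      set C₁ := centralizer (P : Set G) with hC₁
      have hC₁N : C₁ ≤ N := (Subgroup.centralizer_le (show (T : Set G) ⊆ P from hTP)).trans
        (Subgroup.centralizer_le_normalizer _)
      have hMc : M ≤ ((centralizer (Kb : Set _)).comap π).map N.subtype := by
        refine sup_le ?_ ?_
        · intro e he
          refine ⟨⟨e, he.2⟩, Subgroup.mem_comap.mpr (Subgroup.mem_centralizer_iff.mpr fun y hy => ?_), rfl⟩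
          exact commutatorElement_eq_one_iff_mul_comm.mp (Subgroup.mem_bot.mp
            (h.le (Subgroup.commutator_mem_commutator hy ⟨⟨e, he.2⟩, he.1, rfl⟩)))
        · intro t ht
          refine ⟨⟨t, Subgroup.le_normalizer ht⟩,
            Subgroup.mem_comap.mpr (Subgroup.mem_centralizer_iff.mpr ?_), rfl⟩
          rintro _ ⟨k, hk, rfl⟩
          rw [← map_mul, ← map_mul]
          congr 1
          exact Subtype.ext (Subgroup.mem_centralizer_iff.mp (hKC hk) t ht).symm
      have hON : N ≤ normalizer (O : Set G) := fun g hg =>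
        Subgroup.le_normalizer_map N.subtype
          ⟨⟨g, hg⟩, (Subgroup.normalizer_eq_top _).ge (Subgroup.mem_top _), rfl⟩
      have hcover : ∀ k ∈ K, ∃ o ∈ O, k * o ∈ C₁ := by
        intro k hk
        obtain ⟨j, hj⟩ := hPp.exists_card_eq
        haveI := hPp.isNilpotent
        refine CfsgLib.Core.exists_centralizing_in_coset (A := P) (N := O) (k := k) (hPN.trans hON)
          (hj ▸ (hOcop.symm.pow_left j)) (Or.inl inferInstance) fun a ha => ?_
        obtain ⟨a', ha', rfl⟩ := hMc (hPM ha)
        refine ⟨(⟨k, hK.1 hk⟩ : N)⁻¹ * (a' * ⟨k, hK.1 hk⟩ * a'⁻¹), (QuotientGroup.eq_one_iff _).mp ?_, rfl⟩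
        have h1 : π ⟨k, hK.1 hk⟩ * π a' = π a' * π ⟨k, hK.1 hk⟩ :=
          Subgroup.mem_centralizer_iff.mp (Subgroup.mem_comap.mp ha') _ ⟨⟨k, hK.1 hk⟩, hk, rfl⟩
        show π ((⟨k, hK.1 hk⟩ : N)⁻¹ * (a' * ⟨k, hK.1 hk⟩ * a'⁻¹)) = 1
        rw [map_mul, map_inv, map_mul, map_mul, map_inv, ← h1]
        group
      set KO := K ⊔ O with hKO
      set U := KO ⊓ C₁ with hU
      set K' := pGen 2 U with hK'
      have hKON : KO ≤ N := sup_le hK.1 (Subgroup.map_subtype_le _)
      have hKOeq : KO.subgroupOf N = Kb.comap π := by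
        rw [hKb, Subgroup.comap_map_eq, QuotientGroup.ker_mk', hKO,
          Subgroup.subgroupOf_sup hK.1 (Subgroup.map_subtype_le _)]
        congr 1
        exact Subgroup.comap_map_eq_self_of_injective N.subtype_injective _
      have hUsn : (U.subgroupOf C₁).IsSubnormal := by
        rw [hU, Subgroup.inf_subgroupOf_right]
        exact subnormal_subgroupOf_mono hC₁N (hKOeq ▸ hKbc.1.comap π)
      have hK'U : K' ≤ U := pGen_le U
      have hK'sn : (K'.subgroupOf C₁).IsSubnormal :=
        subnormal_subgroupOf_trans hK'U inf_le_right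
          ((Subgroup.normal_subgroupOf_iff_le_normalizer hK'U).mpr
            (Subgroup.le_normalizer.trans (normalizer_le_normalizer_pGen U))).isSubnormal hUsn
      have hK'N : K' ≤ N := hK'U.trans (inf_le_right.trans hC₁N)
      have hUmap : (U.subgroupOf N).map π = Kb := by
        refine le_antisymm ?_ ?_
        · refine (Subgroup.map_mono (Subgroup.comap_mono inf_le_left)).trans ?_
          rw [← Subgroup.map_comap_eq_self_of_surjective modCore_surjective Kb]
          exact Subgroup.map_mono hKOeq.le
        · rintro _ ⟨k, hk, rfl⟩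
          obtain ⟨o, ⟨o', ho', rfl⟩, hko⟩ := hcover (k : G) hk
          refine ⟨k * o', ?_, ?_⟩
          · exact Subgroup.mem_inf.mpr ⟨mul_mem (Subgroup.mem_sup_left hk)
              (Subgroup.mem_sup_right ⟨o', ho', rfl⟩), hko⟩
          · rw [map_mul, show π o' = 1 from (QuotientGroup.eq_one_iff o').mpr ho', mul_one]
      have hK'map : (K'.subgroupOf N).map π = Kb := by
        have h1 : K'.subgroupOf N = pGen 2 (U.subgroupOf N) := by
          refine Subgroup.map_injective N.subtype_injective ?_
          rw [Subgroup.map_subgroupOf_eq_of_le hK'N,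
            pGen_subgroupOf ((inf_le_right : U ≤ C₁).trans hC₁N)]
        rw [h1, map_pGen, hUmap]
        exact pGen_component (Core.pPrimeCore_quotient_pPrimeCore 2 N) hKbc
      have hK'q : Cfsg.IsQuasisimple (↥K' ⧸ Cfsg.pPrimeCore 2 K') := by
        rw [← isQuasisimple_quotient_core_congr (Subgroup.subgroupOfEquivOfLe hK'N)]
        set f := π.subgroupMap (K'.subgroupOf N) with hf
        have hfs : Function.Surjective f := π.subgroupMap_surjective _
        have hker : f.ker = Cfsg.pPrimeCore 2 (K'.subgroupOf N) := by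
          refine le_antisymm ?_ ?_
          · rw [hf, Subgroup.ker_subgroupMap, QuotientGroup.ker_mk']
            exact Core.pPrimeCore_subgroupOf_le _
          · have h1 : Cfsg.pPrimeCore 2 ((K'.subgroupOf N).map π) = ⊥ := by
              apply Subgroup.map_injective (Subgroup.subtype_injective _)
              rw [pPrimeCore_subnormal 2 (hK'map ▸ hKbc.1), Core.pPrimeCore_quotient_pPrimeCore,
                bot_inf_eq, Subgroup.map_bot]
            rw [← Subgroup.map_eq_bot_iff, ← le_bot_iff, ← h1]
            exact Core.map_pPrimeCore_le f hfs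
        exact IsQuasisimple.congr ((QuotientGroup.quotientKerEquivOfSurjective f hfs).symm.trans
          (QuotientGroup.quotientMulEquivOfEq hker)) (hK'map ▸ hKbc.2)
      have hK'gen : pGen 2 K' = K' := le_antisymm (pGen_le K')
        (pGen_le_iff.mpr fun x hx k hk => mem_pGen (mem_pGen hx hk) hk)
      have hK'C : Cfsg.IsPComponentOf 2 K' C₁ :=
        isPComponentOf_iff.mpr ⟨hK'U.trans inf_le_right, hK'sn, hK'gen, hK'q⟩
      have hC₁n : (C₁.subgroupOf (normalizer (P : Set G))).Normal :=
        (Subgroup.normal_subgroupOf_iff_le_normalizer (Subgroup.centralizer_le_normalizer _)).mpr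
          (normalizer_le_normalizer_centralizer' P)
      have hK'E : K' ≤ E := ih _ (by omega) hPp
        (PCompOf.trans_subnormal hK'C (Subgroup.centralizer_le_normalizer _) hC₁n.isSubnormal) rfl
      refine finish fun k hk => ?_
      obtain ⟨u, hu, huk⟩ := hK'map.ge ⟨⟨k, hK.1 hk⟩, hk, rfl⟩
      have h1 : u⁻¹ * (⟨k, hK.1 hk⟩ : N) ∈ Cfsg.pPrimeCore 2 N := QuotientGroup.eq.mp huk
      rw [show k = (u : G) * ((u⁻¹ * (⟨k, hK.1 hk⟩ : N) : N) : G) by simp]
      exact mul_mem (Subgroup.mem_sup_left (hK'E hu)) (Subgroup.mem_sup_right ⟨_, h1, rfl⟩)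

/-- `L`-balance for `p = 2`. -/
theorem pLayer_two_local_le {T : Subgroup G} (hT : IsPGroup 2 T) :
    (Cfsg.pLayer 2 (normalizer (T : Set G))).map (normalizer (T : Set G)).subtype ≤
      Cfsg.pLayer 2 G := by
  haveI : Fact (Nat.Prime 2) := ⟨Nat.prime_two⟩
  refine pLayer_local_le_of (fun R' hR' => ?_) hT
  rw [Subgroup.map_le_iff_le_comap]
  refine sSup_le fun K hK => ?_
  rw [← Subgroup.map_le_iff_le_comap]
  exact pComponent_two_local_le_layer (Core.pPrimeCore_quotient_pPrimeCore 2 G) hR'
    (isPComponentOf_map_subtype.mpr hK)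

/-- `L`-balance for centralizers of 2-subgroups. -/
theorem pLayer_two_centralizer_le {T : Subgroup G} (hT : IsPGroup 2 T) :
    (Cfsg.pLayer 2 (centralizer (T : Set G))).map (centralizer (T : Set G)).subtype ≤
      Cfsg.pLayer 2 G :=
  ((map_pLayer_of_subnormal_le (Subgroup.centralizer_le_normalizer _)
    ((Subgroup.normal_subgroupOf_iff_le_normalizer (Subgroup.centralizer_le_normalizer _)).mpr
      (normalizer_le_normalizer_centralizer' T)).isSubnormal).1).trans (pLayer_two_local_le hT)

end CfsgLib.Components
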