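import Cfsg.Agent.Lib.Components.FourGroupFixed
import Cfsg.Agent.Lib.Components.Diagonal
import Cfsg.Agent.Lib.Components.LBalanceTwo
import Cfsg.Agent.Lib.Techniques.PTerminal
import Cfsg.Agent.Lib.Signalizer.OrderFormula

/-!
# The normal closure of a standard subgroup with a commutator in it (S3164)

* `centralizes_centralizer_inf`: `C_W(t) ≤ C(A)` for `W = O(G)`;
* `standard_normalClosure_semisimple`.
-/

set_option autoImplicit false
set_option linter.style.haveILetI false

namespace CfsgLib.Components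

open Subgroup
open CfsgLib.Signalizer
open scoped commutatorElement Pointwise

variable {G : Type*} [Group G] [Finite G]

theorem eq_of_cyclic_sylow {C : Subgroup G} (hcyc : ∀ R : Sylow 2 C, IsCyclic (R : Subgroup C))
    {u v : G} (hu : u ∈ C) (hv : v ∈ C) (hu2 : orderOf u = 2) (hv2 : orderOf v = 2)
    (huv : u * v = v * u) : u = v := by
  haveI : Fact (Nat.Prime 2) := ⟨Nat.prime_two⟩
  set u' : C := ⟨u, hu⟩ with hu'
  set v' : C := ⟨v, hv⟩ with hv'
  have hu2' : orderOf u' = 2 := by rw [hu', Subgroup.orderOf_mk, hu2]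
  have hv2' : orderOf v' = 2 := by rw [hv', Subgroup.orderOf_mk, hv2]
  have hp : ∀ z : C, orderOf z = 2 → IsPGroup 2 (zpowers z) := fun z hz =>
    IsPGroup.of_card (n := 1) (by rw [Nat.card_zpowers, hz, pow_one])
  have hsup : IsPGroup 2 ↥(zpowers u' ⊔ zpowers v') := IsPGroup.to_sup_of_normal_right' (hp u' hu2')
    (hp v' hv2') (by
      rw [Subgroup.zpowers_le]
      refine Subgroup.centralizer_le_normalizer _ ?_
      rw [zpowers_eq_closure, centralizer_closure, Subgroup.mem_centralizer_singleton_iff]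
      exact Subtype.ext huv)
  obtain ⟨S, hS⟩ := hsup.exists_le_sylow
  haveI := hcyc S
  obtain ⟨g, hg⟩ := IsCyclic.exists_generator (α := (S : Subgroup C))
  set a : (S : Subgroup C) := ⟨u', hS (Subgroup.mem_sup_left (Subgroup.mem_zpowers u'))⟩
  set b : (S : Subgroup C) := ⟨v', hS (Subgroup.mem_sup_right (Subgroup.mem_zpowers v'))⟩
  have ha : orderOf a = 2 := by rw [← Subgroup.orderOf_coe]; exact hu2'
  have hb : orderOf b = 2 := by rw [← Subgroup.orderOf_coe]; exact hv2'
  exact congrArg (fun z : (S : Subgroup C) => ((z : C) : G))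
    (unique_involution_in_zpowers (hg a) (hg b) ha hb)

/-- `C(t) ≤ N(A)` for an involution `t` of the centralizer of a standard subgroup `A`. -/
theorem centralizer_le_normalizer_standard {A : Subgroup G} (hA : Cfsg.IsStandardSubgroup A) {t : G}
    (ht : orderOf t = 2) (htA : t ∈ centralizer (A : Set G)) :
    centralizer ({t} : Set G) ≤ normalizer (A : Set G) := by
  intro g hg
  rw [hA.2.2.2]
  by_contra hgN
  refine Nat.not_even_iff_odd.mpr (hA.2.1.2 g hgN) (even_iff_two_dvd.mpr (ht ▸ ?_))
  refine Subgroup.orderOf_dvd_natCard _ (Subgroup.mem_inf.mpr ⟨htA, t, htA, ?_⟩)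
  show g * t * g⁻¹ = t
  rw [Subgroup.mem_centralizer_singleton_iff.mp hg, mul_inv_cancel_right]

/-- `A` centralizes `C_W(t)` for a normal subgroup `W` of odd order. -/
theorem centralizes_centralizer_inf {A W : Subgroup G} [W.Normal] (hW : (Nat.card W).Coprime 2)
    (hA : Cfsg.IsStandardSubgroup A) (hA2 : 2 ∣ Nat.card A) {t : G} (ht : orderOf t = 2)
    (htA : t ∈ centralizer (A : Set G)) {w : G} (hw : w ∈ W) (hwt : w * t = t * w) :
    w ∈ centralizer (A : Set G) := by
  have hwN : w ∈ normalizer (A : Set G) := centralizer_le_normalizer_standard hA ht htA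
    (Subgroup.mem_centralizer_singleton_iff.mpr hwt)
  set M := W.subgroupOf A
  have hMc : M ≤ Subgroup.center A := by
    refine IsQuasisimple.le_center_of_ne_top hA.1 (Subgroup.Normal.subgroupOf inferInstance A) fun he => ?_
    have h1 : Nat.card A ∣ Nat.card W := Subgroup.card_dvd_of_le (Subgroup.subgroupOf_eq_top.mp he)
    exact Nat.prime_two.coprime_iff_not_dvd.mp hW.symm (hA2.trans h1)
  have hz : ∀ k ∈ A, ∃ z : A, z ∈ Subgroup.center A ∧ w * k * w⁻¹ = (z : G) * k := by
    intro k hk
    have hkA : w * k * w⁻¹ * k⁻¹ ∈ A := mul_mem ((Subgroup.mem_normalizer_iff.mp hwN k).mp hk) (inv_mem hk)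
    have hkW : w * k * w⁻¹ * k⁻¹ ∈ W := by
      rw [show w * k * w⁻¹ * k⁻¹ = w * (k * w⁻¹ * k⁻¹) by group]
      exact mul_mem hw (Subgroup.Normal.conj_mem inferInstance _ (inv_mem hw) k)
    exact ⟨⟨_, hkA⟩, hMc (show (⟨_, hkA⟩ : A) ∈ M from hkW), by
      show w * k * w⁻¹ = w * k * w⁻¹ * k⁻¹ * k
      rw [inv_mul_cancel_right]⟩
  have h1 : ⁅A, A⁆ ≤ centralizer ({w} : Set G) := by
    rw [Subgroup.commutator_le]
    intro k hk k' hk'
    obtain ⟨z, hzc, hzk⟩ := hz k hk
    obtain ⟨z', hzc', hzk'⟩ := hz k' hk'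
    refine Subgroup.mem_centralizer_singleton_iff.mpr ?_
    have e : w * ⁅k, k'⁆ * w⁻¹ = ⁅k, k'⁆ := by
      rw [show w * ⁅k, k'⁆ * w⁻¹ = ⁅w * k * w⁻¹, w * k' * w⁻¹⁆ by
        simp only [commutatorElement_def]; group, hzk, hzk']
      have hcz : ∀ y ∈ A, (z : G) * y = y * z := fun y hy =>
        (congrArg Subtype.val (Subgroup.mem_center_iff.mp hzc ⟨y, hy⟩)).symm
      have hcz' : ∀ y ∈ A, (z' : G) * y = y * z' := fun y hy =>
        (congrArg Subtype.val (Subgroup.mem_center_iff.mp hzc' ⟨y, hy⟩)).symm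
      rw [commutatorElement_mul_left_eq_conj_mul, commutatorElement_mul_right_eq_mul_conj k z' k',
        show ⁅k, (z' : G)⁆ = 1 from commutatorElement_eq_one_iff_mul_comm.mpr (hcz' k hk).symm, one_mul,
        show ⁅(z : G), (z' : G) * k'⁆ = 1 from commutatorElement_eq_one_iff_mul_comm.mpr
          (hcz _ (mul_mem z'.2 hk')), mul_one]
      have hkk : ⁅k, k'⁆ ∈ A := Subgroup.commutator_le_self A (Subgroup.commutator_mem_commutator hk hk')
      rw [hcz' _ hkk, mul_inv_cancel_right, hcz _ hkk, mul_inv_cancel_right]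
    exact (mul_inv_eq_iff_eq_mul.mp e).symm
  refine Subgroup.mem_centralizer_iff.mpr fun k hk => ?_
  exact Subgroup.mem_centralizer_singleton_iff.mp
    (h1 ((IsQuasisimple.commutator_eq_self hA.1).ge hk))

theorem standard_normalClosure_semisimple {A : Subgroup G} (hA : Cfsg.IsStandardSubgroup A)
    (hcyc : ∀ R : Sylow 2 ↥(centralizer (A : Set G)), IsCyclic (R : Subgroup ↥(centralizer (A : Set G))))
    {t : G} (ht : orderOf t = 2) (htA : t ∈ centralizer (A : Set G)) {R : Subgroup G}
    (hRX : R ≤ Subgroup.normalClosure (A : Set G)) (hc1 : ⁅R, Subgroup.zpowers t⁆ ≠ ⊥)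
    (hc2 : ⁅R, Subgroup.zpowers t⁆ ≤ A) :
    Cfsg.layer ↥(Subgroup.normalClosure (A : Set G)) = ⊤ ∧
      Odd (Nat.card ↥(Subgroup.center ↥(Subgroup.normalClosure (A : Set G)))) := by
  haveI : Fact (Nat.Prime 2) := ⟨Nat.prime_two⟩
  have ht2 : t * t = 1 := by rw [← pow_two, ← ht, pow_orderOf_eq_one]
  have hti : t⁻¹ = t := inv_eq_of_mul_eq_one_left ht2
  -- an element of `R` moving `t`
  obtain ⟨r, hr, hne⟩ : ∃ r ∈ R, r * t ≠ t * r := by
    by_contra hno
    push Not at hno
    refine hc1 ?_
    rw [Subgroup.commutator_eq_bot_iff_le_centralizer]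
    intro r hr
    rw [zpowers_eq_closure, centralizer_closure, Subgroup.mem_centralizer_singleton_iff]
    exact hno r hr
  set c := r * t * r⁻¹ * t⁻¹ with hc
  have hcA : c ∈ A := hc2 (Subgroup.commutator_mem_commutator hr (Subgroup.mem_zpowers t))
  have hrcA : r⁻¹ * c * r ∈ A := by
    have h1 := A.inv_mem (hc2 (Subgroup.commutator_mem_commutator (R.inv_mem hr) (Subgroup.mem_zpowers t)))
    rw [commutatorElement_def] at h1
    rw [show r⁻¹ * c * r = (r⁻¹ * t * r⁻¹⁻¹ * t⁻¹)⁻¹ by rw [hc]; group]
    exact h1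
  have hct : Commute c t := Subgroup.mem_centralizer_iff.mp htA c hcA
  have hrt : r * t * r⁻¹ = c * t := by rw [hc]; group
  have hcc : c * c = 1 := by
    have h1 : c * t * (c * t) = 1 := by
      rw [← hrt, show r * t * r⁻¹ * (r * t * r⁻¹) = r * (t * t) * r⁻¹ by group, ht2, mul_one,
        mul_inv_cancel]
    rwa [mul_assoc c t, ← mul_assoc t c, ← hct.eq, mul_assoc c t t, ht2, mul_one] at h1
  have hc1' : c ≠ 1 := fun h => hne (by
    rw [hc, mul_inv_eq_one, mul_inv_eq_iff_eq_mul] at h; exact h)
  have hc2' : orderOf c = 2 := orderOf_eq_prime (by rw [pow_two, hcc]) hc1'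
  have hA2 : 2 ∣ Nat.card A := hc2' ▸ A.orderOf_dvd_natCard hcA
  -- `c` is not central in `A`
  have hcZ : c ∉ centralizer (A : Set G) := fun hcC => by
    have := eq_of_cyclic_sylow hcyc hcC htA hc2' ht hct.eq
    rw [this] at hrt
    rw [ht2, mul_inv_eq_one] at hrt
    have ht1 : t = 1 := mul_left_cancel (a := r) (by rw [hrt, mul_one])
    rw [ht1, orderOf_one] at ht
    exact absurd ht (by norm_num)
  -- `A` centralizes `O(G)`
  set W := Cfsg.pPrimeCore 2 G with hW
  haveI hWn : W.Normal := pPrimeCore_normal 2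
  have hWcop : (Nat.card W).Coprime 2 := pPrimeCore_coprime 2
  have hcW : W ≤ centralizer ({c} : Set G) := by
    refine le_centralizer_of_four hWcop ht2 hcc hct.symm.eq
      (Subgroup.le_normalizer_of_normal (Subgroup.mem_top t)) (Subgroup.le_normalizer_of_normal (Subgroup.mem_top c))
      (fun w hw hwt => (Subgroup.mem_centralizer_iff.mp
        (centralizes_centralizer_inf hWcop hA hA2 ht htA hw hwt) c hcA).symm) ?_
    intro w hw hwtc
    have hw' : r⁻¹ * w * r ∈ W := by
      simpa using hWn.conj_mem w hw r⁻¹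
    have hwt' : r⁻¹ * w * r * t = t * (r⁻¹ * w * r) := by
      have h1 : w * (r * t * r⁻¹) = r * t * r⁻¹ * w := by rw [hrt, hct.eq]; exact hwtc
      calc r⁻¹ * w * r * t = r⁻¹ * (w * (r * t * r⁻¹)) * r := by group
        _ = r⁻¹ * (r * t * r⁻¹ * w) * r := by rw [h1]
        _ = t * (r⁻¹ * w * r) := by group
    have h2 := Subgroup.mem_centralizer_iff.mp
      (centralizes_centralizer_inf hWcop hA hA2 ht htA hw' hwt') _ hrcA
    calc w * c = r * (r⁻¹ * w * r * (r⁻¹ * c * r)) * r⁻¹ := by group
      _ = r * (r⁻¹ * c * r * (r⁻¹ * w * r)) * r⁻¹ := by rw [h2]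
      _ = c * w := by group
  set Y := centralizer (W : Set G) with hY
  haveI hYn : Y.Normal := Subgroup.normal_centralizer
  have hAY : A ≤ Y := by
    rcases IsQuasisimple.normal_le_center_or_eq_top hA.1
      (Subgroup.Normal.subgroupOf hYn A) with h | h
    · exfalso
      refine hcZ (Subgroup.mem_centralizer_iff.mpr fun k hk => ?_)
      exact congrArg Subtype.val (Subgroup.mem_center_iff.mp
        (h (show (⟨c, hcA⟩ : A) ∈ Y.subgroupOf A from Subgroup.mem_centralizer_iff.mpr fun w hw =>
          Subgroup.mem_centralizer_singleton_iff.mp (hcW hw))) ⟨k, hk⟩)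
    · exact Subgroup.subgroupOf_eq_top.mp h
  -- `A ≤ L(G)`
  have hAt : A ≤ centralizer ({t} : Set G) := fun k hk =>
    Subgroup.mem_centralizer_singleton_iff.mpr (Subgroup.mem_centralizer_iff.mp htA k hk)
  have hgen : pGen 2 A = A := le_antisymm (pGen_le A) (Subgroup.subgroupOf_eq_top.mp
    (quasisimple_normal_eq_top_of_pElements hA.1 hA2
      ((Subgroup.normal_subgroupOf_iff_le_normalizer (pGen_le A)).mpr
        (Subgroup.le_normalizer.trans (normalizer_le_normalizer_pGen A)))
      fun z k hk => mem_pGen z.2 (k := k) (by simpa using congrArg Subtype.val hk)))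
  have hAL : A ≤ Cfsg.pLayer 2 G := by
    have hAp : Cfsg.IsPComponentOf 2 A (centralizer ({t} : Set G)) := by
      refine isPComponentOf_iff.mpr ⟨hAt, ((Subgroup.normal_subgroupOf_iff_le_normalizer hAt).mpr
        (centralizer_le_normalizer_standard hA ht htA)).isSubnormal, hgen, ?_⟩
      haveI := pPrimeCore_normal (G := A) 2
      refine IsQuasisimple.quotient hA.1 fun h => ?_
      have h1 := pPrimeCore_coprime (G := A) 2
      rw [h, Subgroup.card_top] at h1
      exact Nat.prime_two.coprime_iff_not_dvd.mp h1.symm hA2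
    have hT : IsPGroup 2 (zpowers t) := IsPGroup.of_card (n := 1) (by rw [Nat.card_zpowers, ht, pow_one])
    have h1 := pLayer_two_centralizer_le hT
    rw [zpowers_eq_closure, centralizer_closure] at h1
    refine le_trans ?_ h1
    rw [← Subgroup.map_subgroupOf_eq_of_le hAt]
    exact Subgroup.map_mono (pComponent_le_pLayer hAp.2)
  -- `A ≤ E(G)`
  set π := modCore 2 G with hπ
  set E := Cfsg.layer G with hE
  haveI hEn : E.Normal := layer_normal
  have hAE : A ≤ E := by
    set Eb := E.map π
    haveI hEbn : Eb.Normal := hEn.map π modCore_surjective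
    have hsplit : Cfsg.layer (G ⧸ W) ≤ Eb ⊔ centralizer ((Y.map π : Subgroup (G ⧸ W)) : Set (G ⧸ W)) := by
      refine layer_le_iff.mpr fun Kb hKb => ?_
      rcases component_le_or_commutes hKb (hYn.map π modCore_surjective).isSubnormal with h | h
      · refine le_trans ?_ le_sup_left
        obtain ⟨hK, hKm⟩ := isPComponent_pGen (p := 2) hKb
        rw [← hKm]
        refine Subgroup.map_mono (le_layer ((Techniques.isComponent_iff_commutes hK).mpr ?_))
        rw [Subgroup.commutator_eq_bot_iff_le_centralizer]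
        refine le_trans (pGen_mono ?_) ((pGen_sup_le hWcop).trans (le_refl Y))
        calc Kb.comap π ≤ (Y.map π).comap π := Subgroup.comap_mono h
          _ = Y ⊔ W := by rw [Subgroup.comap_map_eq, QuotientGroup.ker_mk']
      · exact le_trans (Subgroup.commutator_eq_bot_iff_le_centralizer.mp h) le_sup_right
    have hAb : A.map π ≤ Eb := by
      conv_lhs => rw [← IsQuasisimple.commutator_eq_self hA.1]
      rw [Subgroup.map_commutator, Subgroup.commutator_le]
      intro a ha b hb
      have hb' : b ∈ Eb ⊔ centralizer ((Y.map π : Subgroup (G ⧸ W)) : Set (G ⧸ W)) :=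
        hsplit (pLayer_map.le (Subgroup.map_mono hAL hb))
      obtain ⟨e, he, m, hm, rfl⟩ := Subgroup.mem_sup_of_normal_left.mp hb'
      rw [commutatorElement_mul_right_eq_mul_conj]
      rw [show ⁅a, m⁆ = 1 from commutatorElement_eq_one_iff_mul_comm.mpr
        (Subgroup.mem_centralizer_iff.mp hm a (Subgroup.map_mono hAY ha)), mul_one, mul_inv_cancel_right]
      rw [commutatorElement_def]
      exact mul_mem (hEbn.conj_mem e he a) (inv_mem he)
    have hAEW : A ≤ E ⊔ W := by
      refine (Subgroup.map_le_iff_le_comap.mp hAb).trans (le_of_eq ?_)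
      rw [Subgroup.comap_map_eq, QuotientGroup.ker_mk']
    exact hgen.ge.trans ((pGen_mono hAEW).trans (pGen_sup_le hWcop))
  set X := Subgroup.normalClosure (A : Set G) with hX
  have hAX : A ≤ X := Subgroup.subset_normalClosure
  have hXE : X ≤ E := Subgroup.normalClosure_le_normal hAE
  have hXperf : ⁅X, X⁆ = X := by
    refine le_antisymm (Subgroup.commutator_le_self X) (Subgroup.normalClosure_le_normal ?_)
    intro k hk
    exact Subgroup.commutator_mono hAX hAX ((IsQuasisimple.commutator_eq_self hA.1).ge hk)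
  refine ⟨?_, ?_⟩
  · -- semisimple
    set EX := (Cfsg.layer X).map X.subtype with hEX
    haveI hEXn : EX.Normal := by
      haveI : (Cfsg.layer X).Characteristic := layer_characteristic
      exact ConjAct.normal_of_characteristic_of_normal
    have hsplit : E ≤ EX ⊔ centralizer (X : Set G) := layer_le_iff.mpr fun K hK => by
      rcases component_le_or_commutes hK (Subgroup.normalClosure_normal (s := (A : Set G))).isSubnormal
        with h | h
      · refine le_trans ?_ le_sup_left
        rw [hEX, ← Subgroup.map_subgroupOf_eq_of_le h]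
        exact Subgroup.map_mono (le_layer (isComponent_subgroupOf hK h))
      · exact le_trans (Subgroup.commutator_eq_bot_iff_le_centralizer.mp h) le_sup_right
    have h1 : X ≤ EX := by
      conv_lhs => rw [← hXperf]
      rw [Subgroup.commutator_le]
      intro a ha b hb
      obtain ⟨e, he, m, hm, rfl⟩ := Subgroup.mem_sup_of_normal_left.mp (hsplit (hXE hb))
      rw [commutatorElement_mul_right_eq_mul_conj,
        show ⁅a, m⁆ = 1 from commutatorElement_eq_one_iff_mul_comm.mpr
          (Subgroup.mem_centralizer_iff.mp hm a ha), mul_one, mul_inv_cancel_right, commutatorElement_def]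
      exact mul_mem (hEXn.conj_mem e he a) (inv_mem he)
    refine eq_top_iff.mpr fun z _ => ?_
    obtain ⟨z', hz', hzz⟩ := h1 z.2
    rwa [← X.subtype_injective hzz]
  · -- odd centre
    refine Nat.not_even_iff_odd.mp fun hev => ?_
    obtain ⟨z, hz⟩ := exists_prime_orderOf_dvd_card' 2 (even_iff_two_dvd.mp hev)
    have hzG : orderOf ((z : X) : G) = 2 := by rw [Subgroup.orderOf_coe, Subgroup.orderOf_coe, hz]
    have hzX : ∀ k ∈ X, k * ((z : X) : G) = ((z : X) : G) * k := fun k hk =>
      congrArg Subtype.val (Subgroup.mem_center_iff.mp z.2 ⟨k, hk⟩)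
    have hzA : ((z : X) : G) ∈ centralizer (A : Set G) :=
      Subgroup.mem_centralizer_iff.mpr fun k hk => hzX k (hAX hk)
    have htN : ((z : X) : G) * t = t * ((z : X) : G) := by
      -- `z` and `t z t` are commuting involutions of `C(A)`
      have hzX' : t * ((z : X) : G) * t⁻¹ ∈ X :=
        Subgroup.normalClosure_normal.conj_mem _ (z : X).2 t
      have hzt : t * ((z : X) : G) * t⁻¹ ∈ centralizer (A : Set G) :=
        mul_mem (mul_mem htA hzA) (inv_mem htA)
      have := eq_of_cyclic_sylow hcyc hzA hzt hzG (by rw [orderOf_conj, hzG]) (hzX _ hzX').symm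
      exact (eq_mul_inv_iff_mul_eq.mp this)
    have hzt := eq_of_cyclic_sylow hcyc hzA htA hzG ht htN
    exact hne (by rw [← hzt]; exact hzX r (hRX hr))

end CfsgLib.Components
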