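import Cfsg.Agent.Lib.Sporadic.ConwayZero.Classes
import Cfsg.Agent.Lib.Sporadic.CoOneOut
import Cfsg.Agent.Lib.Components.StandardClosure
import Cfsg.Agent.Lib.ZStar.Main

/-!
# A standard subgroup isomorphic to Co0 with cyclic Sylow centralizer is normal

The central involution is isolated: a commuting conjugate lies in the standard subgroup, by a commutator
invariant, and the trace of degree 24 rules out each possible set of classes it could lie in.
-/

set_option autoImplicit false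
set_option linter.style.haveILetI false

namespace CfsgLib.Components.ConwayZeroStandard

open Cfsg CfsgLib.ThreeTrans.Leech CfsgLib.Sporadic CfsgLib.Sporadic.Lattice
open CfsgLib.Sporadic.Conway hiding fl fl_zero
open CfsgLib.Sporadic.Conway.TwoInv CfsgLib.Sporadic.ConwayZero
open CfsgLib.Sporadic.Conway.OneInv (allMask allMask_code center_cases neg_mem_center fl_inj neg_eq_fl)
open scoped commutatorElement

variable {G : Type*} [Group G]

/-- The commutators of a group with cyclic Sylow 2-subgroups have odd order. -/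
theorem odd_commutator {H : Type*} [Group H] [Finite H]
    (hcyc : ∀ R : Sylow 2 H, IsCyclic ↥(R : Subgroup H)) (x y : H) : Odd (orderOf ⁅x, y⁆) := by
  haveI : Fact (Nat.Prime 2) := ⟨Nat.prime_two⟩
  by_cases he : 2 ∣ Nat.card H
  · obtain ⟨R⟩ : Nonempty (Sylow 2 H) := inferInstance
    have hmin : (Nat.card H).minFac = 2 := (Nat.minFac_eq_two_iff _).2 he
    haveI := hcyc R
    have hle := IsCyclic.normalizer_le_centralizer hmin (hcyc R)
    have hk : ⁅x, y⁆ ∈ (MonoidHom.transferSylow R hle).ker := by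
      obtain ⟨g, hg⟩ := IsCyclic.exists_generator (α := ↥(R : Subgroup H))
      have hcom : ∀ u v : ↥(R : Subgroup H), u * v = v * u := fun u v => by
        obtain ⟨i, rfl⟩ := Subgroup.mem_zpowers_iff.1 (hg u)
        obtain ⟨j, rfl⟩ := Subgroup.mem_zpowers_iff.1 (hg v)
        rw [← zpow_add, ← zpow_add, add_comm]
      rw [MonoidHom.mem_ker, map_commutatorElement, commutatorElement_eq_one_iff_mul_comm]
      exact hcom _ _
    exact Nat.not_even_iff_odd.1 fun h => MonoidHom.not_dvd_card_ker_transferSylow R hle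
      ((even_iff_two_dvd.1 h).trans (Subgroup.orderOf_dvd_natCard _ hk))
  · exact (Nat.odd_iff.2 (by omega)).of_dvd_nat (orderOf_dvd_natCard ⁅x, y⁆)

/-- Every automorphism of Co0 is inner. -/
theorem aut_co0 (hperf : commutator ↥Co0 = ⊤) (e : MulAut ↥Co0) :
    ∃ a : ↥Co0, ∀ x, e x = a * x * a⁻¹ := by
  have hc : ∀ d ∈ Subgroup.center ↥Co0, e d ∈ Subgroup.center ↥Co0 := fun d hd => by
    refine Subgroup.mem_center_iff.2 fun g => ?_
    obtain ⟨g, rfl⟩ := e.surjective g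
    rw [← map_mul, ← map_mul, Subgroup.mem_center_iff.1 hd g]
  have hmap : (Subgroup.center ↥Co0).map (e : ↥Co0 →* ↥Co0) = Subgroup.center ↥Co0 := by
    refine le_antisymm (by rintro _ ⟨d, hd, rfl⟩; exact hc d hd) fun d hd => ?_
    refine ⟨e.symm d, Subgroup.mem_center_iff.2 fun g => e.injective ?_, e.apply_symm_apply d⟩
    simp only [map_mul, MulEquiv.apply_symm_apply]
    exact Subgroup.mem_center_iff.1 hd _
  obtain ⟨q, hq⟩ := CoOneOut.aut_inner (QuotientGroup.congr _ _ e hmap)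
  obtain ⟨a, rfl⟩ := QuotientGroup.mk_surjective q
  refine ⟨a, ?_⟩
  let f : ↥Co0 →* ↥Co0 := (MulAut.conj a⁻¹).toMonoidHom.comp (e : ↥Co0 →* ↥Co0)
  have hf : ∀ x, x⁻¹ * f x ∈ Subgroup.center ↥Co0 := fun x => by
    rw [← QuotientGroup.eq_one_iff]
    have h := congrArg (fun ψ : MulAut Spor.Co1 => ψ (QuotientGroup.mk x)) hq
    have h' : (QuotientGroup.mk a : Spor.Co1) * QuotientGroup.mk x * (QuotientGroup.mk a)⁻¹ =
        QuotientGroup.mk (e x) := h
    show (QuotientGroup.mk (x⁻¹ * (a⁻¹ * e x * a⁻¹⁻¹)) : Spor.Co1) = 1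
    simp only [QuotientGroup.mk_mul, QuotientGroup.mk_inv, ← h']
    group
  have hle : commutator ↥Co0 ≤ f.eqLocus (MonoidHom.id _) := by
    rw [commutator_def, Subgroup.commutator_le]
    intro x _ y _
    show f ⁅x, y⁆ = ⁅x, y⁆
    rw [map_commutatorElement]
    have hx : ∀ w : ↥Co0, w * (x⁻¹ * f x) = x⁻¹ * f x * w := Subgroup.mem_center_iff.1 (hf x)
    have hy : ∀ w : ↥Co0, w * (y⁻¹ * f y) = y⁻¹ * f y * w := Subgroup.mem_center_iff.1 (hf y)
    obtain ⟨c, hcx, hxc⟩ : ∃ c, (∀ w : ↥Co0, w * c = c * w) ∧ f x = x * c :=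
      ⟨_, hx, (mul_inv_cancel_left x (f x)).symm⟩
    obtain ⟨d, hdy, hyd⟩ : ∃ d, (∀ w : ↥Co0, w * d = d * w) ∧ f y = y * d :=
      ⟨_, hy, (mul_inv_cancel_left y (f y)).symm⟩
    rw [hxc, hyd]
    simp only [commutatorElement_def, mul_inv_rev]
    calc x * c * (y * d) * (c⁻¹ * x⁻¹) * (d⁻¹ * y⁻¹) = x * (c * (y * d)) * c⁻¹ * x⁻¹ * d⁻¹ * y⁻¹ := by group
      _ = x * y * (d * x⁻¹) * d⁻¹ * y⁻¹ := by rw [← hcx (y * d)]; group
      _ = x * y * x⁻¹ * y⁻¹ := by rw [← hdy x⁻¹]; group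
  intro x
  have h : a⁻¹ * e x * a⁻¹⁻¹ = x := hle (hperf ▸ Subgroup.mem_top x)
  calc e x = a * (a⁻¹ * e x * a⁻¹⁻¹) * a⁻¹ := by group
    _ = a * x * a⁻¹ := by rw [h]

/-- An involution outside the centre. -/
def NInv (a : ↥Co0) : Prop := a * a = 1 ∧ a ≠ 1 ∧ a ≠ negElt

theorem NInv.neg_mul {a : ↥Co0} (h : NInv a) : NInv (negElt * a) := by
  refine ⟨?_, fun e => h.2.2 ?_, fun e => h.2.1 ?_⟩
  · rw [show negElt * a * (negElt * a) = negElt * (a * negElt) * a by group, neg_comm, ← mul_assoc, ConwayZero.neg_sq,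
      one_mul, h.1]
  · rw [← inv_eq_of_mul_eq_one_right e, neg_inv]
  · exact mul_eq_left.1 e

theorem ninv_fl {c : ℕ} (hc : inCode c = true) (h0 : c ≠ 0) (h1 : c ≠ allMask) : NInv (fl c) :=
  ⟨fl_sq hc, not_central_fl hc h0 h1⟩

variable [Finite G] {A : Subgroup G}

set_option linter.unusedSectionVars false

/-- The embedding. -/
noncomputable def emb (φ : ↥A ≃* ↥Co0) : ↥Co0 →* G := A.subtype.comp φ.symm.toMonoidHom

theorem emb_inj (φ : ↥A ≃* ↥Co0) : Function.Injective (emb φ) :=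
  A.subtype_injective.comp φ.symm.injective

theorem emb_mem (φ : ↥A ≃* ↥Co0) (a : ↥Co0) : emb φ a ∈ A := (φ.symm a).2

theorem exists_emb (φ : ↥A ≃* ↥Co0) {x : G} (hx : x ∈ A) : ∃ a, emb φ a = x :=
  ⟨φ ⟨x, hx⟩, by show ((φ.symm (φ ⟨x, hx⟩) : ↥A) : G) = x; rw [MulEquiv.symm_apply_apply]⟩

section
variable (hA : Cfsg.IsStandardSubgroup A) (φ : ↥A ≃* ↥Co0)
  (hR : ∀ R : Sylow 2 ↥(Subgroup.centralizer (A : Set G)), IsCyclic ↥(R : Subgroup ↥(Subgroup.centralizer (A : Set G))))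

local notation "C" => Subgroup.centralizer (A : Set G)

theorem cent_comm {c : G} (hc : c ∈ C) (a : ↥Co0) : Commute (emb φ a) c :=
  Subgroup.mem_centralizer_iff.1 hc _ (emb_mem φ a)

theorem z_mem : emb φ negElt ∈ C := Subgroup.mem_centralizer_iff.2 fun x hx => by
  obtain ⟨a, rfl⟩ := exists_emb φ hx
  rw [← map_mul, ← map_mul, neg_comm]

theorem z_order : orderOf (emb φ negElt) = 2 :=
  orderOf_eq_prime (by rw [pow_two, ← map_mul, ConwayZero.neg_sq, map_one])
    fun e => negElt_ne_one (emb_inj φ (e.trans (map_one _).symm))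

include hR in
theorem unique_invol {c : G} (hc : c ∈ C) (h2 : c * c = 1) : c = 1 ∨ c = emb φ negElt := by
  by_cases h1 : c = 1
  · exact Or.inl h1
  · exact Or.inr (eq_of_cyclic_sylow hR hc (z_mem φ) (orderOf_eq_prime (by rw [pow_two, h2]) h1) (z_order φ)
      (cent_comm φ hc negElt).eq.symm)

include hA φ in
theorem perfect : commutator ↥Co0 = ⊤ := by
  haveI := hA.1.1
  rw [← Subgroup.map_top_of_surjective φ.toMonoidHom φ.surjective, ← Group.IsPerfect.commutator_eq_top (G := ↥A)]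
  simp only [commutator_def]
  rw [Subgroup.map_commutator, Subgroup.map_top_of_surjective φ.toMonoidHom φ.surjective]

include hA in
theorem decomp {n : G} (hn : n ∈ Subgroup.normalizer (A : Set G)) :
    ∃ a : ↥Co0, ∃ c ∈ C, n = emb φ a * c := by
  haveI := finite_co0'
  have hmem : ∀ x : ↥Co0, n * emb φ x * n⁻¹ ∈ A := fun x => (Subgroup.mem_normalizer_iff.1 hn _).1 (emb_mem φ x)
  let f : ↥Co0 →* ↥Co0 := φ.toMonoidHom.comp
    (((MulAut.conj n).toMonoidHom.comp (emb φ)).codRestrict A hmem)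
  have hfe : ∀ x, emb φ (f x) = n * emb φ x * n⁻¹ := fun x => by
    show ((φ.symm (φ _) : ↥A) : G) = _
    rw [MulEquiv.symm_apply_apply]
    rfl
  have hinj : Function.Injective f := fun x y e => emb_inj φ (by
    have h := congrArg (emb φ) e
    rw [hfe, hfe] at h
    exact mul_left_cancel (mul_right_cancel h))
  obtain ⟨a, ha⟩ := aut_co0 (perfect hA φ) (MulEquiv.ofBijective f (Finite.injective_iff_bijective.1 hinj))
  refine ⟨a, (emb φ a)⁻¹ * n, Subgroup.mem_centralizer_iff.2 fun x hx => ?_, by group⟩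
  obtain ⟨y, rfl⟩ := exists_emb φ hx
  have h := hfe y
  rw [show f y = a * y * a⁻¹ from ha y, map_mul, map_mul, map_inv] at h
  calc emb φ y * ((emb φ a)⁻¹ * n) = (emb φ a)⁻¹ * (emb φ a * emb φ y * (emb φ a)⁻¹) * n := by group
    _ = (emb φ a)⁻¹ * n * emb φ y := by rw [h]; group

include hA in
theorem z_le : Subgroup.centralizer ({emb φ negElt} : Set G) ≤ Subgroup.normalizer (A : Set G) :=
  centralizer_le_normalizer_standard hA (z_order φ) (z_mem φ)

include hA in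
theorem of_comm_z {n : G} (h : Commute n (emb φ negElt)) : ∃ a : ↥Co0, ∃ c ∈ C, n = emb φ a * c :=
  decomp hA φ (z_le hA φ (Subgroup.mem_centralizer_singleton_iff.2 h.eq))

include hA in
theorem le_z {n : G} (hn : n ∈ Subgroup.normalizer (A : Set G)) : Commute n (emb φ negElt) := by
  obtain ⟨a, c, hc, rfl⟩ := decomp hA φ hn
  exact ((show Commute a negElt from neg_comm a).map (emb φ)).mul_left (cent_comm φ hc negElt).symm

include hA hR in
/-- A conjugate of `z` commuting with it has square-trivial components. -/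
theorem shape {w : G} (hw : IsConj (emb φ negElt) w) (hc : Commute w (emb φ negElt)) (hne : w ≠ emb φ negElt) :
    ∃ a : ↥Co0, ∃ c ∈ C, w = emb φ a * c ∧ (a * a = 1 ∨ a * a = negElt) ∧ a ≠ 1 ∧ a ≠ negElt ∧
      c * c = (emb φ (a * a))⁻¹ := by
  obtain ⟨a, c, hcC, rfl⟩ := of_comm_z hA φ hc
  obtain ⟨g, hg⟩ := isConj_iff.1 hw
  have hsq : emb φ a * c * (emb φ a * c) = 1 := by
    rw [← hg, show g * emb φ negElt * g⁻¹ * (g * emb φ negElt * g⁻¹) = g * (emb φ negElt * emb φ negElt) * g⁻¹ by group,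
      ← map_mul, ConwayZero.neg_sq, map_one]
    group
  have hcc : c * c = (emb φ (a * a))⁻¹ := by
    refine eq_inv_of_mul_eq_one_right ?_
    rw [map_mul, (cent_comm φ hcC a).mul_mul_mul_comm, hsq]
  have hcen : a * a ∈ Subgroup.center ↥Co0 := by
    refine Subgroup.mem_center_iff.2 fun x => emb_inj φ ?_
    have hcm : (emb φ (a * a))⁻¹ ∈ C := hcc ▸ mul_mem hcC hcC
    rw [map_mul (emb φ) x (a * a), map_mul (emb φ) (a * a) x]
    exact (cent_comm φ (inv_mem_iff.1 hcm) x).eq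
  have hsmall : ∀ b, a = b → b * b = 1 → emb φ b ∈ C → False := by
    rintro b rfl hb hbC
    rw [hb, map_one, inv_one] at hcc
    have h1 : emb φ a * c ≠ 1 := fun e => by
      rw [e] at hg
      exact negElt_ne_one (emb_inj φ ((conj_eq_one_iff.1 hg).trans (map_one _).symm))
    exact hne ((unique_invol φ hR (mul_mem hbC hcC) hsq).resolve_left h1)
  exact ⟨a, c, hcC, rfl, center_cases hcen, fun e => hsmall 1 e (one_mul 1) (by rw [map_one]; exact one_mem _),
    fun e => hsmall negElt e ConwayZero.neg_sq (z_mem φ), hcc⟩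

include hA hR in
/-- A commuting conjugate of `z` lies in the standard subgroup. -/
theorem mem_A {g : G} (hc : Commute (g * emb φ negElt * g⁻¹) (emb φ negElt))
    (hne : g * emb φ negElt * g⁻¹ ≠ emb φ negElt) : ∃ a : ↥Co0, NInv a ∧ g * emb φ negElt * g⁻¹ = emb φ a := by
  set z := emb φ negElt with hz
  obtain ⟨a, c, hcC, e, ha2, ha1, han, hcc⟩ := shape hA φ hR (isConj_iff.2 ⟨g, rfl⟩) hc hne
  have hw : Commute (g⁻¹ * z * g) z := by
    have := hc.map (MulAut.conj g⁻¹).toMonoidHom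
    simp only [MulEquiv.toMonoidHom_eq_coe, MonoidHom.coe_coe, MulAut.conj_apply] at this
    rw [show g⁻¹ * (g * z * g⁻¹) * g⁻¹⁻¹ = z by group, show g⁻¹ * z * g⁻¹⁻¹ = g⁻¹ * z * g by group] at this
    exact this.symm
  have hwne : g⁻¹ * z * g ≠ z := fun h => hne (by
    calc g * z * g⁻¹ = g * (g⁻¹ * z * g) * g⁻¹ := by rw [h]
      _ = z := by group)
  obtain ⟨a', c', hc'C, e', ha'2, ha'1, ha'n, -⟩ :=
    shape hA φ hR (isConj_iff.2 ⟨g⁻¹, by rw [inv_inv]⟩) hw hwne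
  obtain ⟨b₁, b₂, hb₁, hb₂, hb⟩ := exists_witness ha'2 ha'1 ha'n
  have hB : ∀ b : ↥Co0, Commute b a' → Commute (g * emb φ b * g⁻¹) z := fun b hba => by
    have h : Commute (emb φ b) (g⁻¹ * z * g) := by
      rw [e']; exact (hba.map (emb φ)).mul_right (cent_comm φ hc'C b)
    have := h.map (MulAut.conj g).toMonoidHom
    simp only [MulEquiv.toMonoidHom_eq_coe, MonoidHom.coe_coe, MulAut.conj_apply] at this
    rwa [show g * (g⁻¹ * z * g) * g⁻¹ = z by group] at this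
  obtain ⟨α, γ, hγ, e₁⟩ := of_comm_z hA φ (hB b₁ hb₁)
  obtain ⟨β, δ, hδ, e₂⟩ := of_comm_z hA φ (hB b₂ hb₂)
  have hbig : g * z * g⁻¹ = emb φ ⁅α, β⁆ * ⁅γ, δ⁆ := by
    have h := map_commutatorElement ((MulAut.conj g).toMonoidHom.comp (emb φ)) b₁ b₂
    rw [hb] at h
    simp only [MonoidHom.coe_comp, Function.comp_apply, MulEquiv.toMonoidHom_eq_coe, MonoidHom.coe_coe,
      MulAut.conj_apply] at h
    rw [hz, h, e₁, e₂, map_commutatorElement]
    simp only [commutatorElement_def, mul_inv_rev]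
    have c1 := cent_comm φ hγ β
    have c2 := (cent_comm φ hδ α).inv_left
    have c3 := (cent_comm φ hγ α).inv_left
    have c4 := (cent_comm φ hδ β).inv_left
    have c5 : Commute γ⁻¹ (emb φ α)⁻¹ := c3.inv_right.symm
    have c6 : Commute (γ * δ * γ⁻¹) (emb φ β)⁻¹ :=
      (((cent_comm φ hγ β).inv_left.symm.mul_left c4.symm)).mul_left
        ((cent_comm φ hγ β).inv_left.inv_right.symm)
    have c7 : Commute δ⁻¹ (emb φ β)⁻¹ := c4.inv_right.symm
    calc emb φ α * γ * (emb φ β * δ) * (γ⁻¹ * (emb φ α)⁻¹) * (δ⁻¹ * (emb φ β)⁻¹)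
        = emb φ α * (γ * emb φ β) * (δ * (γ⁻¹ * (emb φ α)⁻¹)) * (δ⁻¹ * (emb φ β)⁻¹) := by group
      _ = emb φ α * emb φ β * (γ * δ * γ⁻¹ * (emb φ α)⁻¹) * (δ⁻¹ * (emb φ β)⁻¹) := by rw [← c1.eq]; group
      _ = emb φ α * emb φ β * (emb φ α)⁻¹ * (γ * δ * γ⁻¹) * (δ⁻¹ * (emb φ β)⁻¹) := by
          rw [((c3.mul_right c2).mul_right c3.inv_right).symm.eq]; group
      _ = emb φ α * emb φ β * (emb φ α)⁻¹ * ((γ * δ * γ⁻¹) * (emb φ β)⁻¹) * δ⁻¹ := by rw [c7.eq]; group
      _ = emb φ α * emb φ β * (emb φ α)⁻¹ * (emb φ β)⁻¹ * (γ * δ * γ⁻¹ * δ⁻¹) := by rw [c6.eq]; group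
  set k := ⁅γ, δ⁆ with hk
  have hkC : k ∈ C := mul_mem (mul_mem (mul_mem hγ hδ) (inv_mem hγ)) (inv_mem hδ)
  have hkodd : Odd (orderOf k) := by
    have h := odd_commutator hR ⟨γ, hγ⟩ ⟨δ, hδ⟩
    rwa [← Subgroup.orderOf_coe] at h
  set d := ⁅α, β⁆⁻¹ * a with hd
  have hdk : emb φ d * c = k := by
    rw [hd, map_mul, map_inv, mul_assoc, ← e, hbig]; group
  have hdcen : d ∈ Subgroup.center ↥Co0 := by
    refine Subgroup.mem_center_iff.2 fun x => emb_inj φ ?_
    rw [map_mul (emb φ) x d, map_mul (emb φ) d x]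
    refine (cent_comm φ ?_ x).eq
    rw [show emb φ d = k * c⁻¹ by rw [← hdk]; group]
    exact mul_mem hkC (inv_mem hcC)
  have hc4 : c ^ 4 = 1 := by
    rw [show 4 = 2 * 2 from rfl, pow_mul, pow_two c, hcc]
    rcases ha2 with h | h <;> rw [h]
    · simp
    · rw [inv_pow, pow_two, ← map_mul, ConwayZero.neg_sq, map_one, inv_one]
  have hk4 : k ^ 4 = 1 := by
    rw [← hdk, (cent_comm φ hcC d).mul_pow, hc4, mul_one, ← map_pow]
    rcases center_cases hdcen with h | h <;> rw [h]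
    · rw [one_pow, map_one]
    · rw [show 4 = 2 * 2 from rfl, pow_mul, pow_two negElt, ConwayZero.neg_sq, one_pow, map_one]
  have hk1 : k = 1 := by
    rw [← orderOf_eq_one_iff]
    refine Nat.eq_one_of_dvd_coprimes (k := orderOf k) ?_ dvd_rfl (orderOf_dvd_of_pow_eq_one hk4)
    rw [show 4 = 2 ^ 2 from rfl]
    exact (Nat.coprime_two_right.2 hkodd).pow_right 2
  rw [hk1, mul_one] at hbig
  have hc1 : emb φ (a⁻¹ * ⁅α, β⁆) = c := by
    rw [map_mul, map_inv, ← hbig, e]; group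
  have hsq : a * a = 1 := by
    have hcA : a⁻¹ * ⁅α, β⁆ ∈ Subgroup.center ↥Co0 := by
      rw [show a⁻¹ * ⁅α, β⁆ = d⁻¹ by rw [hd]; group]
      exact inv_mem hdcen
    have hcc1 : c * c = 1 := by
      rw [← hc1, ← map_mul]
      rcases center_cases hcA with h | h <;> rw [h]
      · rw [one_mul, map_one]
      · rw [ConwayZero.neg_sq, map_one]
    rw [hcc, inv_eq_one] at hcc1
    exact emb_inj φ (hcc1.trans (map_one _).symm)
  have hcs : c * c = 1 := by rw [hcc, hsq, map_one, inv_one]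
  rcases unique_invol φ hR hcC hcs with rfl | rfl
  · exact ⟨a, ⟨hsq, ha1, han⟩, by rw [e, mul_one]⟩
  · refine ⟨negElt * a, NInv.neg_mul ⟨hsq, ha1, han⟩, ?_⟩
    rw [e, ← neg_comm, map_mul]

/-- Some involution of this trace is conjugate to `z`. -/
def Fz (k : ℚ) : Prop := ∃ a : ↥Co0, NInv a ∧ tr a = k ∧ IsConj (emb φ negElt) (emb φ a)

theorem conj_iff {a : ↥Co0} (ha : NInv a) : IsConj (emb φ negElt) (emb φ a) ↔ Fz φ (tr a) := by
  refine ⟨fun h => ⟨a, ha, rfl, h⟩, fun ⟨b, hb, he, h⟩ => h.trans ?_⟩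
  obtain ⟨g, hg⟩ := conj_of_tr hb.1 hb.2.1 hb.2.2 ha.1 ha.2.1 ha.2.2 he
  exact isConj_iff.2 ⟨emb φ g, by rw [← hg, map_mul, map_mul, map_inv]⟩

include hA hR in
/-- The image of the second of two commuting conjugates of `z`. -/
theorem pair {x u : ↥Co0} (hxu : NInv (x * u)) (hu : NInv u) (hc : Commute x u) (hne : x ≠ u)
    (hPu : Fz φ (tr u)) {g : G} (hg : g * emb φ x * g⁻¹ = emb φ negElt) :
    ∃ v : ↥Co0, NInv v ∧ g * emb φ u * g⁻¹ = emb φ v ∧ Fz φ (tr v) ∧ (Fz φ (tr (x * u)) ↔ Fz φ (-tr v)) := by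
  obtain ⟨k, hk⟩ := isConj_iff.1 ((conj_iff φ hu).2 hPu)
  have hcm : Commute (g * k * emb φ negElt * (g * k)⁻¹) (emb φ negElt) := by
    rw [show g * k * emb φ negElt * (g * k)⁻¹ = g * (k * emb φ negElt * k⁻¹) * g⁻¹ by group, hk, ← hg]
    exact (hc.symm.map (emb φ)).map (MulAut.conj g).toMonoidHom
  have hn : g * k * emb φ negElt * (g * k)⁻¹ ≠ emb φ negElt := fun h => hne (emb_inj φ (by
    rw [show g * k * emb φ negElt * (g * k)⁻¹ = g * (k * emb φ negElt * k⁻¹) * g⁻¹ by group, hk, ← hg] at h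
    exact (mul_left_cancel (mul_right_cancel h)).symm))
  obtain ⟨v, hv, hev⟩ := mem_A hA φ hR hcm hn
  rw [show g * k * emb φ negElt * (g * k)⁻¹ = g * (k * emb φ negElt * k⁻¹) * g⁻¹ by group, hk] at hev
  have hxv : g * emb φ (x * u) * g⁻¹ = emb φ (negElt * v) := by
    rw [map_mul, map_mul, show g * (emb φ x * emb φ u) * g⁻¹ = g * emb φ x * g⁻¹ * (g * emb φ u * g⁻¹) by group,
      hg, hev]
  refine ⟨v, hv, hev, (conj_iff φ hv).1 (((conj_iff φ hu).2 hPu).trans (isConj_iff.2 ⟨g, hev⟩)), ?_⟩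
  rw [← tr_neg_mul, ← conj_iff φ hxu, ← conj_iff φ hv.neg_mul]
  exact ⟨fun h => h.trans (isConj_iff.2 ⟨g, hxv⟩), fun h => h.trans (isConj_iff.2 ⟨g, hxv⟩).symm⟩

include hA in
theorem swap_zero {x u h v : ↥Co0} (hx : h * x * h⁻¹ = x) (hu : h * u * h⁻¹ = x * u) {g : G}
    (hg : g * emb φ x * g⁻¹ = emb φ negElt) (hv : g * emb φ u * g⁻¹ = emb φ v) : tr v = 0 := by
  have hn : Commute (g * emb φ h * g⁻¹) (emb φ negElt) := by
    have h0 : Commute h x := mul_inv_eq_iff_eq_mul.1 hx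
    rw [← hg]
    exact (h0.map (emb φ)).map (MulAut.conj g).toMonoidHom
  obtain ⟨a, c, hc, e⟩ := of_comm_z hA φ hn
  have key : emb φ (a * v * a⁻¹) = emb φ (negElt * v) := by
    calc emb φ (a * v * a⁻¹) = emb φ a * (c * emb φ v * c⁻¹) * (emb φ a)⁻¹ := by
          rw [← (cent_comm φ hc v).eq, map_mul, map_mul, map_inv]; group
      _ = (emb φ a * c) * emb φ v * (emb φ a * c)⁻¹ := by group
      _ = g * emb φ (h * u * h⁻¹) * g⁻¹ := by rw [← e, ← hv, map_mul, map_mul, map_inv]; group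
      _ = emb φ (negElt * v) := by
          rw [hu, map_mul, map_mul, show g * (emb φ x * emb φ u) * g⁻¹ = g * emb φ x * g⁻¹ * (g * emb φ u * g⁻¹) by group,
            hg, hv]
  have ht := congrArg tr (emb_inj φ key)
  rw [tr_conj, tr_neg_mul] at ht
  linarith

include hA hR in
/-- A subgroup of order sixteen on which all pairs look like dodecad pairs is impossible. -/
theorem no_sixteen {x : ↥Co0} (hx : NInv x) (hPx : Fz φ (tr x)) (U : Subgroup ↥Co0) (hU : Nat.card U = 16)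
    (h : ∀ u ∈ U, u ≠ 1 → NInv u ∧ NInv (x * u) ∧ Commute x u ∧ x ≠ u ∧ Fz φ (tr u) ∧ Fz φ (tr (x * u)))
    (hzero : (∀ k : ℚ, Fz φ k → Fz φ (-k) → k = 0) ∨
      ∀ u ∈ U, u ≠ 1 → ∃ h : ↥Co0, h * x * h⁻¹ = x ∧ h * u * h⁻¹ = x * u) : False := by
  obtain ⟨k, hk⟩ := isConj_iff.1 ((conj_iff φ hx).2 hPx)
  obtain ⟨g, hg⟩ : ∃ g : G, g * emb φ x * g⁻¹ = emb φ negElt := ⟨k⁻¹, by rw [← hk]; group⟩
  set V := (U.map (emb φ)).map (MulAut.conj g).toMonoidHom with hV
  have hVle : V ≤ (emb φ).range := by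
    rintro _ ⟨_, ⟨u, hu, rfl⟩, rfl⟩
    by_cases hu1 : u = 1
    · simp [hu1]
    · obtain ⟨h1, h2, h3, h4, h5, -⟩ := h u hu hu1
      obtain ⟨v, -, hv, -⟩ := pair hA φ hR h2 h1 h3 h4 h5 hg
      exact ⟨v, hv.symm⟩
  have hcard : Nat.card ↥(V.comap (emb φ)) = 16 := by
    rw [← Subgroup.card_map_of_injective (K := V.comap (emb φ)) (emb_inj φ), Subgroup.map_comap_eq_self hVle,
      hV, Subgroup.card_map_of_injective (f := (MulAut.conj g).toMonoidHom) (MulAut.conj g).injective, Subgroup.card_map_of_injective (emb_inj φ), hU]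
  refine no_trace_zero _ hcard fun a ha ha1 => ?_
  obtain ⟨_, ⟨u, hu, rfl⟩, e⟩ := Subgroup.mem_comap.1 ha
  change g * emb φ u * g⁻¹ = emb φ a at e
  have hu1 : u ≠ 1 := fun e1 => ha1 (emb_inj φ (by rw [← e, e1, map_one]; group))
  obtain ⟨h1, h2, h3, h4, h5, h6⟩ := h u hu hu1
  obtain ⟨v, -, hv, hPv, hiff⟩ := pair hA φ hR h2 h1 h3 h4 h5 hg
  obtain rfl : v = a := emb_inj φ (hv.symm.trans e)
  rcases hzero with hz | hz
  · exact hz _ hPv (hiff.1 h6)
  · obtain ⟨s, hs1, hs2⟩ := hz u hu hu1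
    exact swap_zero hA φ hs1 hs2 hg hv

end

/-! ### the data -/

def octA : ℕ := 13062145
def octB : ℕ := 4845570
def octC : ℕ := 12222476
def sixA : ℕ := 16101503
def sixB : ℕ := 14614404
def dodA : ℕ := 8245261
def dodB : ℕ := 15953934

def spaceLow : List ℕ :=
  [0, 14516588, 4755660, 9769376, 9045270, 5735546, 12752346, 2036918, 14091721, 689317, 10458373, 4330601, 6095071,
    8421811, 1413139, 13111679]

def spaceHigh : List ℕ :=
  [0, 12168344, 6830940, 13735876, 8876912, 4120552, 15681580, 5694644, 905886, 11828742, 6678978, 14435674, 9085422,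
    3345782, 14850738, 5977642]

def swaps : List ℕ :=
  [27754344013585469192221472244567693, 896308326720571150551471271617675468, 754451821027336433279126656527238658,
    140930209297261801452838124556304804, 896325739516640703756067101052998860, 628288772403699205419629032845752005,
    915673917940270564450273945670779461, 763368164290377162385795285304153092, 169402823729325958918550902724264146,
    671214075950723033364030436824137357, 671997574024946372925726064708554834, 669447868068704380551844883137710086,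
    852445953422283858917213495404186081, 851660220428637242667510822321509388, 672889977781585054307021332759152118]

/-- A code word with its weight. -/
def W (c n : ℕ) : Prop := inCode c = true ∧ c ≠ 0 ∧ c ≠ allMask ∧ wt c = n

noncomputable instance (c n : ℕ) : Decidable (W c n) := by unfold W; infer_instance

theorem triples : (W octA 8 ∧ W octB 8 ∧ W octC 8 ∧ W sixA 16 ∧ W sixB 16 ∧ W dodA 12 ∧ W dodB 12) ∧
    (W (octA ^^^ octB) 8 ∧ W (octA ^^^ octC) 12 ∧ W (sixA ^^^ sixB) 16 ∧ W (dodA ^^^ dodB) 8) ∧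
    (octA ≠ octB ∧ octA ≠ octC ∧ sixA ≠ sixB ∧ dodA ≠ dodB) := by
  decide +kernel

theorem space_xor : (∀ i < 16, ∀ j < 16, spaceLow.getD i 0 ^^^ spaceLow.getD j 0 = spaceLow.getD (i ^^^ j) 0) ∧
    ∀ i < 16, ∀ j < 16, spaceHigh.getD i 0 ^^^ spaceHigh.getD j 0 = spaceHigh.getD (i ^^^ j) 0 := by
  decide +kernel

theorem low_ok : ∀ i < 16, i ≠ 0 → (W (spaceLow.getD i 0) 8 ∨ W (spaceLow.getD i 0) 12) ∧
    (W (octA ^^^ spaceLow.getD i 0) 8 ∨ W (octA ^^^ spaceLow.getD i 0) 12) ∧ octA ≠ spaceLow.getD i 0 := by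
  decide +kernel

theorem high_ok : ∀ i < 16, i ≠ 0 → (W (spaceHigh.getD i 0) 12 ∨ W (spaceHigh.getD i 0) 16) ∧
    (W (sixA ^^^ spaceHigh.getD i 0) 12 ∨ W (sixA ^^^ spaceHigh.getD i 0) 16) ∧ sixA ≠ spaceHigh.getD i 0 := by
  decide +kernel

theorem swaps_ok : ∀ i < 16, i ≠ 0 → isAut (swaps.getD (i - 1) 0) = true ∧ mimg (swaps.getD (i - 1) 0) sixA = sixA ∧
    mimg (swaps.getD (i - 1) 0) (spaceHigh.getD i 0) = sixA ^^^ spaceHigh.getD i 0 := by
  decide +kernel

theorem space_code : (∀ i < 16, inCode (spaceLow.getD i 0) = true) ∧ (∀ i < 16, inCode (spaceHigh.getD i 0) = true) ∧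
    spaceLow.getD 0 0 = 0 ∧ spaceHigh.getD 0 0 = 0 ∧
    (∀ i < 16, ∀ j < 16, spaceLow.getD i 0 = spaceLow.getD j 0 → i = j) ∧
    ∀ i < 16, ∀ j < 16, spaceHigh.getD i 0 = spaceHigh.getD j 0 → i = j := by
  decide +kernel

theorem W.ninv {c n : ℕ} (h : W c n) : NInv (fl c) := ninv_fl h.1 h.2.1 h.2.2.1

theorem W.trace {c n : ℕ} (h : W c n) : tr (fl c) = 24 - 2 * (n : ℚ) := by rw [tr_fl_wt h.1, h.2.2.2]

/-- The sign changes of a list closed under exclusive or. -/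
noncomputable def flSpace (L : List ℕ) (hc : ∀ i < 16, inCode (L.getD i 0) = true)
    (h0 : L.getD 0 0 = 0) (hx : ∀ i < 16, ∀ j < 16, L.getD i 0 ^^^ L.getD j 0 = L.getD (i ^^^ j) 0) :
    Subgroup ↥Co0 where
  carrier := Set.range fun i : Fin 16 => fl (L.getD i.val 0)
  one_mem' := ⟨0, by show fl (L.getD 0 0) = 1; rw [h0, fl_zero]⟩
  mul_mem' := by
    rintro _ _ ⟨i, rfl⟩ ⟨j, rfl⟩
    refine ⟨⟨i.val ^^^ j.val, Nat.xor_lt_two_pow (n := 4) i.isLt j.isLt⟩, ?_⟩
    show fl _ = fl _ * fl _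
    rw [fl_mul (hc _ i.isLt) (hc _ j.isLt), hx _ i.isLt _ j.isLt]
  inv_mem' := by
    rintro _ ⟨i, rfl⟩
    exact ⟨i, (fl_inv (hc _ i.isLt)).symm⟩

theorem card_flSpace (L : List ℕ) (hc : ∀ i < 16, inCode (L.getD i 0) = true) (h0 : L.getD 0 0 = 0)
    (hx : ∀ i < 16, ∀ j < 16, L.getD i 0 ^^^ L.getD j 0 = L.getD (i ^^^ j) 0)
    (hi : ∀ i < 16, ∀ j < 16, L.getD i 0 = L.getD j 0 → i = j) : Nat.card ↥(flSpace L hc h0 hx) = 16 := by
  show Nat.card ↥(Set.range fun i : Fin 16 => fl (L.getD i.val 0)) = 16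
  rw [Nat.card_range_of_injective fun i j e =>
    Fin.ext (hi _ i.isLt _ j.isLt (fl_inj (hc _ i.isLt) (hc _ j.isLt) e)), Nat.card_fin]

theorem fl_comm {a b : ℕ} (ha : inCode a = true) (hb : inCode b = true) : Commute (fl a) (fl b) := by
  show fl a * fl b = fl b * fl a
  rw [fl_mul ha hb, fl_mul hb ha, Nat.xor_comm]

theorem fl_ne {a b : ℕ} (ha : inCode a = true) (hb : inCode b = true) (h : a ≠ b) : fl a ≠ fl b :=
  fun e => h (fl_inj ha hb e)

section
variable (hA : Cfsg.IsStandardSubgroup A) (φ : ↥A ≃* ↥Co0)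
  (hR : ∀ R : Sylow 2 ↥(Subgroup.centralizer (A : Set G)), IsCyclic ↥(R : Subgroup ↥(Subgroup.centralizer (A : Set G))))

include hA hR in
/-- What the products of two commuting conjugates of `z` can be. -/
theorem triple {a b n m k : ℕ} (ha : W a n) (hb : W b m) (hab : W (a ^^^ b) k) (hne : a ≠ b)
    (h1 : Fz φ (24 - 2 * (n : ℚ))) (h2 : Fz φ (24 - 2 * (m : ℚ))) :
    ∃ t : ℚ, (t = -8 ∨ t = 8 ∨ t = 0) ∧ Fz φ t ∧ (Fz φ (24 - 2 * (k : ℚ)) ↔ Fz φ (-t)) := by
  rw [← ha.trace] at h1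
  rw [← hb.trace] at h2
  obtain ⟨g, hg⟩ := isConj_iff.1 ((conj_iff φ ha.ninv).2 h1)
  have hab' : NInv (fl a * fl b) := by rw [fl_mul ha.1 hb.1]; exact hab.ninv
  obtain ⟨v, hv, -, hPv, hiff⟩ := pair hA φ hR hab' hb.ninv (fl_comm ha.1 hb.1) (fl_ne ha.1 hb.1 hne) h2
    (g := g⁻¹) (by rw [← hg]; group)
  rw [fl_mul ha.1 hb.1, hab.trace] at hiff
  exact ⟨_, tr_cases hv.1 hv.2.1 hv.2.2, hPv, hiff⟩

include hA hR in
theorem no_class {k : ℚ} (hk : Fz φ k) : False := by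
  obtain ⟨⟨wA, wB, wC, wX, wY, wD, wE⟩, ⟨wAB, wAC, wXY, wDE⟩, ⟨nAB, nAC, nXY, nDE⟩⟩ := triples
  have hcases : k = -8 ∨ k = 8 ∨ k = 0 := by
    obtain ⟨a, ha, rfl, -⟩ := hk
    exact tr_cases ha.1 ha.2.1 ha.2.2
  have e8 : (24 - 2 * ((8 : ℕ) : ℚ)) = 8 := by norm_num
  have e12 : (24 - 2 * ((12 : ℕ) : ℚ)) = 0 := by norm_num
  have e16 : (24 - 2 * ((16 : ℕ) : ℚ)) = -8 := by norm_num
  have hn8 : (-(8 : ℚ)) = -8 := rfl
  -- octads and sixteens both force dodecads
  have hO : Fz φ 8 → Fz φ 0 := by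
    intro h8
    by_contra h0
    by_cases hm : Fz φ (-8)
    · obtain ⟨t, ht, hPt, hiff⟩ := triple hA φ hR wA wC wAC nAC (by rw [e8]; exact h8) (by rw [e8]; exact h8)
      rw [e12] at hiff
      refine h0 (hiff.2 ?_)
      rcases ht with rfl | rfl | rfl
      · rw [neg_neg]; exact h8
      · exact hm
      · exact absurd hPt h0
    · obtain ⟨t, ht, hPt, hiff⟩ := triple hA φ hR wA wB wAB nAB (by rw [e8]; exact h8) (by rw [e8]; exact h8)
      rw [e8] at hiff
      have h' := hiff.1 h8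
      rcases ht with rfl | rfl | rfl
      · exact hm hPt
      · exact hm h'
      · exact h0 hPt
  have hS : Fz φ (-8) → Fz φ 0 := by
    intro hm
    by_contra h0
    have h8 : ¬ Fz φ 8 := fun h => h0 (hO h)
    obtain ⟨t, ht, hPt, hiff⟩ := triple hA φ hR wX wY wXY nXY (by rw [e16]; exact hm) (by rw [e16]; exact hm)
    rw [e16] at hiff
    have h' := hiff.1 hm
    rcases ht with rfl | rfl | rfl
    · exact h8 (by rwa [neg_neg] at h')
    · exact h8 hPt
    · exact h0 hPt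
  have h0 : Fz φ 0 := by
    rcases hcases with rfl | rfl | rfl
    exacts [hS hk, hO hk, hk]
  have hor : Fz φ 8 ∨ Fz φ (-8) := by
    by_contra hno
    rw [not_or] at hno
    obtain ⟨t, ht, hPt, hiff⟩ := triple hA φ hR wD wE wDE nDE (by rw [e12]; exact h0) (by rw [e12]; exact h0)
    rw [e8] at hiff
    rcases ht with rfl | rfl | rfl
    · exact hno.2 hPt
    · exact hno.1 hPt
    · exact hno.1 (hiff.2 (by rw [neg_zero]; exact h0))
  obtain ⟨hcL, hcH, hzL, hzH, hiL, hiH⟩ := space_code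
  have hP : ∀ {c n m : ℕ}, (W c n ∨ W c m) → Fz φ (24 - 2 * (n : ℚ)) → Fz φ (24 - 2 * (m : ℚ)) → Fz φ (tr (fl c)) := by
    intro c n m h hn hm
    rcases h with h | h <;> rw [h.trace] <;> assumption
  have hN : ∀ {c n m : ℕ}, (W c n ∨ W c m) → NInv (fl c) := fun h => h.elim W.ninv W.ninv
  by_cases hm : Fz φ (-8)
  · refine no_sixteen hA φ hR wX.ninv (by rw [wX.trace, e16]; exact hm)
      (flSpace spaceHigh hcH hzH space_xor.2) (card_flSpace spaceHigh hcH hzH space_xor.2 hiH) ?_ ?_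
    · rintro _ ⟨i, rfl⟩ hne
      have hi0 : i.val ≠ 0 := fun e => hne (by show fl _ = 1; rw [e, hzH, fl_zero])
      obtain ⟨h1, h2, h3⟩ := high_ok _ i.isLt hi0
      have hcode := hcH _ i.isLt
      refine ⟨hN h1, ?_, fl_comm wX.1 hcode, fl_ne wX.1 hcode h3, hP h1 (e12.symm ▸ h0) (e16.symm ▸ hm), ?_⟩
      · rw [fl_mul wX.1 hcode]; exact hN h2
      · rw [fl_mul wX.1 hcode]; exact hP h2 (e12.symm ▸ h0) (e16.symm ▸ hm)
    · refine Or.inr ?_
      rintro _ ⟨i, rfl⟩ hne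
      have hi0 : i.val ≠ 0 := fun e => hne (by show fl _ = 1; rw [e, hzH, fl_zero])
      obtain ⟨hp, hpx, hpu⟩ := swaps_ok _ i.isLt hi0
      have hcode := hcH _ i.isLt
      refine ⟨pm (swaps.getD (i.val - 1) 0), ?_, ?_⟩
      · rw [conj_fl hp wX.1 (by rw [hpx]; exact wX.1), hpx]
      · rw [conj_fl hp hcode (by rw [hpu]; exact inCode_xor wX.1 hcode), hpu, fl_mul wX.1 hcode]
  · have h8 := hor.resolve_right hm
    refine no_sixteen hA φ hR wA.ninv (by rw [wA.trace, e8]; exact h8)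
      (flSpace spaceLow hcL hzL space_xor.1) (card_flSpace spaceLow hcL hzL space_xor.1 hiL) ?_ ?_
    · rintro _ ⟨i, rfl⟩ hne
      have hi0 : i.val ≠ 0 := fun e => hne (by show fl _ = 1; rw [e, hzL, fl_zero])
      obtain ⟨h1, h2, h3⟩ := low_ok _ i.isLt hi0
      have hcode := hcL _ i.isLt
      refine ⟨hN h1, ?_, fl_comm wA.1 hcode, fl_ne wA.1 hcode h3, hP h1 (e8.symm ▸ h8) (e12.symm ▸ h0), ?_⟩
      · rw [fl_mul wA.1 hcode]; exact hN h2
      · rw [fl_mul wA.1 hcode]; exact hP h2 (e8.symm ▸ h8) (e12.symm ▸ h0)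
    · refine Or.inl fun k hPk hPnk => ?_
      obtain ⟨a, ha, rfl, -⟩ := id hPk
      rcases tr_cases ha.1 ha.2.1 ha.2.2 with e | e | e
      · rw [e] at hPk; exact absurd hPk hm
      · rw [e] at hPnk; exact absurd hPnk hm
      · exact e

include hA φ hR in
theorem normal (hO : Cfsg.oddCore G = ⊥) : A.Normal := by
  set z := emb φ negElt with hz
  have hiso : ∀ g : G, Commute (g * z * g⁻¹) z → g * z * g⁻¹ = z := fun g hc => by
    by_contra hne
    obtain ⟨a, ha, e⟩ := mem_A hA φ hR hc hne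
    exact no_class hA φ hR ((conj_iff φ ha).1 (isConj_iff.2 ⟨g, e⟩))
  have hcen : ∀ g : G, Commute g z := fun g => by
    have hi : Cfsg.IsIsolatedInvolution z := ⟨z_order φ, fun g hc => hiso g hc.symm⟩
    have h := CfsgLib.ZStar.mem_oddCore_of_isolated hi g
    rw [hO, Subgroup.mem_bot] at h
    rw [← commutatorElement_def] at h
    exact (commutatorElement_eq_one_iff_mul_comm.1 h).symm
  exact Subgroup.normalizer_eq_top_iff.1 (top_le_iff.1 fun g _ =>
    z_le hA φ (Subgroup.mem_centralizer_singleton_iff.2 (hcen g).eq))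

end

end CfsgLib.Components.ConwayZeroStandard
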