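import Cfsg.Agent.Lib.Components.PLayer
import Cfsg.Agent.Lib.Core.Nilpotent

/-!
# `p`-subgroups acting on `F*(G)` when `O_p(G) = 1`

* `component_le_commutator_or_commutes`;
* `commutator_gFitting_idem` : `⁅F*, Y, Y⁆ = ⁅F*, Y⁆`;
* `eq_bot_of_commutator_commutator` : `⁅F*, Y, Y₀⁆ = 1` forces `Y₀ = 1`.
-/

set_option autoImplicit false
set_option linter.style.haveILetI false

namespace CfsgLib.Components

open Subgroup
open scoped Pointwise commutatorElement

variable {G : Type*} [Group G] [Finite G]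

/-- For any `S ≥ L`, a component `L` lies in `⁅S, U⁆` or is centralized by `U`. -/
theorem component_le_commutator_or_commutes {L S U : Subgroup G} (hL : Cfsg.IsComponent L)
    (hLS : L ≤ S) : L ≤ ⁅S, U⁆ ∨ ⁅L, U⁆ = ⊥ := by
  by_cases hLD : L ≤ ⁅S, U⁆
  · exact Or.inl hLD
  right
  set D := ⁅S, U⁆ with hD
  have hLn : L ≤ normalizer (D : Set G) := hLS.trans (Subgroup.normalizer_commutator_ge_left _ _)
  have hnorm : U ≤ normalizer (L : Set G) := by
    intro u hu
    by_contra hne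
    have hconj := isComponent_conj hL u
    have hneq : MulAut.conj u • L ≠ L := fun e => hne (mem_normalizer_of_smul_eq_self e)
    have hcomm := components_commute hL hconj (Ne.symm hneq)
    refine hLD ?_
    rw [← IsComponent.commutator_eq_self hL, Subgroup.commutator_le]
    intro a ha b hb
    have h3 : ⁅a, u⁆ ∈ D := Subgroup.commutator_mem_commutator (hLS ha) hu
    have h4 : ⁅⁅a, u⁆, b⁆ ∈ D := by
      have h5 := (Subgroup.mem_normalizer_iff.mp (hLn hb) _).mp (inv_mem h3)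
      have h6 := mul_mem h3 h5
      rwa [commutatorElement_def ⁅a, u⁆ b,
        show ⁅a, u⁆ * b * ⁅a, u⁆⁻¹ * b⁻¹ = ⁅a, u⁆ * (b * ⁅a, u⁆⁻¹ * b⁻¹) by group]
    have hc : (u * a⁻¹ * u⁻¹) * b = b * (u * a⁻¹ * u⁻¹) :=
      Subgroup.mem_centralizer_iff.mp (Subgroup.commutator_eq_bot_iff_le_centralizer.mp hcomm hb) _
        (Subgroup.smul_mem_pointwise_smul a⁻¹ (MulAut.conj u) L (inv_mem ha))
    have e : ⁅⁅a, u⁆, b⁆ = ⁅a, b⁆ := by
      rw [show ⁅a, u⁆ = a * (u * a⁻¹ * u⁻¹) by rw [commutatorElement_def]; group,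
        commutatorElement_mul_left_eq_conj_mul, commutatorElement_eq_one_iff_mul_comm.mpr hc]
      simp
    rwa [e] at h4
  have hle : ⁅L, U⁆ ≤ L ⊓ D :=
    le_inf (Subgroup.le_normalizer_iff_commutator_le_left.mp hnorm)
      (Subgroup.commutator_mono hLS le_rfl)
  haveI hn : (D.subgroupOf L).Normal := Subgroup.normal_subgroupOf_of_le_normalizer hLn
  have hcen : D.subgroupOf L ≤ Subgroup.center L :=
    IsQuasisimple.le_center_of_ne_top hL.2 hn fun e => hLD (Subgroup.subgroupOf_eq_top.mp e)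
  have h7 : ⁅⁅L, U⁆, L⁆ = ⊥ := by
    rw [Subgroup.commutator_eq_bot_iff_le_centralizer]
    refine hle.trans fun x hx => Subgroup.mem_centralizer_iff.mpr fun y hy => ?_
    exact congrArg Subtype.val (Subgroup.mem_center_iff.mp
      (hcen (show (⟨x, hx.1⟩ : L) ∈ D.subgroupOf L from hx.2)) ⟨y, hy⟩)
  have h8 : ⁅⁅U, L⁆, L⁆ = ⊥ := by rwa [Subgroup.commutator_comm U L]
  have h9 := Subgroup.commutator_commutator_eq_bot_of_rotate h7 h8
  rwa [IsComponent.commutator_eq_self hL] at h9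

omit [Finite G] in
/-- A commutator with a join lies in a subgroup normalized by the join. -/
theorem commutator_iSup_le {ι : Sort*} {A : ι → Subgroup G} {Y B : Subgroup G}
    (hn : (⨆ i, A i) ≤ normalizer (B : Set G)) (h : ∀ i, ⁅A i, Y⁆ ≤ B) :
    ⁅⨆ i, A i, Y⁆ ≤ B := by
  rw [Subgroup.commutator_le]
  intro a ha y hy
  have key : a ∈ ⨆ i, A i ∧ ⁅a, y⁆ ∈ B := by
    refine Subgroup.iSup_induction A (C := fun a => a ∈ ⨆ i, A i ∧ ⁅a, y⁆ ∈ B) ha ?_ ?_ ?_
    · exact fun i x hx => ⟨Subgroup.mem_iSup_of_mem i hx, h i (Subgroup.commutator_mem_commutator hx hy)⟩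
    · exact ⟨one_mem _, by simp⟩
    · rintro a b ⟨ha, ha'⟩ ⟨hb, hb'⟩
      refine ⟨mul_mem ha hb, ?_⟩
      rw [commutatorElement_mul_left_eq_conj_mul]
      exact mul_mem ((Subgroup.mem_normalizer_iff.mp (hn ha) _).mp hb') ha'
  exact key.2

/-- `⁅E, Y⁆` is idempotent. -/
theorem commutator_layer_idem (Y : Subgroup G) :
    ⁅⁅Cfsg.layer G, Y⁆, Y⁆ = ⁅Cfsg.layer G, Y⁆ := by
  haveI := layer_normal (G := G)
  refine le_antisymm (Subgroup.commutator_mono (Subgroup.commutator_le_left _ _) le_rfl) ?_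
  set B := ⁅⁅Cfsg.layer G, Y⁆, Y⁆ with hB
  set B₀ := sSup {L : Subgroup G | Cfsg.IsComponent L ∧ ⁅L, Y⁆ ≠ ⊥} with hB₀
  have hB₀B : B₀ ≤ B := sSup_le fun L hL =>
    (component_le_commutator_or_commutes hL.1
      ((component_le_commutator_or_commutes hL.1 (le_layer hL.1)).resolve_right hL.2)).resolve_right hL.2
  refine le_trans ?_ hB₀B
  have hn : Cfsg.layer G ≤ normalizer (B₀ : Set G) := by
    intro c hc
    refine mem_normalizer_of_smul_eq_self (Subgroup.eq_of_le_of_card_ge ?_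
      (Nat.card_congr (Subgroup.equivSMul (MulAut.conj c) B₀).toEquiv).le)
    rw [Subgroup.pointwise_smul_subset_iff]
    refine sSup_le fun L hL => ?_
    rw [← Subgroup.pointwise_smul_subset_iff,
      smul_eq_self_of_mem_normalizer (component_le_normalizer_layer_member hL.1 hc)]
    exact le_sSup hL
  have hE : Cfsg.layer G = ⨆ L : {L : Subgroup G // Cfsg.IsComponent L}, (L : Subgroup G) :=
    sSup_eq_iSup' _
  rw [hE] at hn ⊢
  refine commutator_iSup_le hn fun ⟨L, hL⟩ => ?_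
  by_cases h0 : ⁅L, Y⁆ = ⊥
  · exact h0.le.trans bot_le
  have hmem : ∀ y ∈ Y, MulAut.conj y • L ≤ B₀ := by
    intro y hy
    refine le_sSup ⟨isComponent_conj hL y, fun e => h0 ?_⟩
    have h1 := congrArg (Subgroup.map (MulAut.conj y⁻¹).toMonoidHom) e
    have hy' : Y.map (MulAut.conj y⁻¹).toMonoidHom = Y :=
      Subgroup.mem_normalizer_iff_map_conj_eq.mp (Subgroup.le_normalizer (inv_mem hy))
    rw [Subgroup.map_commutator, Subgroup.map_bot, hy', conj_smul_eq_map, Subgroup.map_map] at h1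
    convert h1 using 2
    rw [show (MulAut.conj y⁻¹).toMonoidHom.comp (MulAut.conj y).toMonoidHom = MonoidHom.id G from
      MonoidHom.ext fun z => by simp [mul_assoc], Subgroup.map_id]
  rw [Subgroup.commutator_le]
  intro a ha y hy
  rw [commutatorElement_def, show a * y * a⁻¹ * y⁻¹ = a * (y * a⁻¹ * y⁻¹) by group]
  refine mul_mem ((le_sSup ⟨hL, h0⟩ : L ≤ B₀) ha) (hmem y hy ?_)
  exact Subgroup.smul_mem_pointwise_smul a⁻¹ (MulAut.conj y) L (inv_mem ha)

variable {p : ℕ} [hp : Fact p.Prime]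

theorem fitting_coprime_of_pCore_bot (hO : Cfsg.pCore p G = ⊥) :
    (Nat.card (Cfsg.fittingSubgroup G)).Coprime p := by
  rw [Nat.coprime_comm, hp.out.coprime_iff_not_dvd]
  intro hd
  haveI := fitting_isNilpotent (G := G)
  obtain ⟨x, hx⟩ := exists_prime_orderOf_dvd_card' (G := Cfsg.fittingSubgroup G) p hd
  have h1 : (Subgroup.zpowers x).map (Cfsg.fittingSubgroup G).subtype ≤ Cfsg.pCore p G := by
    refine subnormal_pGroup_le_pCore ((Core.isSubnormal_of_isNilpotent _).trans'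
      (fitting_normal (G := G)).isSubnormal) (IsPGroup.of_card (n := 1) ?_)
    rw [Subgroup.card_map_of_injective (Subgroup.subtype_injective _), Nat.card_zpowers, hx, pow_one]
  rw [hO, le_bot_iff, Subgroup.map_eq_bot_iff_of_injective _ (Subgroup.subtype_injective _),
    Subgroup.zpowers_eq_bot] at h1
  rw [h1, orderOf_one] at hx
  exact hp.out.ne_one hx.symm

theorem commutator_fitting_idem (hO : Cfsg.pCore p G = ⊥) {Y : Subgroup G} (hY : IsPGroup p Y) :
    ⁅⁅Cfsg.fittingSubgroup G, Y⁆, Y⁆ = ⁅Cfsg.fittingSubgroup G, Y⁆ := by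
  haveI := fitting_normal (G := G)
  haveI := fitting_isNilpotent (G := G)
  obtain ⟨k, hk⟩ := hY.exists_card_eq
  refine Core.commutator_commutator_eq Subgroup.le_normalizer_of_normal ?_ (Or.inr inferInstance)
  rw [hk]
  exact (fitting_coprime_of_pCore_bot hO).symm.pow_left k

theorem commutator_gFitting_idem (hO : Cfsg.pCore p G = ⊥) {Y : Subgroup G} (hY : IsPGroup p Y) :
    ⁅⁅Cfsg.generalizedFittingSubgroup G, Y⁆, Y⁆ = ⁅Cfsg.generalizedFittingSubgroup G, Y⁆ := by
  haveI := gFitting_normal (G := G)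
  refine le_antisymm (Subgroup.commutator_mono (Subgroup.commutator_le_left _ _) le_rfl) ?_
  rw [Subgroup.commutator_le]
  intro x hx y hy
  haveI := fitting_normal (G := G)
  obtain ⟨e, he, f, hf, rfl⟩ := Subgroup.mem_sup_of_normal_right.mp hx
  have h1 : ⁅e, y⁆ ∈ ⁅⁅Cfsg.generalizedFittingSubgroup G, Y⁆, Y⁆ :=
    (le_of_eq (commutator_layer_idem Y).symm).trans (Subgroup.commutator_mono
      (Subgroup.commutator_mono layer_le_gFitting le_rfl) le_rfl)
      (Subgroup.commutator_mem_commutator he hy)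
  have h2 : ⁅f, y⁆ ∈ ⁅⁅Cfsg.generalizedFittingSubgroup G, Y⁆, Y⁆ :=
    (le_of_eq (commutator_fitting_idem hO hY).symm).trans (Subgroup.commutator_mono
      (Subgroup.commutator_mono fitting_le_gFitting le_rfl) le_rfl)
      (Subgroup.commutator_mem_commutator hf hy)
  have h3 : e * ⁅f, y⁆ * e⁻¹ = ⁅f, y⁆ := by
    have hfy : ⁅f, y⁆ ∈ Cfsg.fittingSubgroup G :=
      Subgroup.commutator_le_left (Cfsg.fittingSubgroup G) Y (Subgroup.commutator_mem_commutator hf hy)
    rw [← Subgroup.mem_centralizer_iff.mp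
      (Subgroup.commutator_eq_bot_iff_le_centralizer.mp layer_commutes_fitting he) _ hfy,
      mul_inv_cancel_right]
  rw [commutatorElement_mul_left_eq_conj_mul, h3]
  exact mul_mem h2 h1

omit hp in
theorem eq_bot_of_le_centralizer_gFitting [Fact p.Prime] (hO : Cfsg.pCore p G = ⊥)
    {Y : Subgroup G} (hY : IsPGroup p Y)
    (h : Y ≤ centralizer (Cfsg.generalizedFittingSubgroup G : Set G)) : Y = ⊥ := by
  set F := Cfsg.generalizedFittingSubgroup G with hF
  haveI : F.Normal := gFitting_normal (G := G)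
  set Z := F ⊓ centralizer (F : Set G) with hZ
  haveI : IsMulCommutative Z := ⟨⟨fun a b => Subtype.ext
    (Subgroup.mem_centralizer_iff.mp b.2.2 a a.2.1)⟩⟩
  have hZf : Z ≤ Cfsg.fittingSubgroup G := le_fitting inferInstance
    (@CommGroup.isNilpotent Z { (inferInstance : Group Z) with mul_comm := mul_comm' })
  obtain ⟨k, hk⟩ := hY.exists_card_eq
  refine le_bot_iff.mp (le_trans (le_inf le_rfl
    ((le_inf (h.trans centralizer_gFitting_le) h).trans hZf)) (le_of_eq ?_))
  exact Subgroup.inf_eq_bot_of_coprime (hk ▸ (fitting_coprime_of_pCore_bot hO).symm.pow_left k)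

theorem eq_bot_of_commutator_commutator (hO : Cfsg.pCore p G = ⊥) {Y Y₀ : Subgroup G}
    (hY : IsPGroup p Y) (hle : Y₀ ≤ Y)
    (h : ⁅⁅Cfsg.generalizedFittingSubgroup G, Y⁆, Y₀⁆ = ⊥) : Y₀ = ⊥ := by
  refine eq_bot_of_le_centralizer_gFitting hO (hY.to_le hle) ?_
  rw [← Subgroup.commutator_eq_bot_iff_le_centralizer, Subgroup.commutator_comm,
    ← commutator_gFitting_idem hO (hY.to_le hle), eq_bot_iff, ← h]
  exact Subgroup.commutator_mono (Subgroup.commutator_mono le_rfl hle) le_rfl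

end CfsgLib.Components
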