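import Cfsg.Agent.Lib.Components.PComponentOf
import Cfsg.Agent.Lib.Techniques.PTerminal

/-!
# Covering a `p`-component by a centralizer

For a `p`-component `K` and a `p`-group `P` centralizing `K / O_{p'}(K)`:

* `cover_centralizer`: `K = (K ∩ C(P)) O_{p'}(K)`;
* `restrict_spec`: `K' = ⟨p`-elements of `U⟩` for `U` covering `K / O_{p'}(K)`: `K' / O ≅ K / O`;
* `isPComponentOf_restrict`, `mem_centralizerOfPComponent_iff`.
-/

set_option autoImplicit false
set_option linter.style.haveILetI false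

namespace CfsgLib.Components

open Subgroup
open CfsgLib.Signalizer
open scoped commutatorElement Pointwise

variable {G : Type*} [Group G] {p : ℕ}

/-- `O_{p'}(K)` inside `G`. -/
def coreIn (p : ℕ) (K : Subgroup G) : Subgroup G := (Cfsg.pPrimeCore p K).map K.subtype

theorem coreIn_le (K : Subgroup G) : coreIn p K ≤ K := Subgroup.map_subtype_le _

variable [Finite G] [hp : Fact p.Prime]

omit hp in
theorem coreIn_coprime (K : Subgroup G) : (Nat.card (coreIn p K)).Coprime p := by
  rw [coreIn, Subgroup.card_map_of_injective K.subtype_injective]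
  exact pPrimeCore_coprime p

omit [Finite G] hp in
theorem normalizer_le_normalizer_coreIn [Finite G] (K : Subgroup G) :
    normalizer (K : Set G) ≤ normalizer (coreIn p K : Set G) := by
  intro g hg
  refine mem_normalizer_of_smul_eq_self (Subgroup.eq_of_le_of_card_ge ?_
    (Nat.card_congr (Subgroup.equivSMul (MulAut.conj g) (coreIn p K)).toEquiv).le)
  rw [conj_smul_eq_map]
  rintro _ ⟨_, ⟨k, hk, rfl⟩, rfl⟩
  haveI := pPrimeCore_characteristic (G := K) p
  exact ⟨K.normalizerMonoidHom ⟨g, hg⟩ k,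
    (Subgroup.characteristic_iff_map_eq.mp inferInstance (K.normalizerMonoidHom ⟨g, hg⟩)).le
      (Subgroup.mem_map_of_mem _ hk), rfl⟩

omit hp in
/-- Elements acting trivially modulo the core normalize `K`. -/
theorem mem_normalizer_of_commutator {K : Subgroup G} {g : G}
    (h : ∀ k ∈ K, g * k * g⁻¹ * k⁻¹ ∈ coreIn p K) : g ∈ normalizer (K : Set G) := by
  refine mem_normalizer_of_smul_eq_self (Subgroup.eq_of_le_of_card_ge ?_
    (Nat.card_congr (Subgroup.equivSMul (MulAut.conj g) K).toEquiv).le)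
  rw [conj_smul_eq_map]
  rintro _ ⟨k, hk, rfl⟩
  have := K.mul_mem (coreIn_le K (h k hk)) hk
  simpa using this

/-- Coprime action: a `p`-group trivial on `K / O_{p'}(K)` has covering fixed points. -/
theorem cover_centralizer {K P : Subgroup G} (hP : IsPGroup p P)
    (hact : ∀ a ∈ P, ∀ k ∈ K, a * k * a⁻¹ * k⁻¹ ∈ coreIn p K) :
    K ≤ (K ⊓ centralizer (P : Set G)) ⊔ coreIn p K := by
  haveI := hP.isNilpotent
  have hPK : P ≤ normalizer (K : Set G) := fun a ha => mem_normalizer_of_commutator (hact a ha)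
  have hPW := hPK.trans (normalizer_le_normalizer_coreIn (p := p) K)
  intro k hk
  obtain ⟨j, hj⟩ := hP.exists_card_eq
  have hKW : K ≤ normalizer (coreIn p K : Set G) :=
    Subgroup.le_normalizer.trans (normalizer_le_normalizer_coreIn K)
  obtain ⟨n, hn, hc⟩ := CfsgLib.Core.exists_centralizing_in_coset (A := P) (N := coreIn p K) (k := k)
    hPW (hj ▸ (coreIn_coprime (p := p) K).symm.pow_left j) (Or.inl inferInstance) fun a ha => by
      rw [show k⁻¹ * (a * k * a⁻¹) = k⁻¹ * (a * k * a⁻¹ * k⁻¹) * k⁻¹⁻¹ by group]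
      exact (Subgroup.mem_normalizer_iff.mp (inv_mem (hKW hk)) _).mp (hact a ha k hk)
  rw [show k = (k * n) * n⁻¹ by rw [mul_inv_cancel_right]]
  exact mul_mem (Subgroup.mem_sup_left ⟨mul_mem hk (coreIn_le K hn), hc⟩)
    (Subgroup.mem_sup_right (inv_mem hn))

omit hp in
/-- A surjection with kernel of order prime to `p` induces an isomorphism modulo the `p'`-cores. -/
theorem nonempty_quotient_core_equiv {A B : Type*} [Group A] [Finite A] [Group B] [Finite B]
    (g : A →* B) (hg : Function.Surjective g) (hker : (Nat.card g.ker).Coprime p) :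
    Nonempty (A ⧸ Cfsg.pPrimeCore p A ≃* B ⧸ Cfsg.pPrimeCore p B) := by
  haveI := pPrimeCore_normal (G := A) p
  haveI := pPrimeCore_normal (G := B) p
  set f := (QuotientGroup.mk' (Cfsg.pPrimeCore p B)).comp g
  have hfs : Function.Surjective f := (QuotientGroup.mk'_surjective _).comp hg
  have he : f.ker = Cfsg.pPrimeCore p A := by
    refine le_antisymm ?_ ?_
    · refine le_pPrimeCore inferInstance ?_
      have h1 : Nat.card f.ker = Nat.card g.ker * Nat.card (Cfsg.pPrimeCore p B) := by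
        have a1 : g.ker.relIndex f.ker = Nat.card (Cfsg.pPrimeCore p B) := by
          rw [show f.ker = (Cfsg.pPrimeCore p B).comap g by
              ext a
              exact QuotientGroup.eq_one_iff (g a),
            ← MonoidHom.comap_bot, Subgroup.relIndex_comap,
            Subgroup.map_comap_eq_self_of_surjective hg, Subgroup.relIndex_bot_left]
        rw [← a1, ← Subgroup.relIndex_bot_left, ← Subgroup.relIndex_bot_left,
          Subgroup.relIndex_mul_relIndex _ _ _ bot_le (fun a ha => by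
            rw [MonoidHom.mem_ker] at ha ⊢
            show (QuotientGroup.mk' (Cfsg.pPrimeCore p B)) (g a) = 1
            rw [ha, map_one])]
      rw [h1]
      exact hker.mul_left (pPrimeCore_coprime p)
    · intro a ha
      rw [MonoidHom.mem_ker]
      exact (QuotientGroup.eq_one_iff _).mpr (Core.map_pPrimeCore_le g hg ⟨a, ha, rfl⟩)
  exact ⟨(QuotientGroup.quotientMulEquivOfEq he.symm).trans
    (QuotientGroup.quotientKerEquivOfSurjective f hfs)⟩

/-- A subgroup covering `K / O_{p'}(K)` and generated by its `p`-elements. -/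
theorem restrict_spec {K H U : Subgroup G} (hK : Cfsg.IsPComponentOf p K H) (hU : U ≤ K)
    (hcov : K ≤ U ⊔ coreIn p K) :
    K ≤ pGen p U ⊔ coreIn p K ∧ pGen p (pGen p U) = pGen p U ∧ coreIn p (pGen p U) ≤ coreIn p K ∧
      Cfsg.IsQuasisimple (↥(pGen p U) ⧸ Cfsg.pPrimeCore p ↥(pGen p U)) ∧
      Nonempty (↥(pGen p U) ⧸ Cfsg.pPrimeCore p ↥(pGen p U) ≃* ↥K ⧸ Cfsg.pPrimeCore p ↥K) ∧
      Cfsg.pLayerOf p U = pGen p U := by
  obtain ⟨-, -, -, hq⟩ := isPComponentOf_iff.mp hK
  haveI := pPrimeCore_normal (G := K) p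
  set K' := pGen p U with hK'
  have hK'K : K' ≤ K := (pGen_le U).trans hU
  set π := QuotientGroup.mk' (Cfsg.pPrimeCore p K) with hπ
  have hπs : Function.Surjective π := QuotientGroup.mk'_surjective _
  have hgen : pGen p K' = K' := le_antisymm (pGen_le K')
    (pGen_le_iff.mpr fun x hx k hk => mem_pGen (mem_pGen hx hk) hk)
  have hUtop : (U.subgroupOf K).map π = ⊤ := by
    refine top_le_iff.mp ?_
    rw [← Subgroup.map_top_of_surjective π hπs]
    rintro _ ⟨k, -, rfl⟩
    obtain ⟨u, hu, w, hw, huw⟩ : ∃ u ∈ U, ∃ w ∈ coreIn p K, u * w = (k : G) := by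
      have hk := hcov k.2
      have : (k : G) ∈ ((U ⊔ coreIn p K : Subgroup G) : Set G) := hk
      rw [Subgroup.coe_mul_of_left_le_normalizer_right U _
        (hU.trans (Subgroup.le_normalizer.trans (normalizer_le_normalizer_coreIn K)))] at this
      exact this
    obtain ⟨w', hw', rfl⟩ := hw
    refine ⟨⟨u, hU hu⟩, hu, ?_⟩
    rw [show k = ⟨u, hU hu⟩ * w' from Subtype.ext huw.symm, map_mul,
      show π w' = 1 from (QuotientGroup.eq_one_iff w').mpr hw', mul_one]
  have hd : p ∣ Nat.card (↥K ⧸ Cfsg.pPrimeCore p K) := by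
    have h1 : p ∣ Nat.card K := by
      have := pComponent_dvd_card hK.2
      rwa [Nat.card_congr (Subgroup.subgroupOfEquivOfLe hK.1).toEquiv] at this
    rw [Subgroup.card_eq_card_quotient_mul_card_subgroup (Cfsg.pPrimeCore p K)] at h1
    exact (hp.out.dvd_mul.mp h1).resolve_right
      (hp.out.coprime_iff_not_dvd.mp (pPrimeCore_coprime p).symm)
  have hK'top : (K'.subgroupOf K).map π = ⊤ := by
    have h1 : K'.subgroupOf K = pGen p (U.subgroupOf K) := by
      refine Subgroup.map_injective K.subtype_injective ?_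
      rw [Subgroup.map_subgroupOf_eq_of_le hK'K, pGen_subgroupOf hU]
    rw [h1, map_pGen, hUtop]
    exact quasisimple_normal_eq_top_of_pElements hq hd
      (Subgroup.normalizer_eq_top_iff.mp (top_le_iff.mp
        (le_trans (by rw [Subgroup.normalizer_eq_top]) (normalizer_le_normalizer_pGen ⊤))))
      (fun x k hk => mem_pGen (Subgroup.mem_top x) hk)
  set g : K' →* ↥K ⧸ Cfsg.pPrimeCore p K := π.comp (Subgroup.inclusion hK'K) with hg
  have hgs : Function.Surjective g := by
    intro z
    obtain ⟨k, hk, rfl⟩ := hK'top.ge (Subgroup.mem_top z)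
    exact ⟨⟨k, hk⟩, rfl⟩
  have hgker : (Nat.card g.ker).Coprime p := by
    refine (coreIn_coprime (p := p) K).coprime_dvd_left ?_
    rw [← Subgroup.card_map_of_injective (f := K'.subtype) K'.subtype_injective]
    refine Subgroup.card_dvd_of_le ?_
    rintro _ ⟨z, hz, rfl⟩
    exact ⟨Subgroup.inclusion hK'K z, (QuotientGroup.eq_one_iff _).mp hz, rfl⟩
  obtain ⟨e⟩ := nonempty_quotient_core_equiv (p := p) g hgs hgker
  have hbot : Cfsg.pPrimeCore p (↥K ⧸ Cfsg.pPrimeCore p K) = ⊥ :=
    Core.pPrimeCore_quotient_pPrimeCore p K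
  haveI := pPrimeCore_normal (G := ↥K ⧸ Cfsg.pPrimeCore p K) p
  set e' := e.trans ((QuotientGroup.quotientMulEquivOfEq hbot).trans QuotientGroup.quotientBot)
  refine ⟨?_, hgen, ?_, IsQuasisimple.congr e'.symm hq, ⟨e'⟩, ?_⟩
  · intro k hk
    obtain ⟨u, hu, huk⟩ := hK'top.ge (Subgroup.mem_top (π ⟨k, hk⟩))
    have h1 : u⁻¹ * (⟨k, hk⟩ : K) ∈ Cfsg.pPrimeCore p K := QuotientGroup.eq.mp huk
    rw [show k = (u : G) * ((u⁻¹ * (⟨k, hk⟩ : K) : K) : G) by simp]
    exact mul_mem (Subgroup.mem_sup_left hu) (Subgroup.mem_sup_right ⟨_, h1, rfl⟩)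
  · rintro _ ⟨z, hz, rfl⟩
    refine ⟨Subgroup.inclusion hK'K z, ?_, rfl⟩
    have h1 := Core.map_pPrimeCore_le g hgs ⟨z, hz, rfl⟩
    rw [hbot, Subgroup.mem_bot] at h1
    exact (QuotientGroup.eq_one_iff _).mp h1
  · have hK'U : K' ≤ U := pGen_le U
    have hP : Cfsg.IsPComponent p (K'.subgroupOf U) := by
      refine isPComponent_iff.mpr ⟨((Subgroup.normal_subgroupOf_iff_le_normalizer hK'U).mpr
        (Subgroup.le_normalizer.trans (normalizer_le_normalizer_pGen U))).isSubnormal, ?_, ?_⟩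
      · refine Subgroup.map_injective U.subtype_injective ?_
        rw [pGen_subgroupOf hK'U, hgen, Subgroup.map_subgroupOf_eq_of_le hK'U]
      · rw [isQuasisimple_quotient_core_congr (Subgroup.subgroupOfEquivOfLe hK'U)]
        exact IsQuasisimple.congr e'.symm hq
    refine le_antisymm ?_ ?_
    · rw [Cfsg.pLayerOf, Subgroup.map_le_iff_le_comap]
      refine sSup_le fun L hL => ?_
      rw [← Subgroup.map_le_iff_le_comap, ← pComponent_pGen_eq hL, map_pGen]
      exact pGen_mono (Subgroup.map_subtype_le L)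
    · rw [Cfsg.pLayerOf, ← Subgroup.map_subgroupOf_eq_of_le hK'U]
      exact Subgroup.map_mono (pComponent_le_pLayer hP)

/-- Membership in `C_{C(x)}(K / O_{p'}(K))`. -/
theorem mem_centralizerOfPComponent_iff {x q : G} {K : Subgroup G}
    (hK : Cfsg.IsPComponentOf p K (centralizer ({x} : Set G))) :
    q ∈ Cfsg.centralizerOfPComponent p x K ↔
      q ∈ centralizer ({x} : Set G) ∧ ∀ k ∈ K, q * k * q⁻¹ * k⁻¹ ∈ coreIn p K := by
  constructor
  · rintro ⟨g, hg, rfl⟩
    exact ⟨g.2, fun k hk => Techniques.commutator_mem_core hK hg hk⟩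
  · rintro ⟨hq, h⟩
    refine ⟨⟨q, hq⟩, Techniques.mem_centralizerModCore.mpr fun k hk => ?_, rfl⟩
    obtain ⟨_, h1, -⟩ := (Techniques.core_of_pComponentOf hK).mp (h k hk)
    exact h1

/-- The `p`-component `⟨p`-elements of `C_K(P)⟩` of `C(x) ∩ C(P)`. -/
theorem isPComponentOf_restrict {x : G} {K P : Subgroup G}
    (hK : Cfsg.IsPComponentOf p K (centralizer ({x} : Set G))) (hP : IsPGroup p P)
    (hPD : P ≤ Cfsg.centralizerOfPComponent p x K) :
    K ≤ pGen p (K ⊓ centralizer (P : Set G)) ⊔ coreIn p K ∧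
      Cfsg.IsPComponentOf p (pGen p (K ⊓ centralizer (P : Set G)))
        (centralizer ({x} : Set G) ⊓ centralizer (P : Set G)) ∧
      coreIn p (pGen p (K ⊓ centralizer (P : Set G))) ≤ coreIn p K ∧
      Nonempty (↥(pGen p (K ⊓ centralizer (P : Set G))) ⧸
          Cfsg.pPrimeCore p ↥(pGen p (K ⊓ centralizer (P : Set G))) ≃*
        ↥K ⧸ Cfsg.pPrimeCore p ↥K) ∧
      Cfsg.pLayerOf p (K ⊓ centralizer (P : Set G)) = pGen p (K ⊓ centralizer (P : Set G)) := by
  set U := K ⊓ centralizer (P : Set G) with hU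
  obtain ⟨h1, h2, h3, h4, h5, h6⟩ := restrict_spec hK (inf_le_left : U ≤ K)
    (cover_centralizer hP fun a ha => ((mem_centralizerOfPComponent_iff hK).mp (hPD ha)).2)
  set C := centralizer ({x} : Set G) ⊓ centralizer (P : Set G) with hC
  have hUC : U ≤ C := inf_le_inf_right _ hK.1
  have hUsn : (U.subgroupOf C).IsSubnormal := by
    have he : U.subgroupOf C = K.subgroupOf C := by
      ext z
      exact ⟨fun hz => hz.1, fun hz => ⟨hz, z.2.2⟩⟩
    rw [he]
    exact subnormal_subgroupOf_mono inf_le_left hK.2.1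
  refine ⟨h1, isPComponentOf_iff.mpr ⟨(pGen_le U).trans hUC, ?_, h2, h4⟩, h3, h5, h6⟩
  exact subnormal_subgroupOf_trans (pGen_le U) hUC
    ((Subgroup.normal_subgroupOf_iff_le_normalizer (pGen_le U)).mpr
      (Subgroup.le_normalizer.trans (normalizer_le_normalizer_pGen U))).isSubnormal hUsn

end CfsgLib.Components
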