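import Cfsg.Agent.Lib.Components.CyclicSylowSimple
import Cfsg.Agent.Lib.Core.UniqueOrderP

/-!
# Nilpotent groups with cyclic centralizers of noncentral elements (S4370)
-/

set_option autoImplicit false
set_option linter.style.haveILetI false

namespace CfsgLib.CyclicCent

open Subgroup
open scoped IsMulCommutative

theorem zmod_half {n : ℕ} [NeZero n] {j : ZMod (2 * n)} (h : j + j = 0) :
    j = 0 ∨ j = (n : ZMod (2 * n)) := by
  have hlt := ZMod.val_lt j
  have h2 : ((2 * j.val : ℕ) : ZMod (2 * n)) = 0 := by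
    push_cast
    rw [ZMod.natCast_zmod_val]
    exact (two_mul j).trans h
  obtain ⟨k, hk⟩ := (ZMod.natCast_eq_zero_iff _ _).mp h2
  have hk2 : k = 0 ∨ k = 1 := by
    rcases k with _ | _ | k
    · exact Or.inl rfl
    · exact Or.inr rfl
    · exfalso
      rw [mul_assoc] at hk
      have h1 : j.val = n * (k + 1 + 1) := Nat.eq_of_mul_eq_mul_left two_pos hk
      nlinarith
  rcases hk2 with rfl | rfl
  · left
    rw [← ZMod.natCast_zmod_val j, show j.val = 0 by omega, Nat.cast_zero]
  · right
    rw [← ZMod.natCast_zmod_val j, show j.val = n by omega]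

open QuaternionGroup in
theorem quaternion_centralizer {n : ℕ} [NeZero n] {q : QuaternionGroup n}
    (hq : q ∉ center (QuaternionGroup n)) :
    ∃ g : QuaternionGroup n, ∀ y, Commute y q → y ∈ zpowers g := by
  rcases q with i | i
  · refine ⟨a 1, fun y hy => ?_⟩
    rcases y with j | j
    · refine ⟨(j.val : ℤ), ?_⟩
      simp only [zpow_natCast, a_one_pow, ZMod.natCast_zmod_val]
    · exfalso
      have h : j + i = j - i := by
        have := hy.eq
        rw [xa_mul_a, a_mul_xa] at this
        exact QuaternionGroup.xa.inj this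
      refine hq (mem_center_iff.mpr fun g => ?_)
      have hi : i + i = 0 := by
        rw [sub_eq_add_neg, add_right_inj] at h
        rw [eq_neg_iff_add_eq_zero] at h
        exact h
      have hneg : -i = i := neg_eq_iff_add_eq_zero.mpr hi
      rcases g with k | k
      · rw [a_mul_a, a_mul_a, add_comm]
      · rw [xa_mul_a, a_mul_xa, sub_eq_add_neg, hneg]
  · refine ⟨xa i, fun y hy => ?_⟩
    have hn2 : xa i * xa i = (a n : QuaternionGroup n) := by rw [← pow_two, xa_sq]
    rcases y with j | j
    · have h : i - j = i + j := by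
        have := hy.eq
        rw [xa_mul_a, a_mul_xa] at this
        exact QuaternionGroup.xa.inj this
      have hj : j + j = 0 := by
        rw [sub_eq_add_neg, add_right_inj, neg_eq_iff_add_eq_zero] at h
        exact h
      rcases zmod_half hj with rfl | rfl
      · rw [a_zero]; exact one_mem _
      · rw [← hn2]; exact mul_mem (mem_zpowers _) (mem_zpowers _)
    · have h : (n : ZMod (2 * n)) + i - j = n + j - i := by
        have := hy.eq
        rw [xa_mul_xa, xa_mul_xa] at this
        exact QuaternionGroup.a.inj this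
      have hj : (j - i) + (j - i) = 0 := by
        have h' : i - j = j - i := by
          rw [add_sub_assoc, add_sub_assoc, add_right_inj] at h
          exact h
        nth_rewrite 2 [← h']
        abel
      rcases zmod_half hj with h' | h'
      · rw [show j = i from sub_eq_zero.mp h']; exact mem_zpowers _
      · have : (xa j : QuaternionGroup n) = a n * xa i * 1 * (a n * a n) := by
          rw [mul_one, a_mul_a, a_mul_xa, xa_mul_a]
          congr 1
          rw [show j = i + n by rw [← h']; abel]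
          abel
        rw [this, ← hn2]
        exact mul_mem (mul_mem (mul_mem (mul_mem (mem_zpowers _) (mem_zpowers _)) (mem_zpowers _))
          (one_mem _)) (mul_mem (mul_mem (mem_zpowers _) (mem_zpowers _))
            (mul_mem (mem_zpowers _) (mem_zpowers _)))

theorem cyclic_centralizer_of_equiv {G : Type*} [Group G] [Finite G] {k m : ℕ}
    (hm : Odd m) (e : G ≃* QuaternionGroup (2 ^ k) × Multiplicative (ZMod m))
    {x : G} (hx : x ∉ center G) : IsCyclic (centralizer ({x} : Set G)) := by
  haveI : NeZero (2 ^ k) := ⟨(Nat.two_pow_pos k).ne'⟩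
  haveI : NeZero m := ⟨hm.pos.ne'⟩
  have hq : (e x).1 ∉ center (QuaternionGroup (2 ^ k)) := by
    intro h
    refine hx (mem_center_iff.mpr fun g => e.injective ?_)
    rw [map_mul, map_mul]
    exact Prod.ext (mem_center_iff.mp h _) (mul_comm _ _)
  obtain ⟨g, hg⟩ := quaternion_centralizer hq
  obtain ⟨c, hc⟩ := IsCyclic.exists_generator (α := Multiplicative (ZMod m))
  set w : QuaternionGroup (2 ^ k) × Multiplicative (ZMod m) := (g, c)
  have hog : orderOf g ∣ 2 ^ (k + 2) := by
    refine (orderOf_dvd_natCard g).trans (dvd_of_eq ?_)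
    rw [Nat.card_eq_fintype_card, QuaternionGroup.card, pow_add]
    ring
  have hoc : orderOf c = m := by
    rw [orderOf_eq_card_of_forall_mem_zpowers hc, Nat.card_eq_of_equiv_fin
      (Multiplicative.toAdd.trans (ZMod.finEquiv m).toEquiv.symm)]
  have hcop : (orderOf g).Coprime (orderOf c) :=
    Nat.Coprime.coprime_dvd_left hog (by rw [hoc]; exact (hm.coprime_two_left).pow_left _)
  have h1 : (g, (1 : Multiplicative (ZMod m))) ∈ zpowers w := by
    refine CfsgLib.Components.mem_of_pow_coprime hcop ?_ ?_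
    · rw [Prod.pow_mk, pow_orderOf_eq_one, one_pow]
      exact one_mem _
    · rw [Prod.pow_mk, one_pow]
      exact ⟨(orderOf c : ℤ), by simp [w, Prod.pow_mk, pow_orderOf_eq_one]⟩
  have h2 : ((1 : QuaternionGroup (2 ^ k)), c) ∈ zpowers w := by
    have : ((1 : QuaternionGroup (2 ^ k)), c) = (g, (1 : Multiplicative (ZMod m)))⁻¹ * w := by
      simp [w]
    rw [this]
    exact mul_mem (inv_mem h1) (mem_zpowers w)
  haveI : IsCyclic ↥((zpowers w).map e.symm.toMonoidHom) := by
    rw [MonoidHom.map_zpowers]; infer_instance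
  refine Subgroup.isCyclic_of_le (H' := (zpowers w).map e.symm.toMonoidHom) (fun y hy => ?_)
  refine ⟨e y, ?_, e.symm_apply_apply y⟩
  obtain ⟨i, hi⟩ := hg (e y).1 (by
    have h := congrArg e (mem_centralizer_singleton_iff.mp hy)
    rw [map_mul, map_mul] at h
    exact congrArg Prod.fst h)
  obtain ⟨j, hj⟩ := hc (e y).2
  simp only at hi hj
  have : e y = (g, (1 : Multiplicative (ZMod m))) ^ i * ((1 : QuaternionGroup (2 ^ k)), c) ^ j := by
    refine Prod.ext ?_ ?_
    · simp [← hi]
    · simp [← hj]
  rw [SetLike.mem_coe, this]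
  exact mul_mem (zpow_mem h1 i) (zpow_mem h2 j)

theorem exists_equiv_of_cyclic_centralizers {G : Type*} [Group G] [Finite G]
    (hG : Group.IsNilpotent G) (hna : ¬ IsMulCommutative G)
    (h : ∀ x : G, x ∉ center G → IsCyclic (centralizer ({x} : Set G))) :
    ∃ (k m : ℕ), 1 ≤ k ∧ Odd m ∧
      Nonempty (G ≃* QuaternionGroup (2 ^ k) × Multiplicative (ZMod m)) := by
  haveI := hG
  obtain ⟨x, hx⟩ : ∃ x : G, x ∉ center G := by
    by_contra hne
    push Not at hne
    exact hna ⟨⟨fun a b => mem_center_iff.mp (hne b) a⟩⟩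
  have hnormal : ∀ (q : ℕ) [Fact q.Prime] (Q : Sylow q G), (Q : Subgroup G).Normal := fun q _ Q =>
    Sylow.normal_of_normalizerCondition Group.normalizerCondition_of_isNilpotent Q
  -- a Sylow subgroup with a noncentral element
  obtain ⟨p, hp, P, y, hyP, hy⟩ : ∃ (p : ℕ) (_ : Fact p.Prime) (P : Sylow p G),
      ∃ y ∈ (P : Subgroup G), y ∉ center G := by
    by_contra hne
    push Not at hne
    refine hx ?_
    have : center G = ⊤ := by
      refine eq_top_of_card_eq _ (Nat.dvd_antisymm (card_subgroup_dvd_card _)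
        ((Nat.dvd_iff_prime_pow_dvd_dvd _ _).mpr fun q a hq hqa => ?_))
      haveI := Fact.mk hq
      obtain ⟨Q⟩ := Sylow.nonempty (p := q) (G := G)
      refine (((hq.coprime_iff_not_dvd.mpr Q.not_dvd_index).pow_left a).dvd_of_dvd_mul_right
        (by rwa [card_mul_index (Q : Subgroup G)])).trans ?_
      exact card_dvd_of_le fun u hu => hne q ⟨hq⟩ Q u hu
    rw [this]; exact mem_top x
  haveI := hp
  haveI hPn := hnormal p P
  set M := Cfsg.pPrimeCore p G with hM
  have hMcop : (Nat.card M).Coprime p := CfsgLib.Core.coprime_card_pPrimeCore p G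
  obtain ⟨a, ha⟩ := IsPGroup.iff_card.mp P.isPGroup'
  have hdis : Disjoint (P : Subgroup G) M :=
    Subgroup.disjoint_of_coprime_natCard (ha ▸ (hMcop.symm.pow_left a))
  have hcomm : ∀ u ∈ (P : Subgroup G), ∀ v ∈ M, Commute u v := fun u hu v hv =>
    Subgroup.commute_of_normal_of_disjoint _ _ hPn inferInstance hdis u v hu hv
  have hsup : (P : Subgroup G) ⊔ M = ⊤ := by
    refine eq_top_of_card_eq _ (Nat.dvd_antisymm (card_subgroup_dvd_card _)
      ((Nat.dvd_iff_prime_pow_dvd_dvd _ _).mpr fun q b hq hqb => ?_))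
    haveI := Fact.mk hq
    obtain ⟨Q⟩ := Sylow.nonempty (p := q) (G := G)
    refine (((hq.coprime_iff_not_dvd.mpr Q.not_dvd_index).pow_left b).dvd_of_dvd_mul_right
      (by rwa [card_mul_index (Q : Subgroup G)])).trans (card_dvd_of_le ?_)
    by_cases hqp : q = p
    · subst hqp
      haveI := Sylow.unique_of_normal P hPn
      rw [Subsingleton.elim Q P]
      exact le_sup_left
    · refine le_trans ?_ le_sup_right
      haveI := hnormal q Q
      refine CfsgLib.Core.le_pPrimeCore ?_
      obtain ⟨c, hc⟩ := IsPGroup.iff_card.mp Q.isPGroup'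
      rw [hc]
      exact ((Nat.coprime_primes hq hp.out).mpr hqp).pow_left c
  have hMy : M ≤ centralizer ({y} : Set G) := fun v hv =>
    mem_centralizer_singleton_iff.mpr (hcomm y hyP v hv).symm.eq
  haveI := h y hy
  haveI hMc : IsCyclic M := Subgroup.isCyclic_of_le hMy
  -- unique subgroup of order `p` in `P`
  haveI : Nontrivial (P : Subgroup G) := ⟨⟨⟨y, hyP⟩, 1, fun e =>
    hy (by rw [show y = 1 from congrArg Subtype.val e]; exact one_mem _)⟩⟩
  obtain ⟨z, hzc, hzo⟩ : ∃ z : (P : Subgroup G), z ∈ center (P : Subgroup G) ∧ orderOf z = p := by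
    haveI := P.isPGroup'.center_nontrivial
    obtain ⟨j, hj0, hj⟩ := ((P.isPGroup'.to_subgroup
      (center (P : Subgroup G))).nontrivial_iff_card).mp inferInstance
    obtain ⟨⟨c, hc⟩, hco⟩ := exists_prime_orderOf_dvd_card' p
      (hj ▸ dvd_pow_self p hj0.ne' : p ∣ Nat.card (center (P : Subgroup G)))
    exact ⟨c, hc, by rwa [Subgroup.orderOf_mk] at hco⟩
  have hzG : ∀ g : G, Commute (z : G) g := by
    intro g
    obtain ⟨u, hu, v, hv, rfl⟩ := mem_sup_of_normal_left.mp (hsup ▸ mem_top g : g ∈ (P : Subgroup G) ⊔ M)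
    exact Commute.mul_right (congrArg Subtype.val (mem_center_iff.mp hzc ⟨u, hu⟩)).symm
      (hcomm _ z.2 v hv)
  have huniq : ∀ u : (P : Subgroup G), orderOf u = p → zpowers u = zpowers z := by
    intro u hu
    obtain ⟨w, hw, hwu⟩ : ∃ w : G, w ∉ center G ∧ Commute w (u : G) := by
      by_cases huc : (u : G) ∈ center G
      · exact ⟨x, hx, mem_center_iff.mp huc x⟩
      · exact ⟨u, huc, Commute.refl _⟩
    haveI := h w hw
    have := CfsgLib.Components.zpowers_eq_of_isCyclic (S := centralizer ({w} : Set G))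
      (mem_centralizer_singleton_iff.mpr hwu.symm.eq)
      (mem_centralizer_singleton_iff.mpr (hzG w).eq)
      (by rw [Subgroup.orderOf_coe, Subgroup.orderOf_coe, hu, hzo])
    apply map_injective (P : Subgroup G).subtype_injective
    rwa [MonoidHom.map_zpowers, MonoidHom.map_zpowers]
  have hPna : ¬ IsCyclic (P : Subgroup G) := by
    intro hcy
    refine hy (mem_center_iff.mpr fun g => ?_)
    obtain ⟨u, hu, v, hv, rfl⟩ := mem_sup_of_normal_left.mp (hsup ▸ mem_top g : g ∈ (P : Subgroup G) ⊔ M)
    exact (Commute.mul_left (congrArg Subtype.val (mul_comm' (⟨u, hu⟩ : (P : Subgroup G)) ⟨y, hyP⟩))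
      (hcomm y hyP v hv).symm).eq
  rcases CfsgLib.Core.UniqueOrderP.isCyclic_or_quaternion_of_unique P.isPGroup' (fun A B hA hB => by
      have key : ∀ A : Subgroup (P : Subgroup G), Nat.card A = p → A = zpowers z := by
        intro A hA
        obtain ⟨⟨u, huA⟩, huo⟩ := exists_prime_orderOf_dvd_card' (G := A) p (by rw [hA])
        rw [Subgroup.orderOf_mk] at huo
        rw [← huniq u huo]
        exact (eq_of_le_of_card_ge (zpowers_le.mpr huA) (by rw [Nat.card_zpowers, huo, hA])).symm
      rw [key A hA, key B hB]) with hcy | ⟨hp2, k, ⟨eP⟩⟩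
  · exact absurd hcy hPna
  refine ⟨k, Nat.card M, ?_, ?_, ?_⟩
  · by_contra hk
    push Not at hk
    interval_cases k
    rw [pow_zero] at eP
    exact hPna (eP.isCyclic.mpr QuaternionGroup.quaternionGroup_one_isCyclic)
  · rw [hp2] at hMcop
    exact Nat.coprime_two_right.mp hMcop
  · let f : ↥(P : Subgroup G) × ↥M →* G := MonoidHom.noncommCoprod (P : Subgroup G).subtype M.subtype
      fun u v => hcomm u u.2 v v.2
    have hf : Function.Bijective f := by
      constructor
      · rw [← MonoidHom.ker_eq_bot_iff, eq_bot_iff]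
        rintro ⟨⟨u, hu⟩, ⟨v, hv⟩⟩ huv
        have huv' : u * v = 1 := huv
        have hu1 : u = 1 := mem_bot.mp (hdis.le_bot (mem_inf.mpr ⟨hu, by
          rw [eq_inv_of_mul_eq_one_left huv']; exact inv_mem hv⟩))
        subst hu1
        rw [one_mul] at huv'
        simp [huv']
      · intro g
        obtain ⟨u, hu, v, hv, rfl⟩ :=
          mem_sup_of_normal_left.mp (hsup ▸ mem_top g : g ∈ (P : Subgroup G) ⊔ M)
        exact ⟨(⟨u, hu⟩, ⟨v, hv⟩), rfl⟩
    exact ⟨(MulEquiv.ofBijective f hf).symm.trans
      (eP.prodCongr (zmodCyclicMulEquiv hMc).symm)⟩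

end CfsgLib.CyclicCent
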