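import Cfsg.Agent.Lib.Components.UniqueComponent
import Cfsg.Agent.Lib.Components.PLayer
import Cfsg.Agent.Lib.ClassSizes.CyclicSylow

/-!
# Cyclic Sylow subgroups in groups with `O_{p'} = 1` (S4403)

* `isCyclic_of_pGroup`, `zpowers_eq_of_commute`: consequences of one cyclic Sylow subgroup;
* `normalizer_le_centralizer_of_fix`, `exists_moving`, `zpow_sub_mem`;
* `cyclic_sylow_dichotomy`.
-/

set_option autoImplicit false
set_option linter.style.haveILetI false

namespace CfsgLib.Components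

open Subgroup
open CfsgLib.Signalizer
open scoped commutatorElement Pointwise

variable {G : Type*} [Group G] [Finite G] {p : ℕ} [hp : Fact p.Prime]

omit [Finite G] hp in
theorem mem_of_pow_coprime {H : Subgroup G} {g : G} {a b : ℕ} (hab : a.Coprime b) (ha : g ^ a ∈ H)
    (hb : g ^ b ∈ H) : g ∈ H := by
  have h : g = (g ^ a) ^ (Nat.gcdA a b) * (g ^ b) ^ (Nat.gcdB a b) := by
    rw [← zpow_natCast g a, ← zpow_natCast g b, ← zpow_mul, ← zpow_mul, ← zpow_add,
      ← Nat.gcd_eq_gcd_ab, Nat.coprime_iff_gcd_eq_one.mp hab, Nat.cast_one, zpow_one]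
  rw [h]
  exact mul_mem (zpow_mem ha _) (zpow_mem hb _)

theorem isCyclic_of_pGroup (P : Sylow p G) [IsCyclic (P : Subgroup G)] {S : Subgroup G}
    (hS : IsPGroup p S) : IsCyclic S := by
  obtain ⟨Q, hQ⟩ := hS.exists_le_sylow
  haveI : IsCyclic (Q : Subgroup G) := (P.equiv Q).isCyclic.mp inferInstance
  exact Subgroup.isCyclic_of_le hQ

omit [Finite G] hp in
theorem isPGroup_zpowers_of_orderOf {g : G} {k : ℕ} (h : orderOf g = p ^ k) :
    IsPGroup p (zpowers g) := by
  exact IsPGroup.of_card (n := k) (by rw [Nat.card_zpowers, h])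

omit [Finite G] hp in
theorem zpowers_eq_of_isCyclic {S : Subgroup G} [IsCyclic S] [Finite S] {a b : G} (ha : a ∈ S)
    (hb : b ∈ S) (h : orderOf a = orderOf b) : zpowers a = zpowers b := by
  classical
  haveI := Fintype.ofFinite S
  set n := orderOf b with hn
  have hn0 : 0 < n := by
    rw [hn, ← Subgroup.orderOf_mk (H := S) b hb]
    exact orderOf_pos _
  have key : ∀ c : S, orderOf c = n → (zpowers c : Set S).toFinset =
      Finset.univ.filter (fun s : S => s ^ n = 1) := by
    intro c hc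
    refine Finset.eq_of_subset_of_card_le (fun s hs => ?_) ?_
    · obtain ⟨k, rfl⟩ := Set.mem_toFinset.mp hs
      simp only [Finset.mem_filter, Finset.mem_univ, true_and]
      rw [← zpow_natCast, ← zpow_mul, mul_comm, zpow_mul, zpow_natCast, ← hc, pow_orderOf_eq_one,
        one_zpow]
    · refine (IsCyclic.card_pow_eq_one_le hn0).trans ?_
      rw [Set.toFinset_card, ← Nat.card_eq_fintype_card]
      change n ≤ Nat.card (zpowers c)
      rw [Nat.card_zpowers, hc]
  have h1 := (key ⟨a, ha⟩ (by rw [Subgroup.orderOf_mk, h])).trans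
    (key ⟨b, hb⟩ (by rw [Subgroup.orderOf_mk])).symm
  have h2 : zpowers (⟨a, ha⟩ : S) = zpowers ⟨b, hb⟩ := SetLike.ext' (Set.toFinset_inj.mp h1)
  have h3 := congrArg (Subgroup.map S.subtype) h2
  rwa [MonoidHom.map_zpowers, MonoidHom.map_zpowers] at h3

theorem zpowers_eq_of_commute (P : Sylow p G) [IsCyclic (P : Subgroup G)] {a b : G}
    (ha : orderOf a = p) (hb : orderOf b = p) (hab : Commute a b) : zpowers a = zpowers b := by
  have hA : IsPGroup p (zpowers a) := isPGroup_zpowers_of_orderOf (k := 1) (by rw [ha, pow_one])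
  have hB : IsPGroup p (zpowers b) := isPGroup_zpowers_of_orderOf (k := 1) (by rw [hb, pow_one])
  have hle : zpowers b ≤ normalizer (zpowers a : Set G) := by
    refine (Subgroup.zpowers_le.mpr ?_).trans (centralizer_le_normalizer (zpowers a : Set G))
    intro y hy
    obtain ⟨k, rfl⟩ := hy
    exact (hab.zpow_left k)
  haveI := isCyclic_of_pGroup P (hA.to_sup_of_normal_left' hB hle)
  exact zpowers_eq_of_isCyclic (le_sup_left (b := zpowers b) (mem_zpowers a))
    (le_sup_right (a := zpowers a) (mem_zpowers b)) (ha.trans hb.symm)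

/-- If `N(P)` centralizes the elements of order `p` of the cyclic Sylow subgroup `P`, it centralizes `P`. -/
theorem mem_centralizer_of_fix (P : Sylow p G) [IsCyclic (P : Subgroup G)] {n : G}
    (hn : n ∈ normalizer ((P : Subgroup G) : Set G))
    (hfix : ∀ w ∈ (P : Subgroup G), orderOf w = p → Commute n w) :
    n ∈ centralizer ((P : Subgroup G) : Set G) := by
  obtain ⟨a, m, hm, hord⟩ :=
    Nat.exists_eq_pow_mul_and_not_dvd (orderOf_pos n).ne' p hp.out.ne_one
  have hcop : (p ^ a).Coprime m := ((hp.out.coprime_iff_not_dvd).mpr hm).pow_left a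
  refine mem_of_pow_coprime hcop ?_ ?_
  · have hdvd : orderOf (n ^ p ^ a) ∣ m :=
      orderOf_dvd_of_pow_eq_one (by rw [← pow_mul, ← hord, pow_orderOf_eq_one])
    have hc : (orderOf (n ^ p ^ a)).Coprime p :=
      Nat.Coprime.coprime_dvd_left hdvd ((hp.out.coprime_iff_not_dvd).mpr hm).symm
    have h := CfsgLib.ClassSizes.CyclicSylow.commute_of_fix P.isPGroup' (pow_mem hn _) hc
      (fun w hw hwo => (hfix w hw hwo).pow_left _)
    exact mem_centralizer_iff.mpr fun s hs => ((h s hs).symm).eq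
  · have hu : IsPGroup p (zpowers (n ^ m)) := by
      rw [IsPGroup.iff_card]
      rw [Nat.card_zpowers]
      have hdvd : orderOf (n ^ m) ∣ p ^ a :=
        orderOf_dvd_of_pow_eq_one (by rw [← pow_mul, mul_comm, ← hord, pow_orderOf_eq_one])
      obtain ⟨k, -, hk⟩ := (Nat.dvd_prime_pow hp.out).mp hdvd
      exact ⟨k, hk⟩
    have hmem : n ^ m ∈ zpowers (n ^ m) ⊓ (P : Subgroup G) := by
      rw [← IsPGroup.inf_normalizer_sylow hu P]
      exact ⟨mem_zpowers _, pow_mem hn _⟩
    exact mem_centralizer_iff.mpr fun s hs =>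
      congrArg Subtype.val (mul_comm' (⟨s, hs⟩ : (P : Subgroup G)) ⟨n ^ m, hmem.2⟩)

theorem normalizer_le_centralizer_of_fix (P : Sylow p G) [IsCyclic (P : Subgroup G)]
    (h : ∀ n ∈ normalizer ((P : Subgroup G) : Set G), ∀ w ∈ (P : Subgroup G), orderOf w = p →
      Commute n w) :
    normalizer ((P : Subgroup G) : Set G) ≤ centralizer ((P : Subgroup G) : Set G) :=
  fun n hn => mem_centralizer_of_fix P hn (h n hn)

/-- In a perfect group some element moves an element of order `p` of a cyclic Sylow subgroup. -/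
theorem exists_moving (hperf : commutator G = ⊤) (hdvd : p ∣ Nat.card G) (P : Sylow p G)
    [IsCyclic (P : Subgroup G)] :
    ∃ n ∈ normalizer ((P : Subgroup G) : Set G), ∃ w ∈ (P : Subgroup G),
      orderOf w = p ∧ ¬ Commute n w := by
  by_contra hne
  push Not at hne
  have hc := normalizer_le_centralizer_of_fix P hne
  have hcompl := MonoidHom.ker_transferSylow_isComplement' P hc
  have hker : (MonoidHom.transferSylow P hc).ker = ⊤ := by
    rw [eq_top_iff, ← hperf, commutator_def, Subgroup.commutator_le]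
    intro x _ y _
    rw [MonoidHom.mem_ker, map_commutatorElement, commutatorElement_eq_one_iff_mul_comm]
    exact mul_comm' _ _
  have hd := hcompl.disjoint
  rw [hker, top_disjoint] at hd
  exact P.ne_bot_of_dvd_card hdvd hd

/-- With `N(P) = C(P)`, conjugation acts trivially on `P` modulo any normal subgroup. -/
theorem zpow_sub_mem (P : Sylow p G) [IsCyclic (P : Subgroup G)]
    (h : normalizer ((P : Subgroup G) : Set G) ≤ centralizer ((P : Subgroup G) : Set G))
    (M : Subgroup G) [M.Normal] {x c : G} (hx : x ∈ (P : Subgroup G)) (i : ℤ)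
    (hc : c⁻¹ * x * c * (x ^ i)⁻¹ ∈ M) : x ^ (1 - i) ∈ M := by
  set f := MonoidHom.transferSylow P h with hf
  have hinj : ∀ u ∈ (P : Subgroup G), ∀ v ∈ (P : Subgroup G), f u = f v → u = v := by
    intro u hu v hv e
    have hk : u * v⁻¹ ∈ f.ker ⊓ (P : Subgroup G) :=
      Subgroup.mem_inf.mpr ⟨by rw [MonoidHom.mem_ker, map_mul, map_inv, e, mul_inv_cancel],
        mul_mem hu (inv_mem hv)⟩
    rw [(MonoidHom.ker_transferSylow_isComplement' P h).disjoint.eq_bot, mem_bot,
      mul_inv_eq_one] at hk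
    exact hk
  have himg : ∀ y ∈ M, f y ∈ ((P : Subgroup G) ⊓ M).map f := by
    intro y hy
    obtain ⟨a, m, hm, hord⟩ :=
      Nat.exists_eq_pow_mul_and_not_dvd (orderOf_pos y).ne' p hp.out.ne_one
    obtain ⟨k, hk⟩ := P.isPGroup' (f y)
    have hcop : (p ^ k).Coprime m := ((hp.out.coprime_iff_not_dvd).mpr hm).pow_left k
    refine mem_of_pow_coprime hcop (by rw [hk]; exact one_mem _) ?_
    have hu : IsPGroup p (zpowers (y ^ m)) := by
      rw [IsPGroup.iff_card, Nat.card_zpowers]
      have hdvd : orderOf (y ^ m) ∣ p ^ a :=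
        orderOf_dvd_of_pow_eq_one (by rw [← pow_mul, mul_comm, ← hord, pow_orderOf_eq_one])
      obtain ⟨j, -, hj⟩ := (Nat.dvd_prime_pow hp.out).mp hdvd
      exact ⟨j, hj⟩
    obtain ⟨Q, hQ⟩ := hu.exists_le_sylow
    obtain ⟨g, hg⟩ := MulAction.exists_smul_eq G Q P
    have hq : g * y ^ m * g⁻¹ ∈ (P : Subgroup G) := by
      rw [← hg, Sylow.coe_subgroup_smul]
      exact ⟨y ^ m, hQ (mem_zpowers _), by simp⟩
    refine ⟨g * y ^ m * g⁻¹, ⟨hq, Subgroup.Normal.conj_mem inferInstance _ (pow_mem hy m) g⟩, ?_⟩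
    rw [map_mul, map_mul, map_inv, mul_comm' (f g), mul_assoc, mul_inv_cancel, mul_one, map_pow]
  obtain ⟨q, ⟨hqP, hqM⟩, e⟩ := himg _ hc
  have e' : f q = f (x ^ (1 - i)) := by
    rw [e, map_mul, map_mul, map_mul, map_inv, map_inv, map_zpow, map_zpow, sub_eq_add_neg,
      zpow_add, zpow_one, zpow_neg]
    rw [mul_comm' ((f c)⁻¹) (f x), mul_assoc (f x), inv_mul_cancel, mul_one]
  rw [← hinj q hqP _ (zpow_mem hx _) e']
  exact hqM

/-- The Sylow subgroup is normal when `O_p ≠ 1` forces `F* = O_p`. -/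
theorem cyclic_sylow_of_layer_eq_bot (hO : Cfsg.pPrimeCore p G = ⊥) (P : Sylow p G)
    [IsCyclic (P : Subgroup G)] (hL : Cfsg.layer G = ⊥) :
    (P : Subgroup G).Normal ∧ centralizer ((P : Subgroup G) : Set G) = (P : Subgroup G) := by
  have hC := centralizer_fitting_le_of_layer_eq_bot hL
  rw [fitting_eq_pCore_of_core_bot hO] at hC
  have hPC : (P : Subgroup G) ≤ centralizer (Cfsg.pCore p G : Set G) := by
    intro u hu
    exact mem_centralizer_iff.mpr fun s hs => congrArg Subtype.val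
      (mul_comm' (⟨s, Core.pCore_le_sylow P hs⟩ : (P : Subgroup G)) ⟨u, hu⟩)
  have hPeq : (P : Subgroup G) = Cfsg.pCore p G :=
    le_antisymm (hPC.trans hC) (Core.pCore_le_sylow P)
  refine ⟨hPeq ▸ inferInstance, le_antisymm ?_ ?_⟩
  · rw [hPeq]; exact hC
  · intro u hu
    exact mem_centralizer_iff.mpr fun s hs => congrArg Subtype.val
      (mul_comm' (⟨s, hs⟩ : (P : Subgroup G)) ⟨u, hu⟩)

theorem exists_moving_component {L : Subgroup G} (hL : Cfsg.IsComponent L)
    (hO : Cfsg.pPrimeCore p G = ⊥) (P : Sylow p G) [IsCyclic (P : Subgroup G)] (Q : Sylow p L) :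
    p ∣ Nat.card L ∧ IsCyclic (Q : Subgroup L) ∧ ∃ n ∈ normalizer ((Q : Subgroup L) : Set L),
      ∃ w ∈ (Q : Subgroup L), orderOf w = p ∧ ¬ Commute n w := by
  have hdvd : p ∣ Nat.card L := by
    by_contra hnd
    have h := (pPrimeCore_subnormal p hL.1)
    have htop : Cfsg.pPrimeCore p L = ⊤ := top_le_iff.mp (le_sSup ⟨inferInstance, by
      rw [Subgroup.card_top]; exact ((hp.out.coprime_iff_not_dvd).mpr hnd).symm⟩)
    rw [htop, hO, bot_inf_eq, ← MonoidHom.range_eq_map, Subgroup.range_subtype] at h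
    exact IsComponent.ne_bot hL h
  haveI hmapcyc : IsCyclic ((Q : Subgroup L).map L.subtype) :=
    isCyclic_of_pGroup P (Q.isPGroup'.map _)
  haveI hQc : IsCyclic (Q : Subgroup L) :=
    (Subgroup.equivMapOfInjective _ L.subtype L.subtype_injective).isCyclic.mpr hmapcyc
  exact ⟨hdvd, hQc, exists_moving hL.2.1.commutator_eq_top hdvd Q⟩

/-- Commuting subgroups cannot both contain elements of order `p` when one is a component. -/
theorem false_of_commutes {L : Subgroup G} (hL : Cfsg.IsComponent L)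
    (hO : Cfsg.pPrimeCore p G = ⊥) (P : Sylow p G) [IsCyclic (P : Subgroup G)] {z : G}
    (hz : orderOf z = p) (hzL : ∀ l ∈ L, Commute z l) : False := by
  obtain ⟨Q⟩ := Sylow.nonempty (p := p) (G := L)
  obtain ⟨-, -, n, -, w, -, hw, hnw⟩ := exists_moving_component hL hO P Q
  have hw' : orderOf (w : G) = p := by rwa [Subgroup.orderOf_coe]
  have h : (w : G) ∈ zpowers z := by
    rw [zpowers_eq_of_commute P hz hw' (hzL _ w.2)]
    exact mem_zpowers _
  obtain ⟨k, hk⟩ := h
  refine hnw (Subtype.ext ?_)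
  show (n : G) * w = w * n
  simp only at hk
  rw [← hk]
  exact (((hzL _ n.2).symm).zpow_right k).eq

omit hp [Finite G] in
theorem centralizer_zpowers_eq_singleton (a : G) :
    centralizer (zpowers a : Set G) = centralizer ({a} : Set G) := by
  rw [zpowers_eq_closure, centralizer_closure]

/-- The index of `F*(G)` is prime to `p` when `F*(G)` is a component. -/
theorem not_dvd_index_component {J : Subgroup G} (hJ : Cfsg.IsComponent J) [J.Normal]
    (hO : Cfsg.pPrimeCore p G = ⊥) (P : Sylow p G) [IsCyclic (P : Subgroup G)] :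
    ¬ p ∣ J.index := by
  obtain ⟨Q⟩ := Sylow.nonempty (p := p) (G := J)
  obtain ⟨-, hQc, n, hn, w, hwQ, hw, hnw⟩ := exists_moving_component hJ hO P Q
  obtain ⟨P', hP'⟩ := (Q.isPGroup'.map J.subtype).exists_le_sylow
  haveI : IsCyclic (P' : Subgroup G) := (P.equiv P').isCyclic.mp inferInstance
  set z : G := (w : G) with hzdef
  have hz : orderOf z = p := by rw [hzdef, Subgroup.orderOf_coe]; exact hw
  have hzP : z ∈ (P' : Subgroup G) := hP' ⟨w, hwQ, rfl⟩
  have hnz : (n : G) * z * (n : G)⁻¹ ∈ zpowers z := by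
    have hq : n * w * n⁻¹ ∈ (Q : Subgroup J) := (mem_normalizer_iff.1 hn w).1 hwQ
    have ho : orderOf (n * w * n⁻¹) = orderOf w := by
      rw [← MulAut.conj_apply, MulEquiv.orderOf_eq]
    have := mem_zpowers (n * w * n⁻¹)
    rw [zpowers_eq_of_isCyclic hq hwQ ho] at this
    obtain ⟨k, hk⟩ := this
    exact ⟨k, congrArg Subtype.val hk⟩
  set C : Subgroup G := centralizer ({z} : Set G) with hCdef
  have hPC : (P' : Subgroup G) ≤ C := fun u hu => mem_centralizer_singleton_iff.mpr
    (congrArg Subtype.val (mul_comm' (⟨u, hu⟩ : (P' : Subgroup G)) ⟨z, hzP⟩))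
  have hnC : ((MulAut.conj (n : G) • P' : Sylow p G) : Subgroup G) ≤ C := by
    intro y hy
    obtain ⟨u, hu, rfl⟩ := hy
    have h1 : Commute ((n : G) * u * (n : G)⁻¹) ((n : G) * z * (n : G)⁻¹) :=
      (Commute.conj_iff _).mpr (mem_centralizer_singleton_iff.mp (hPC hu))
    have h2 : zpowers ((n : G) * z * (n : G)⁻¹) = zpowers z :=
      zpowers_eq_of_isCyclic hnz (mem_zpowers z)
        (by rw [← MulAut.conj_apply, MulEquiv.orderOf_eq])
    obtain ⟨k, hk⟩ := (h2 ▸ mem_zpowers z : z ∈ zpowers ((n : G) * z * (n : G)⁻¹))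
    refine mem_centralizer_singleton_iff.mpr ?_
    simp only at hk
    show (n : G) * u * (n : G)⁻¹ * z = z * ((n : G) * u * (n : G)⁻¹)
    rw [← hk]
    exact (h1.zpow_right k).eq
  obtain ⟨c, hc⟩ := MulAction.exists_smul_eq C (P'.subtype hPC)
    ((MulAut.conj (n : G) • P' : Sylow p G).subtype hnC)
  set m : G := (c : G)⁻¹ * n with hm
  have hmconj : ∀ u ∈ (P' : Subgroup G), m * u * m⁻¹ ∈ (P' : Subgroup G) := by
    intro u hu
    have hnu : (n : G) * u * (n : G)⁻¹ ∈ ((MulAut.conj (n : G) • P' : Sylow p G) : Subgroup G) :=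
      ⟨u, hu, rfl⟩
    have hmem : (⟨_, hnC hnu⟩ : C) ∈ ((c • P'.subtype hPC : Sylow p C) : Subgroup C) := by
      rw [hc, Sylow.coe_subtype, mem_subgroupOf]
      exact hnu
    obtain ⟨v, hv, hve⟩ := hmem
    have hv' : (v : G) ∈ (P' : Subgroup G) := hv
    have hve' : (c : G) * v * (c : G)⁻¹ = (n : G) * u * (n : G)⁻¹ := congrArg Subtype.val hve
    rw [hm, show (c : G)⁻¹ * n * u * ((c : G)⁻¹ * n)⁻¹ = (c : G)⁻¹ * ((n : G) * u * (n : G)⁻¹) * c by
      group, ← hve', show (c : G)⁻¹ * ((c : G) * v * (c : G)⁻¹) * c = v by group]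
    exact hv'
  obtain ⟨x, hx⟩ := (Subgroup.isCyclic_iff_exists_zpowers_eq_top (P' : Subgroup G)).1 inferInstance
  have hxP : x ∈ (P' : Subgroup G) := hx ▸ mem_zpowers x
  obtain ⟨i, hi⟩ : m * x * m⁻¹ ∈ zpowers x := hx.symm ▸ hmconj x hxP
  simp only at hi
  have hmz : m * z * m⁻¹ ≠ z := by
    intro e
    obtain ⟨k, hk⟩ := hnz
    simp only at hk
    have hcz : Commute (c : G) (z ^ k) :=
      (show Commute (c : G) z from mem_centralizer_singleton_iff.mp c.2).zpow_right k
    have : m * z * m⁻¹ = z ^ k := by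
      rw [hm, show (c : G)⁻¹ * n * z * ((c : G)⁻¹ * n)⁻¹ = (c : G)⁻¹ * ((n : G) * z * (n : G)⁻¹) * c by
        group, ← hk, mul_assoc, ← hcz.eq, inv_mul_cancel_left]
    refine hnw (Subtype.ext ?_)
    show (n : G) * w = w * n
    rw [← hzdef]
    exact mul_inv_eq_iff_eq_mul.1 (hk.symm.trans (this.symm.trans e))
  obtain ⟨k, hk⟩ : z ∈ zpowers x := hx.symm ▸ hzP
  simp only at hk
  have hzi : z ^ i ≠ z := by
    intro e
    refine hmz ?_
    rw [← hk, ← conj_zpow, ← hi, ← zpow_mul, mul_comm, zpow_mul, hk, e]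
  have hnd : ¬ (p : ℤ) ∣ 1 - i := by
    intro hd
    apply hzi
    rw [← hz, orderOf_dvd_iff_zpow_eq_one, zpow_sub, zpow_one, mul_inv_eq_one] at hd
    exact hd.symm
  haveI : IsCyclic ((P'.subtype hPC : Sylow p C) : Subgroup C) := by
    rw [Sylow.coe_subtype]
    exact (Subgroup.subgroupOfEquivOfLe hPC).isCyclic.mpr inferInstance
  have hN : normalizer (((P'.subtype hPC : Sylow p C) : Subgroup C) : Set C) ≤
      centralizer (((P'.subtype hPC : Sylow p C) : Subgroup C) : Set C) := by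
    refine normalizer_le_centralizer_of_fix _ fun g _ v hv hvo => Subtype.ext ?_
    rw [Sylow.coe_subtype, mem_subgroupOf] at hv
    have hvo' : orderOf (v : G) = p := by rwa [Subgroup.orderOf_coe]
    have := mem_zpowers (v : G)
    rw [zpowers_eq_of_isCyclic hv hzP (hvo'.trans hz.symm)] at this
    obtain ⟨j, hj⟩ := this
    simp only at hj
    show (g : G) * v = v * g
    rw [← hj]
    exact ((show Commute (g : G) z from mem_centralizer_singleton_iff.mp g.2).zpow_right j).eq
  have hnJ : (n : G) ∈ J := n.2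
  have hxC : x ∈ C := hPC hxP
  have hkey := zpow_sub_mem (P'.subtype hPC) hN (J.subgroupOf C) (x := ⟨x, hxC⟩) (c := c)
    (by rw [Sylow.coe_subtype, mem_subgroupOf]; exact hxP) i (by
      rw [mem_subgroupOf]
      push_cast
      rw [hi]
      -- `c⁻¹ x c (m x m⁻¹)⁻¹` is a product of conjugates of `n`
      rw [hm, show (c : G)⁻¹ * x * c * ((c : G)⁻¹ * n * x * ((c : G)⁻¹ * n)⁻¹)⁻¹ =
        ((c : G)⁻¹ * x) * (n : G) * ((c : G)⁻¹ * x)⁻¹ * ((c : G)⁻¹ * (n : G)⁻¹ * c) by group]
      refine mul_mem (Subgroup.Normal.conj_mem inferInstance _ hnJ _) ?_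
      have := Subgroup.Normal.conj_mem (inferInstance : J.Normal) _ (inv_mem hnJ) (c : G)⁻¹
      rwa [inv_inv] at this)
  rw [mem_subgroupOf] at hkey
  push_cast at hkey
  have hPJ : (P' : Subgroup G) ≤ J := by
    rw [← hx, Subgroup.zpowers_le]
    obtain ⟨e, he⟩ := P'.isPGroup' ⟨x, hxP⟩
    have he' : x ^ p ^ e = 1 := congrArg Subtype.val he
    obtain ⟨a, b, hab⟩ : IsCoprime ((p : ℤ) ^ e) (1 - i) :=
      (((Nat.prime_iff_prime_int.mp hp.out).coprime_iff_not_dvd).mpr hnd).pow_left
    rw [← zpow_one x, ← hab, zpow_add, mul_comm a, zpow_mul, ← Nat.cast_pow, zpow_natCast, he',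
      one_zpow, one_mul, mul_comm b, zpow_mul]
    exact zpow_mem hkey b
  exact fun hd => P'.not_dvd_index (hd.trans (Subgroup.index_dvd_of_le hPJ))

/-- A group acting faithfully modulo `P` on its subgroup of order `p`. -/
theorem isCyclic_quotient_of_cyclic_normal_sylow (hdvd : p ∣ Nat.card G) (P : Sylow p G)
    [IsCyclic (P : Subgroup G)] [hN : (P : Subgroup G).Normal]
    (hC : centralizer ((P : Subgroup G) : Set G) = (P : Subgroup G)) :
    IsCyclic (G ⧸ (P : Subgroup G)) ∧ (P : Subgroup G).index ∣ p - 1 := by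
  obtain ⟨⟨z, hzP⟩, hz'⟩ := exists_prime_orderOf_dvd_card' (G := (P : Subgroup G)) p
    (P.dvd_card_of_dvd_card hdvd)
  have hz : orderOf z = p := by rwa [Subgroup.orderOf_mk] at hz'
  have hconj : ∀ g : G, ∀ u ∈ zpowers z, g * u * g⁻¹ ∈ zpowers z := by
    rintro g u ⟨k, rfl⟩
    have h := mem_zpowers (g * z * g⁻¹)
    rw [zpowers_eq_of_isCyclic (hN.conj_mem _ hzP g) hzP
      (by rw [← MulAut.conj_apply, MulEquiv.orderOf_eq])] at h
    rw [← conj_zpow]
    exact zpow_mem h k
  haveI : (zpowers z).Normal := ⟨fun u hu g => hconj g u hu⟩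
  set φ : G →* MulAut (zpowers z) := MulAut.conjNormal with hφ
  have hker : φ.ker = (P : Subgroup G) := by
    apply le_antisymm
    · intro g hg
      rw [← hC]
      refine mem_centralizer_of_fix P (by rw [normalizer_eq_top]; exact mem_top g) ?_
      intro w hw hwo
      have h := mem_zpowers w
      rw [zpowers_eq_of_isCyclic hw hzP (hwo.trans hz.symm)] at h
      obtain ⟨k, rfl⟩ := h
      have h1 := congrArg Subtype.val
        (DFunLike.congr_fun (MonoidHom.mem_ker.mp hg) (⟨z, mem_zpowers z⟩ : zpowers z))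
      rw [hφ, MulAut.conjNormal_apply] at h1
      exact (show Commute g z from mul_inv_eq_iff_eq_mul.1 h1).zpow_right k
    · intro g hg
      refine MonoidHom.mem_ker.mpr (MulEquiv.ext fun u => Subtype.ext ?_)
      rw [hφ, MulAut.conjNormal_apply]
      have hu : (u : G) ∈ (P : Subgroup G) := (zpowers_le.mpr hzP) u.2
      have hcomm : g * (u : G) = u * g :=
        congrArg Subtype.val (mul_comm' (⟨g, hg⟩ : (P : Subgroup G)) ⟨u, hu⟩)
      rw [hcomm, mul_inv_cancel_right]
      rfl
  have hcard : Nat.card (zpowers z) = p := by rw [Nat.card_zpowers, hz]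
  haveI hcyc : IsCyclic (MulAut (zpowers z)) := by
    haveI : IsCyclic (ZMod (Nat.card (zpowers z)))ˣ := by
      rw [hcard]
      haveI : Fact p.Prime := hp
      infer_instance
    exact (IsCyclic.mulAutMulEquiv (zpowers z)).isCyclic.mpr inferInstance
  constructor
  · exact isCyclic_of_injective
      ((QuotientGroup.kerLift φ).comp (QuotientGroup.quotientMulEquivOfEq hker.symm).toMonoidHom)
      ((QuotientGroup.kerLift_injective φ).comp
        (QuotientGroup.quotientMulEquivOfEq hker.symm).injective)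
  · rw [← hker, Subgroup.index_ker]
    refine (Subgroup.card_subgroup_dvd_card φ.range).trans (dvd_of_eq ?_)
    rw [IsCyclic.card_mulAut, hcard, Nat.totient_prime hp.out]

/-- A cyclic Sylow `p`-subgroup in a group with `O_{p'} = 1`. -/
theorem cyclic_sylow_dichotomy (hdvd : p ∣ Nat.card G) (hO : Cfsg.pPrimeCore p G = ⊥) (P : Sylow p G)
    [IsCyclic (P : Subgroup G)] :
    ((P : Subgroup G).Normal ∧ centralizer ((P : Subgroup G) : Set G) = (P : Subgroup G) ∧
      (∀ (_ : (P : Subgroup G).Normal), IsCyclic (G ⧸ (P : Subgroup G))) ∧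
        (P : Subgroup G).index ∣ p - 1) ∨
    (IsSimpleGroup ↥(Cfsg.generalizedFittingSubgroup G) ∧
      ¬ IsMulCommutative ↥(Cfsg.generalizedFittingSubgroup G) ∧
      ¬ p ∣ (Cfsg.generalizedFittingSubgroup G).index) := by
  by_cases hL : Cfsg.layer G = ⊥
  · left
    obtain ⟨hN, hC⟩ := cyclic_sylow_of_layer_eq_bot hO P hL
    haveI := hN
    exact ⟨hN, hC, fun _ => (isCyclic_quotient_of_cyclic_normal_sylow hdvd P hC).1,
      (isCyclic_quotient_of_cyclic_normal_sylow hdvd P hC).2⟩
  right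
  obtain ⟨J, hJ⟩ : ∃ J : Subgroup G, Cfsg.IsComponent J := by
    by_contra hne
    push Not at hne
    exact hL (layer_eq_bot_iff.mpr hne)
  have hpc : Cfsg.pCore p G = ⊥ := by
    by_contra hne
    have hp' : p ∣ Nat.card (Cfsg.pCore p G) := by
      haveI := (Subgroup.nontrivial_iff_ne_bot _).mpr hne
      obtain ⟨k, hk0, hk⟩ := (Core.isPGroup_pCore p G).nontrivial_iff_card.mp inferInstance
      exact hk ▸ dvd_pow_self p hk0.ne'
    obtain ⟨⟨z, hz⟩, hzo⟩ := exists_prime_orderOf_dvd_card' p hp'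
    rw [Subgroup.orderOf_mk] at hzo
    refine false_of_commutes hJ hO P hzo fun l hl => ?_
    exact mem_centralizer_iff.mp ((commutator_eq_bot_iff_le_centralizer.mp
      (component_commutes_fitting hJ)) hl) z (pCore_le_fitting p hz)
  have hF : Cfsg.fittingSubgroup G = ⊥ := by rw [fitting_eq_pCore_of_core_bot hO, hpc]
  have huniq : ∀ L : Subgroup G, Cfsg.IsComponent L → L = J := by
    intro L hL'
    by_contra hne
    obtain ⟨Q⟩ := Sylow.nonempty (p := p) (G := L)
    obtain ⟨-, -, n, -, w, -, hw, -⟩ := exists_moving_component hL' hO P Q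
    refine false_of_commutes hJ hO P (z := (w : G)) (by rwa [Subgroup.orderOf_coe]) fun l hl => ?_
    exact (mem_centralizer_iff.mp ((commutator_eq_bot_iff_le_centralizer.mp
      (components_commute hL' hJ hne)) w.2) l hl).symm
  obtain ⟨heq, hs, hna⟩ := gFitting_eq_component hF hJ huniq
  haveI : J.Normal := heq ▸ gFitting_normal
  rw [heq]
  exact ⟨hs, hna, not_dvd_index_component hJ hO P⟩

end CfsgLib.Components
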