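import Cfsg.Agent.Lib.Components.PLayer
import Cfsg.Prelude.Def_Balance

/-!
# The extended 2-layer

* `coreOf H = O(H)` as a subgroup of the ambient group, with `map_coreOf`;
* `extendedTwoLayer_eq` (one Sylow 2-subgroup suffices), `extendedTwoLayer_normal`,
  `pComponent_normal_extendedTwoLayer`, `exists_odd_complement`.
-/

set_option autoImplicit false
set_option linter.style.haveILetI false

namespace CfsgLib.Components

open Subgroup
open CfsgLib.Signalizer
open scoped Pointwise

variable {X : Type*} [Group X]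

/-- The core `O(H)` of a subgroup, inside the ambient group. -/
def coreOf (H : Subgroup X) : Subgroup X := (Cfsg.oddCore H).map H.subtype

theorem coreOf_le (H : Subgroup X) : coreOf H ≤ H := Subgroup.map_subtype_le _

theorem map_coreOf [Finite X] {Y : Type*} [Group Y] (e : X ≃* Y) (H : Subgroup X) :
    (coreOf H).map e.toMonoidHom = coreOf (H.map e.toMonoidHom) := by
  have h := Core.map_equiv_pPrimeCore (p := 2) (e.subgroupMap H)
  unfold coreOf
  show ((Cfsg.pPrimeCore 2 H).map H.subtype).map e.toMonoidHom =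
    (Cfsg.pPrimeCore 2 (H.map e.toMonoidHom : Subgroup Y)).map (H.map e.toMonoidHom).subtype
  refine Eq.trans ?_ (congrArg (Subgroup.map (H.map e.toMonoidHom).subtype) h)
  refine Eq.trans (Subgroup.map_map _ _ _) ?_
  exact (Subgroup.map_map (K := Cfsg.pPrimeCore 2 H) ((H.map e.toMonoidHom).subtype)
    (e.subgroupMap H).toMonoidHom).symm

theorem map_centralizer_equiv {Y : Type*} [Group Y] (e : X ≃* Y) (A : Subgroup X) :
    (Subgroup.centralizer (A : Set X)).map e.toMonoidHom =
      Subgroup.centralizer ((A.map e.toMonoidHom : Subgroup Y) : Set Y) := by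
  ext y
  rw [Subgroup.mem_map_equiv, Subgroup.mem_centralizer_iff, Subgroup.mem_centralizer_iff]
  constructor
  · rintro h _ ⟨x, hx, rfl⟩
    apply e.symm.injective
    simpa using h x hx
  · intro h x hx
    apply e.injective
    simpa using h (e x) ⟨x, hx, rfl⟩

theorem map_coreOf_centralizer [Finite X] (e : X ≃* X) (A : Subgroup X) :
    (coreOf (Subgroup.centralizer (A : Set X))).map e.toMonoidHom =
      coreOf (Subgroup.centralizer ((A.map e.toMonoidHom : Subgroup X) : Set X)) := by
  rw [map_coreOf, map_centralizer_equiv]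

variable [Finite X]

/-- `L_{2'}(X) O_{2',2}(X)`. -/
abbrev layerBase (X : Type*) [Group X] : Subgroup X := Cfsg.pLayer 2 X ⊔ Cfsg.pPrimePCore 2 X

/-- `L_{2'}(X) O(X)`. -/
abbrev layerCore (X : Type*) [Group X] : Subgroup X := Cfsg.pLayer 2 X ⊔ Cfsg.oddCore X

omit [Finite X] in
theorem extendedTwoLayer_def : Cfsg.extendedTwoLayer X = layerCore X ⊔
    ⨆ T : Sylow 2 ↥(layerBase X),
      coreOf (Subgroup.centralizer (((T : Subgroup ↥(layerBase X)).map (layerBase X).subtype :
        Subgroup X) : Set X)) := rfl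

theorem layerBase_normal : (layerBase X).Normal := by
  haveI := pLayer_normal (G := X) (p := 2)
  infer_instance

theorem layerCore_normal : (layerCore X).Normal := by
  haveI := pLayer_normal (G := X) (p := 2)
  haveI := pPrimeCore_normal (G := X) 2
  infer_instance

/-- A Sylow 2-subgroup of the base, together with `L O`, is the whole base. -/
theorem sylow_sup_layerCore (T : Sylow 2 ↥(layerBase X)) :
    (T : Subgroup ↥(layerBase X)).map (layerBase X).subtype ⊔ layerCore X = layerBase X := by
  haveI : Fact (Nat.Prime 2) := ⟨Nat.prime_two⟩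
  haveI := layerCore_normal (X := X)
  have hle : layerCore X ≤ layerBase X := sup_le_sup le_rfl PLocal.pPrimeCore_le_pPrimePCore
  refine PLocal.sup_eq_of_coprime_relIndex (p := 2) (Subgroup.map_subtype_le _) hle ?_ ?_
  · rw [Subgroup.relIndex, Subgroup.subgroupOf,
      Subgroup.comap_map_eq_self_of_injective (Subgroup.subtype_injective _)]
    exact T.not_dvd_index
  · obtain ⟨k, hk⟩ := PLocal.relIndex_pPrimeCore_pPrimePCore (G := X) (p := 2)
    have hsup : layerBase X = Cfsg.pPrimePCore 2 X ⊔ layerCore X :=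
      le_antisymm (sup_le (le_sup_left.trans le_sup_right) le_sup_left) (sup_le le_sup_right hle)
    rw [hsup, Subgroup.relIndex_sup_right]
    have hd : (layerCore X).relIndex (Cfsg.pPrimePCore 2 X) ∣ 2 ^ k :=
      hk ▸ Subgroup.relIndex_dvd_of_le_left _ le_sup_right
    obtain ⟨j, -, hj⟩ := (Nat.dvd_prime_pow Nat.prime_two).mp hd
    exact ⟨j, hj⟩

theorem extendedTwoLayer_eq (T₀ : Sylow 2 ↥(layerBase X)) :
    Cfsg.extendedTwoLayer X = layerCore X ⊔
      coreOf (Subgroup.centralizer (((T₀ : Subgroup ↥(layerBase X)).map (layerBase X).subtype :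
        Subgroup X) : Set X)) := by
  haveI : Fact (Nat.Prime 2) := ⟨Nat.prime_two⟩
  haveI := layerCore_normal (X := X)
  rw [extendedTwoLayer_def]
  refine le_antisymm (sup_le le_sup_left (iSup_le fun T => ?_))
    (sup_le le_sup_left (le_trans (le_iSup (fun T : Sylow 2 ↥(layerBase X) =>
      coreOf (Subgroup.centralizer (((T : Subgroup ↥(layerBase X)).map (layerBase X).subtype :
        Subgroup X) : Set X))) T₀) le_sup_right))
  obtain ⟨m, rfl⟩ := MulAction.exists_smul_eq (layerBase X) T₀ T
  set T' := (T₀ : Subgroup ↥(layerBase X)).map (layerBase X).subtype with hT'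
  rw [← Core.sylow_map_conj_smul, Core.conj_smul_eq_map, ← map_coreOf_centralizer]
  have hm : (m : X) ∈ T' ⊔ layerCore X := (sylow_sup_layerCore T₀).ge m.2
  rw [Subgroup.mem_sup_of_normal_right] at hm
  obtain ⟨t, ht, v, hv, e⟩ := hm
  rintro _ ⟨c, hc, rfl⟩
  show (m : X) * c * (m : X)⁻¹ ∈ _
  have hct : t * c * t⁻¹ = c := by
    have := Subgroup.mem_centralizer_iff.mp (coreOf_le _ hc) t ht
    rw [this, mul_inv_cancel_right]
  have hv' : t * v * t⁻¹ ∈ layerCore X :=
    (inferInstance : (layerCore X).Normal).conj_mem v hv t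
  rw [← e, show t * v * c * (t * v)⁻¹ = (t * v * t⁻¹) * (t * c * t⁻¹) * (t * v * t⁻¹)⁻¹ by group,
    hct]
  exact mul_mem (mul_mem (Subgroup.mem_sup_left hv') (Subgroup.mem_sup_right hc))
    (inv_mem (Subgroup.mem_sup_left hv'))

theorem extendedTwoLayer_map_equiv (e : X ≃* X) :
    (Cfsg.extendedTwoLayer X).map e.toMonoidHom = Cfsg.extendedTwoLayer X := by
  haveI : Fact (Nat.Prime 2) := ⟨Nat.prime_two⟩
  have hL : (layerCore X).map e.toMonoidHom = layerCore X := by
    rw [Subgroup.map_sup, pLayer_map_equiv e]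
    congr 1
    exact Core.map_equiv_pPrimeCore e
  have hB : (layerBase X).map e.toMonoidHom = layerBase X := by
    rw [Subgroup.map_sup, pLayer_map_equiv e]
    congr 1
    have hmap : (Cfsg.pPrimeCore 2 X).map e.toMonoidHom = Cfsg.pPrimeCore 2 X :=
      Core.map_equiv_pPrimeCore e
    set ψ := QuotientGroup.congr (Cfsg.pPrimeCore 2 X) (Cfsg.pPrimeCore 2 X) e hmap
    refine Subgroup.map_injective_of_ker_le (modCore 2 X) ?_ ?_ ?_
    · rw [QuotientGroup.ker_mk', ← hmap]
      exact Subgroup.map_mono PLocal.pPrimeCore_le_pPrimePCore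
    · rw [QuotientGroup.ker_mk']
      exact PLocal.pPrimeCore_le_pPrimePCore
    · rw [PLocal.map_pPrimePCore, ← Core.map_equiv_pCore ψ, ← PLocal.map_pPrimePCore,
        Subgroup.map_map, Subgroup.map_map]
      rfl
  obtain ⟨T⟩ : Nonempty (Sylow 2 ↥(layerBase X)) := inferInstance
  set T' := (T : Subgroup ↥(layerBase X)).map (layerBase X).subtype with hT'
  have hle : T'.map e.toMonoidHom ≤ layerBase X :=
    (Subgroup.map_mono (Subgroup.map_subtype_le _)).trans hB.le
  have hcard : Nat.card ((T'.map e.toMonoidHom).subgroupOf (layerBase X)) =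
      2 ^ (Nat.card ↥(layerBase X)).factorization 2 := by
    rw [Nat.card_congr (Subgroup.subgroupOfEquivOfLe hle).toEquiv,
      Subgroup.card_map_of_injective e.injective, hT',
      Subgroup.card_map_of_injective (Subgroup.subtype_injective _)]
    exact T.card_eq_multiplicity
  conv_rhs => rw [extendedTwoLayer_eq (Sylow.ofCard _ hcard)]
  rw [extendedTwoLayer_eq T, Subgroup.map_sup, hL, map_coreOf_centralizer, Sylow.coe_ofCard,
    Subgroup.map_subgroupOf_eq_of_le hle]

theorem extendedTwoLayer_normal : (Cfsg.extendedTwoLayer X).Normal := by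
  refine ⟨fun x hx g => ?_⟩
  exact (extendedTwoLayer_map_equiv (MulAut.conj g)).le ⟨x, hx, rfl⟩

omit [Finite X] in
theorem layerCore_le : layerCore X ≤ Cfsg.extendedTwoLayer X := le_sup_left

theorem pComponent_normal_extendedTwoLayer {K : Subgroup X} (hK : Cfsg.IsPComponent 2 K) :
    K ≤ Cfsg.extendedTwoLayer X ∧ (K.subgroupOf (Cfsg.extendedTwoLayer X)).Normal := by
  haveI : Fact (Nat.Prime 2) := ⟨Nat.prime_two⟩
  have hle : K ≤ Cfsg.extendedTwoLayer X :=
    (pComponent_le_pLayer hK).trans (le_sup_left.trans layerCore_le)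
  refine ⟨hle, (Subgroup.normal_subgroupOf_iff_le_normalizer hle).mpr ?_⟩
  obtain ⟨R⟩ : Nonempty (Sylow 2 K) := inferInstance
  have hRB : (R : Subgroup K).map K.subtype ≤ layerBase X :=
    (Subgroup.map_subtype_le _).trans ((pComponent_le_pLayer hK).trans le_sup_left)
  obtain ⟨T, hT⟩ := (((R.isPGroup'.map K.subtype)).comap_of_injective _
    (layerBase X).subtype_injective).exists_le_sylow
  rw [extendedTwoLayer_eq T]
  refine sup_le (sup_le (pLayer_le_normalizer hK) (core_le_normalizer_pComponent hK)) ?_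
  intro c hc
  refine normalizes_of_centralizes_sylow hK R ?_
  refine Subgroup.centralizer_le ?_ (coreOf_le _ hc)
  intro y hy
  exact ⟨⟨y, hRB hy⟩, hT (show (⟨y, hRB hy⟩ : layerBase X) ∈ _ from hy), rfl⟩

theorem exists_odd_complement : ∃ F : Subgroup X, Odd (Nat.card ↥F) ∧
    (∃ S : Sylow 2 X, (S : Subgroup X) ≤ Subgroup.normalizer (F : Set X)) ∧
      Cfsg.extendedTwoLayer X = Cfsg.pLayer 2 X ⊔ F := by
  haveI : Fact (Nat.Prime 2) := ⟨Nat.prime_two⟩
  haveI := layerBase_normal (X := X)
  haveI := pPrimeCore_normal (G := X) 2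
  obtain ⟨T⟩ : Nonempty (Sylow 2 ↥(layerBase X)) := inferInstance
  set T' := (T : Subgroup ↥(layerBase X)).map (layerBase X).subtype with hT'
  obtain ⟨S, hS⟩ := (T.isPGroup'.map (layerBase X).subtype).exists_le_sylow
  refine ⟨Cfsg.oddCore X ⊔ coreOf (Subgroup.centralizer (T' : Set X)), ?_, ⟨S, ?_⟩, ?_⟩
  · rw [← Nat.coprime_two_left, Nat.coprime_comm]
    refine Core.coprime_card_sup (Subgroup.le_normalizer_of_normal) ?_ ?_ |> fun h => by
      rwa [sup_comm] at h
    · rw [coreOf, Subgroup.card_map_of_injective (Subgroup.subtype_injective _)]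
      exact pPrimeCore_coprime 2
    · exact pPrimeCore_coprime 2
  · have hST : (S : Subgroup X) ⊓ layerBase X ≤ T' := by
      intro y hy
      have h := T.is_maximal' (S.isPGroup'.comap_of_injective (layerBase X).subtype
        (layerBase X).subtype_injective) (Subgroup.map_le_iff_le_comap.mp hS)
      exact ⟨⟨y, hy.2⟩, h.le (show (⟨y, hy.2⟩ : layerBase X) ∈ _ from hy.1), rfl⟩
    intro g hg
    refine mem_normalizer_of_smul_eq_self ?_
    have hT : T'.map (MulAut.conj g).toMonoidHom = T' := by
      refine Subgroup.eq_of_le_of_card_ge ?_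
        (Subgroup.card_map_of_injective (MulAut.conj g).injective).ge
      rintro _ ⟨y, hy, rfl⟩
      exact hST (Subgroup.mem_inf.mpr ⟨mul_mem (mul_mem hg (hS hy)) (inv_mem hg),
        (layerBase_normal (X := X)).conj_mem y (Subgroup.map_subtype_le _ hy) g⟩)
    show (Cfsg.oddCore X ⊔ coreOf (Subgroup.centralizer (T' : Set X))).map
      (MulAut.conj g).toMonoidHom = _
    rw [Subgroup.map_sup, map_coreOf_centralizer, hT,
      Core.map_equiv_pPrimeCore (p := 2) (MulAut.conj g)]
  · rw [extendedTwoLayer_eq T, sup_assoc]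

end CfsgLib.Components
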