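import Cfsg.Agent.Lib.Components.LocalBalance
import Cfsg.Prelude.Def_ClassificationStages

/-!
# Intrinsic description of `p`-components of subgroups

`K` is a `p`-component of `H` iff it is subnormal in `H`, is generated by its `p`-elements and `K / O_{p'}(K)` is quasisimple.

* `isPComponent_iff`, `isPComponentOf_iff`;
* transport: `IsPComponentOf.mono`, `.trans_subnormal`, `.subgroupOf_mem`, `.map`.
-/

set_option autoImplicit false
set_option linter.style.haveILetI false

namespace CfsgLib.Components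

open Subgroup
open CfsgLib.Signalizer
open scoped commutatorElement

variable {G : Type*} [Group G] {p : ℕ}

/-! ### Elementary facts -/

theorem subnormal_subgroupOf_trans {A B C : Subgroup G} (hAB : A ≤ B) (hBC : B ≤ C)
    (h1 : (A.subgroupOf B).IsSubnormal) (h2 : (B.subgroupOf C).IsSubnormal) :
    (A.subgroupOf C).IsSubnormal := by
  have h3 := isSubnormal_map_equiv (Subgroup.subgroupOfEquivOfLe hBC).symm h1
  have he : (A.subgroupOf B).map (Subgroup.subgroupOfEquivOfLe hBC).symm.toMonoidHom =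
      (A.subgroupOf C).subgroupOf (B.subgroupOf C) := by
    ext x
    constructor
    · rintro ⟨y, hy, hyx⟩
      rw [← hyx]
      exact hy
    · intro hxA
      exact ⟨⟨((x : C) : G), x.2⟩, hxA, rfl⟩
  rw [he] at h3
  exact IsSubnormal.trans (Subgroup.comap_mono hAB) h3 h2

theorem subnormal_subgroupOf_mono {A B C : Subgroup G} (hBC : B ≤ C)
    (h : (A.subgroupOf C).IsSubnormal) : (A.subgroupOf B).IsSubnormal :=
  h.comap (Subgroup.inclusion hBC)

theorem subnormal_map_subgroupOf {G' : Type*} [Group G'] (f : G →* G') {A B : Subgroup G}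
    (hAB : A ≤ B) (h : (A.subgroupOf B).IsSubnormal) :
    ((A.map f).subgroupOf (B.map f)).IsSubnormal := by
  have h1 := h.map (f.subgroupMap_surjective B)
  convert h1 using 1
  ext ⟨y, hy⟩
  constructor
  · rintro ⟨a, ha, e⟩
    exact ⟨⟨a, hAB ha⟩, ha, Subtype.ext e⟩
  · rintro ⟨a, ha, e⟩
    exact ⟨a, ha, congrArg Subtype.val e⟩

theorem pGen_bot_of_coprime [Finite G] [hp : Fact p.Prime] {K : Subgroup G}
    (h : (Nat.card K).Coprime p) : pGen p K = ⊥ :=
  le_bot_iff.mp (pGen_le_iff.mpr fun x hx k hk => Subgroup.mem_bot.mpr (orderOf_eq_one_iff.mp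
    (Nat.eq_one_of_dvd_coprimes (h.pow_right k) (K.orderOf_dvd_natCard hx)
      (orderOf_dvd_of_pow_eq_one hk))))

theorem pGen_subgroupOf [Finite G] [Fact p.Prime] {K H : Subgroup G} (h : K ≤ H) :
    (pGen p (K.subgroupOf H)).map H.subtype = pGen p K := by
  rw [map_pGen, Subgroup.map_subgroupOf_eq_of_le h]

/-- The `p`-elements of `A ⊔ O` lie in the normal subgroup `A` when `O` has order prime to `p`. -/
theorem pGen_sup_le {A O : Subgroup G} [A.Normal] (hO : (Nat.card O).Coprime p) :
    pGen p (A ⊔ O) ≤ A := by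
  refine pGen_le_iff.mpr fun x hx k hk => ?_
  obtain ⟨a, ha, o, ho, rfl⟩ := mem_sup_of_normal_left.mp hx
  refine mul_mem ha ((QuotientGroup.eq_one_iff o).mp (orderOf_eq_one_iff.mp
    (Nat.eq_one_of_dvd_coprimes (hO.pow_right k) ?_ ?_)))
  · exact (orderOf_map_dvd (QuotientGroup.mk' A) o).trans (O.orderOf_dvd_natCard ho)
  · refine orderOf_dvd_of_pow_eq_one ?_
    calc (QuotientGroup.mk o : G ⧸ A) ^ p ^ k
        = (QuotientGroup.mk (a * o) : G ⧸ A) ^ p ^ k := by
          rw [QuotientGroup.mk_mul, (QuotientGroup.eq_one_iff a).mpr ha, one_mul]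
      _ = 1 := by rw [← QuotientGroup.mk_pow, hk]; rfl

/-- A perfect central extension of a quasisimple group is quasisimple. -/
theorem isQuasisimple_of_central_ext {Q : Type*} [Group Q] [Group.IsPerfect G] (f : G →* Q)
    (hf : Function.Surjective f) (hker : f.ker ≤ center G) (hQ : Cfsg.IsQuasisimple Q) :
    Cfsg.IsQuasisimple G := by
  haveI := IsQuasisimple.nontrivial hQ
  haveI := hf.nontrivial
  refine isQuasisimple_of_normal_le_center fun N hN hne => ?_
  rcases IsQuasisimple.normal_le_center_or_eq_top hQ (hN.map f hf) with hc | ht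
  · have h1 : ⁅⁅N, (⊤ : Subgroup G)⁆, (⊤ : Subgroup G)⁆ = ⊥ := by
      refine le_bot_iff.mp ((commutator_mono (le_trans ?_ hker) le_rfl).trans
        (le_of_eq (commutator_eq_bot_iff_le_centralizer.mpr (center_le_centralizer _))))
      rw [← Subgroup.map_eq_bot_iff, map_commutator, commutator_eq_bot_iff_le_centralizer]
      exact hc.trans (center_le_centralizer _)
    have h2 : ⁅⁅(⊤ : Subgroup G), N⁆, (⊤ : Subgroup G)⁆ = ⊥ := by
      rwa [commutator_comm (⊤ : Subgroup G) N]
    have h3 := commutator_commutator_eq_bot_of_rotate h2 h1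
    rw [← commutator_def, Group.IsPerfect.commutator_eq_top, commutator_comm] at h3
    exact commutator_top_right_eq_bot_iff_le_center.mp h3
  · exfalso
    apply hne
    have hsup : N ⊔ f.ker = ⊤ := by
      have := congrArg (Subgroup.comap f) ht
      rwa [Subgroup.comap_map_eq, Subgroup.comap_top] at this
    refine top_le_iff.mp ((Group.IsPerfect.commutator_eq_top (G := G)).ge.trans ?_)
    rw [commutator_def, ← hsup, Subgroup.commutator_le]
    intro a ha b hb
    obtain ⟨n, hn, z, hz, rfl⟩ := (Subgroup.mem_sup_of_normal_left).mp ha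
    obtain ⟨m, hm, w, hw, rfl⟩ := (Subgroup.mem_sup_of_normal_left).mp hb
    have hzc : ∀ g, z * g = g * z := fun g => (Subgroup.mem_center_iff.mp (hker hz) g).symm
    have hwc : ∀ g, w * g = g * w := fun g => (Subgroup.mem_center_iff.mp (hker hw) g).symm
    have h1 : ⁅z, m * w⁆ = 1 := commutatorElement_eq_one_iff_mul_comm.mpr (hzc _)
    have h2 : ⁅n, w⁆ = 1 := commutatorElement_eq_one_iff_mul_comm.mpr (hwc _).symm
    rw [commutatorElement_mul_left_eq_conj_mul, h1, commutatorElement_mul_right_eq_mul_conj n m w, h2]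
    simpa using Subgroup.commutator_le_self N (Subgroup.commutator_mem_commutator hn hm)

/-! ### The intrinsic criterion -/

variable [Finite G] [hp : Fact p.Prime]

omit hp in
theorem subgroupMap_modCore_ker {K : Subgroup G} (hK : K.IsSubnormal) :
    ((modCore p G).subgroupMap K).ker = Cfsg.pPrimeCore p K := by
  rw [Subgroup.ker_subgroupMap, QuotientGroup.ker_mk']
  apply Subgroup.map_injective K.subtype_injective
  rw [subgroupOf_map_subtype, pPrimeCore_subnormal p hK]

theorem isPComponent_iff {K : Subgroup G} :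
    Cfsg.IsPComponent p K ↔
      K.IsSubnormal ∧ pGen p K = K ∧ Cfsg.IsQuasisimple (K ⧸ Cfsg.pPrimeCore p K) := by
  refine ⟨fun h => ⟨h.1, pComponent_pGen_eq h, pComponent_quotient_core h⟩, ?_⟩
  rintro ⟨hsn, hgen, hq⟩
  have e : (K ⧸ Cfsg.pPrimeCore p K) ≃* K.map (modCore p G) :=
    (QuotientGroup.quotientMulEquivOfEq (subgroupMap_modCore_ker hsn).symm).trans
      (QuotientGroup.quotientKerEquivOfSurjective _ ((modCore p G).subgroupMap_surjective K))
  have hc : Cfsg.IsComponent (K.map (modCore p G)) :=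
    ⟨hsn.map modCore_surjective, IsQuasisimple.congr e hq⟩
  obtain ⟨hP, hPmap⟩ := isPComponent_pGen hc
  rwa [hP.2.2 K hsn (hgen.ge.trans (pGen_mono (le_comap_map _ _))) hPmap.symm]

theorem isQuasisimple_quotient_core_congr {H : Type*} [Group H] [Finite H] (e : G ≃* H) :
    Cfsg.IsQuasisimple (G ⧸ Cfsg.pPrimeCore p G) ↔
      Cfsg.IsQuasisimple (H ⧸ Cfsg.pPrimeCore p H) :=
  haveI := pPrimeCore_normal (G := G) p
  haveI := pPrimeCore_normal (G := H) p
  isQuasisimple_congr (QuotientGroup.congr _ _ e (Core.map_equiv_pPrimeCore e))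

theorem isPComponentOf_iff {K H : Subgroup G} :
    Cfsg.IsPComponentOf p K H ↔ K ≤ H ∧ (K.subgroupOf H).IsSubnormal ∧ pGen p K = K ∧
      Cfsg.IsQuasisimple (K ⧸ Cfsg.pPrimeCore p K) := by
  refine and_congr_right fun h => ?_
  rw [isPComponent_iff, isQuasisimple_quotient_core_congr (Subgroup.subgroupOfEquivOfLe h)]
  refine and_congr_right fun _ => and_congr_left fun _ => ?_
  rw [← (Subgroup.map_injective H.subtype_injective).eq_iff, pGen_subgroupOf h,
    Subgroup.map_subgroupOf_eq_of_le h]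

theorem isPComponentOf_map_subtype {H : Subgroup G} {K : Subgroup H} :
    Cfsg.IsPComponentOf p (K.map H.subtype) H ↔ Cfsg.IsPComponent p K := by
  rw [Cfsg.IsPComponentOf, Subgroup.subgroupOf,
    Subgroup.comap_map_eq_self_of_injective H.subtype_injective]
  exact and_iff_right (Subgroup.map_subtype_le K)

theorem isPComponentOf_top {K : Subgroup G} :
    Cfsg.IsPComponentOf p K ⊤ ↔ Cfsg.IsPComponent p K := by
  rw [isPComponentOf_iff, isPComponent_iff]
  refine ⟨fun ⟨_, h, h'⟩ => ⟨?_, h'⟩, fun ⟨h, h'⟩ => ⟨le_top, h.subgroupOf, h'⟩⟩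
  exact IsSubnormal.trans le_top h .top

namespace PCompOf

variable {K H : Subgroup G}

theorem perfect (h : Cfsg.IsPComponentOf p K H) : ⁅K, K⁆ = K := by
  have := congrArg (Subgroup.map H.subtype) (pComponent_perfect h.2)
  rwa [Subgroup.map_commutator, Subgroup.map_subgroupOf_eq_of_le h.1] at this

theorem pGen_eq (h : Cfsg.IsPComponentOf p K H) : pGen p K = K := (isPComponentOf_iff.mp h).2.2.1

theorem ne_bot (h : Cfsg.IsPComponentOf p K H) : K ≠ ⊥ := by
  rintro rfl
  have := pComponent_dvd_card h.2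
  rw [Subgroup.bot_subgroupOf, Subgroup.card_bot] at this
  exact hp.out.not_dvd_one this

theorem mono (h : Cfsg.IsPComponentOf p K H) {Y : Subgroup G} (hKY : K ≤ Y) (hYH : Y ≤ H) :
    Cfsg.IsPComponentOf p K Y := by
  obtain ⟨_, h2, h3⟩ := isPComponentOf_iff.mp h
  exact isPComponentOf_iff.mpr ⟨hKY, subnormal_subgroupOf_mono hYH h2, h3⟩

theorem trans_subnormal (h : Cfsg.IsPComponentOf p K H) {Y : Subgroup G} (hHY : H ≤ Y)
    (hn : (H.subgroupOf Y).IsSubnormal) : Cfsg.IsPComponentOf p K Y := by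
  obtain ⟨h1, h2, h3⟩ := isPComponentOf_iff.mp h
  exact isPComponentOf_iff.mpr ⟨h1.trans hHY, subnormal_subgroupOf_trans h1 hHY h2 hn, h3⟩

/-- Passing to a subgroup `Y ≥ K` as ambient group. -/
theorem subgroupOf (h : Cfsg.IsPComponentOf p K H) {Y : Subgroup G} (hKY : K ≤ Y) :
    Cfsg.IsPComponentOf p (K.subgroupOf Y) (H.subgroupOf Y) := by
  obtain ⟨h1, h2, h3, h4⟩ := isPComponentOf_iff.mp h
  refine isPComponentOf_iff.mpr ⟨Subgroup.comap_mono h1, ?_, ?_, ?_⟩
  · exact h2.comap ((Y.subtype.comp (H.subgroupOf Y).subtype).codRestrict H fun z => z.2)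
  · refine Subgroup.map_injective Y.subtype_injective ?_
    rw [pGen_subgroupOf hKY, h3, Subgroup.map_subgroupOf_eq_of_le hKY]
  · rwa [isQuasisimple_quotient_core_congr (Subgroup.subgroupOfEquivOfLe hKY)]

/-- `O_{p'}(K)` lies in `O_{p'}(H)`. -/
theorem core_le (h : Cfsg.IsPComponentOf p K H) :
    (Cfsg.pPrimeCore p K).map K.subtype ≤ (Cfsg.pPrimeCore p H).map H.subtype :=
  (map_pPrimeCore_of_subnormal_le h.1 h.2.1).le.trans inf_le_left

/-- A `p`-component centralizing its core is quasisimple. -/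
theorem isQuasisimple_of_commutes (h : Cfsg.IsPComponentOf p K H)
    (hc : ⁅K, (Cfsg.pPrimeCore p K).map K.subtype⁆ = ⊥) : Cfsg.IsQuasisimple K := by
  haveI : Group.IsPerfect K := Subgroup.isPerfect_iff.mpr (perfect h)
  haveI := pPrimeCore_normal (G := K) p
  refine isQuasisimple_of_central_ext (QuotientGroup.mk' (Cfsg.pPrimeCore p K))
    (QuotientGroup.mk'_surjective _) ?_ (isPComponentOf_iff.mp h).2.2.2
  rw [QuotientGroup.ker_mk']
  rw [Subgroup.commutator_comm, Subgroup.commutator_eq_bot_iff_le_centralizer,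
    Subgroup.map_le_iff_le_comap] at hc
  exact fun x hx => Subgroup.mem_center_iff.mpr fun y =>
    Subtype.ext (Subgroup.mem_centralizer_iff.mp (hc hx) y y.2)

/-- The image of a `p`-component. -/
theorem map {G' : Type*} [Group G'] [Finite G'] (h : Cfsg.IsPComponentOf p K H) (f : G →* G')
    {M : Subgroup G'} (hne : K.map f ≠ ⊥) (hle : K.map f ≤ M)
    (hsn : ((K.map f).subgroupOf M).IsSubnormal) :
    Cfsg.IsPComponentOf p (K.map f) M := by
  obtain ⟨_, _, hgen, hq⟩ := isPComponentOf_iff.mp h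
  have hgen' : pGen p (K.map f) = K.map f := by rw [← map_pGen, hgen]
  refine isPComponentOf_iff.mpr ⟨hle, hsn, hgen', ?_⟩
  haveI := pPrimeCore_normal (G := K) p
  haveI := pPrimeCore_normal (G := K.map f) p
  set g := f.subgroupMap K with hg
  have hgs : Function.Surjective g := f.subgroupMap_surjective K
  set φ := QuotientGroup.map (Cfsg.pPrimeCore p K) (Cfsg.pPrimeCore p (K.map f)) g
    (Subgroup.map_le_iff_le_comap.mp (Core.map_pPrimeCore_le g hgs))
  have hφ : Function.Surjective φ := by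
    intro z
    obtain ⟨w, rfl⟩ := QuotientGroup.mk_surjective z
    obtain ⟨v, rfl⟩ := hgs w
    exact ⟨QuotientGroup.mk v, rfl⟩
  haveI : Nontrivial (↥(K.map f) ⧸ Cfsg.pPrimeCore p (K.map f)) := by
    by_contra hs
    rw [not_nontrivial_iff_subsingleton] at hs
    have htop : Cfsg.pPrimeCore p (K.map f) = ⊤ := eq_top_iff.mpr fun z _ =>
      (QuotientGroup.eq_one_iff z).mp (Subsingleton.elim _ _)
    have h1 := pPrimeCore_coprime (G := K.map f) p
    rw [htop, Subgroup.card_top] at h1
    exact hne (by rw [← hgen', pGen_bot_of_coprime h1])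
  exact IsQuasisimple.of_surjective hq φ hφ

end PCompOf

end CfsgLib.Components
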