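import Cfsg.Agent.Lib.Core.Coprime
import Cfsg.Agent.Lib.Components.PComponentOf

/-!
# Two commuting involutions on a group of odd order

If `c` fixes the fixed points of `t` and of `t c`, then `c` fixes everything.
-/

set_option autoImplicit false
set_option linter.style.haveILetI false

namespace CfsgLib.Components

open Subgroup
open scoped commutatorElement Pointwise

variable {G : Type*} [Group G] [Finite G]

/-- For an involution `u` normalizing `M` and the `q`-group step: a fixed element in the coset of `v (u v u)`. -/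
theorem exists_fixed_in_coset {Q M : Subgroup G} (hMQ : ⁅Q, Q⁆ ≤ M) (hM : (Nat.card M).Coprime 2)
    {u : G} (hu : u * u = 1) (huM : u ∈ normalizer (M : Set G)) (huQ : u ∈ normalizer (Q : Set G))
    {v : G} (hv : v ∈ Q) :
    ∃ n ∈ M, v * (u * v * u⁻¹) * n ∈ centralizer ({u} : Set G) := by
  haveI : Fact (Nat.Prime 2) := ⟨Nat.prime_two⟩
  have hord : orderOf u ∣ 2 := orderOf_dvd_of_pow_eq_one (by rw [pow_two, hu])
  have hcop : (Nat.card (zpowers u)).Coprime (Nat.card M) := by
    rw [Nat.card_zpowers]
    exact Nat.Coprime.coprime_dvd_left hord hM.symm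
  obtain ⟨n, hn, hc⟩ := CfsgLib.Core.exists_centralizing_in_coset (A := zpowers u) (N := M)
    (k := v * (u * v * u⁻¹)) (Subgroup.zpowers_le.mpr huM) hcop
    (Or.inl (Group.isSolvable_of_comm fun a b => mul_comm' a b)) (by
      intro a ha
      obtain ⟨k, rfl⟩ := ((isOfFinOrder_of_finite u).mem_powers_iff_mem_zpowers).mpr ha
      have hk : u ^ k = 1 ∨ u ^ k = u := by
        induction k with
        | zero => exact Or.inl (pow_zero u)
        | succ k ih =>
          rcases ih (npow_mem_zpowers u k) with h | h
          · exact Or.inr (by rw [pow_succ, h, one_mul])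
          · exact Or.inl (by rw [pow_succ, h, hu])
      rcases hk with h | h
      · rw [show (fun x => u ^ x) k = u ^ k from rfl, h]
        rw [one_mul, inv_one, mul_one, inv_mul_cancel]
        exact one_mem _
      · rw [show (fun x => u ^ x) k = u ^ k from rfl, h]
        have huv : u * v * u⁻¹ ∈ Q := (Subgroup.mem_normalizer_iff.mp huQ v).mp hv
        have h1 := hMQ (Subgroup.commutator_mem_commutator (inv_mem huv) (inv_mem hv))
        have hi : u⁻¹ = u := inv_eq_of_mul_eq_one_left hu
        have e0 : u * (v * (u * v * u⁻¹)) * u⁻¹ = u * v * u⁻¹ * v := by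
          calc u * (v * (u * v * u⁻¹)) * u⁻¹ = u * v * u * v * (u * u)⁻¹ := by group
            _ = u * v * u⁻¹ * v := by rw [hu, inv_one, mul_one, hi]
        have e : (v * (u * v * u⁻¹))⁻¹ * (u * (v * (u * v * u⁻¹)) * u⁻¹) =
            ⁅(u * v * u⁻¹)⁻¹, v⁻¹⁆ := by
          rw [e0, commutatorElement_def]
          group
        rw [e]
        exact h1)
  refine ⟨n, hn, ?_⟩
  rwa [zpowers_eq_closure, centralizer_closure] at hc

/-- Two commuting involutions on a group `W` of odd order. -/
theorem le_centralizer_of_four {W : Subgroup G} (hW : (Nat.card W).Coprime 2) {t c : G}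
    (ht : t * t = 1) (hc : c * c = 1) (htc : t * c = c * t)
    (htW : t ∈ normalizer (W : Set G)) (hcW : c ∈ normalizer (W : Set G))
    (h1 : ∀ w ∈ W, w * t = t * w → w * c = c * w)
    (h2 : ∀ w ∈ W, w * (t * c) = t * c * w → w * c = c * w) :
    W ≤ centralizer ({c} : Set G) := by
  haveI : Fact (Nat.Prime 2) := ⟨Nat.prime_two⟩
  have hu : t * c * (t * c) = 1 := by
    calc t * c * (t * c) = t * (c * t) * c := by group
      _ = t * (t * c) * c := by rw [htc]
      _ = (t * t) * (c * c) := by group
      _ = 1 := by rw [ht, hc, one_mul]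
  have hti : t⁻¹ = t := inv_eq_of_mul_eq_one_left ht
  have hci : c⁻¹ = c := inv_eq_of_mul_eq_one_left hc
  -- the statement for invariant subgroups of prime power order
  have key : ∀ (q : ℕ), q.Prime → ∀ Q : Subgroup G, Q ≤ W → IsPGroup q Q →
      t ∈ normalizer (Q : Set G) → c ∈ normalizer (Q : Set G) → Q ≤ centralizer ({c} : Set G) := by
    intro q hq Q
    haveI : Fact q.Prime := ⟨hq⟩
    induction hn : Nat.card Q using Nat.strong_induction_on generalizing Q with
    | _ n ih =>
      intro hQW hQ htQ hcQ
      rcases eq_or_ne Q ⊥ with rfl | hne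
      · exact bot_le
      haveI := hQ.isNilpotent
      set M := ⁅Q, Q⁆ with hM
      have hMle : M ≤ Q := Subgroup.commutator_le_self Q
      have hlt : M < Q := by
        refine lt_of_le_of_ne hMle fun he => hne ?_
        by_contra hne'
        haveI : Nontrivial Q := Q.nontrivial_iff_ne_bot.mpr hne'
        haveI : Group.IsPerfect Q := Subgroup.isPerfect_iff.mpr he
        exact Group.IsPerfect.not_isSolvable Q inferInstance
      have hNM : normalizer (Q : Set G) ≤ normalizer (M : Set G) := by
        intro g hg
        refine mem_normalizer_of_smul_eq_self ?_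
        rw [hM, conj_smul_eq_map, Subgroup.map_commutator, ← conj_smul_eq_map,
          smul_eq_self_of_mem_normalizer hg]
      have hMcop : (Nat.card M).Coprime 2 :=
        hW.coprime_dvd_left (Subgroup.card_dvd_of_le (hMle.trans hQW))
      have hMc : M ≤ centralizer ({c} : Set G) := ih _ (hn ▸ Set.ncard_lt_ncard hlt (Set.toFinite _))
        M rfl (hMle.trans hQW) (hQ.to_le hMle) (hNM htQ) (hNM hcQ)
      have huQ : t * c ∈ normalizer (Q : Set G) := mul_mem htQ hcQ
      intro v hv
      obtain ⟨n₁, hn₁, hf₁⟩ := exists_fixed_in_coset le_rfl hMcop ht (hNM htQ) htQ hv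
      obtain ⟨n₂, hn₂, hf₂⟩ := exists_fixed_in_coset le_rfl hMcop hu (hNM huQ) huQ hv
      have hb : t * v * t⁻¹ ∈ Q := (Subgroup.mem_normalizer_iff.mp htQ v).mp hv
      have hd : t * c * v * (t * c)⁻¹ ∈ Q := (Subgroup.mem_normalizer_iff.mp huQ v).mp hv
      have hk₁ : Commute (v * (t * v * t⁻¹)) c := by
        have h := h1 _ (mul_mem (mul_mem (hQW hv) (hQW hb)) (hQW (hMle hn₁)))
          (Subgroup.mem_centralizer_singleton_iff.mp hf₁)
        have h' : Commute (v * (t * v * t⁻¹) * n₁) c := h
        have := h'.mul_left (show Commute n₁⁻¹ c from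
          (show Commute n₁ c from Subgroup.mem_centralizer_singleton_iff.mp (hMc hn₁)).inv_left)
        rwa [mul_inv_cancel_right] at this
      have hk₂ : Commute (v * (t * c * v * (t * c)⁻¹)) c := by
        have h := h2 _ (mul_mem (mul_mem (hQW hv) (hQW hd)) (hQW (hMle hn₂)))
          (Subgroup.mem_centralizer_singleton_iff.mp hf₂)
        have h' : Commute (v * (t * c * v * (t * c)⁻¹) * n₂) c := h
        have := h'.mul_left (show Commute n₂⁻¹ c from
          (show Commute n₂ c from Subgroup.mem_centralizer_singleton_iff.mp (hMc hn₂)).inv_left)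
        rwa [mul_inv_cancel_right] at this
      set a := c * v * c⁻¹ with ha
      set b := t * v * t⁻¹ with hbdef
      set d := t * c * v * (t * c)⁻¹ with hddef
      have hcb : c * b * c⁻¹ = d := by
        rw [hbdef, hddef, show c * (t * v * t⁻¹) * c⁻¹ = (c * t) * v * (c * t)⁻¹ by group, ← htc]
      have hcd : c * d * c⁻¹ = b := by
        rw [hbdef, hddef, show c * (t * c * v * (t * c)⁻¹) * c⁻¹ = (c * t * c) * v * (c * t * c)⁻¹ by group,
          ← htc, mul_assoc t, hc, mul_one]
      have e1 : a * d = v * b := by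
        rw [← hcb, ha, show c * v * c⁻¹ * (c * b * c⁻¹) = c * (v * b) * c⁻¹ by group, hk₁.symm.eq,
          mul_inv_cancel_right]
      have e2 : a * b = v * d := by
        rw [← hcd, ha, show c * v * c⁻¹ * (c * d * c⁻¹) = c * (v * d) * c⁻¹ by group, hk₂.symm.eq,
          mul_inv_cancel_right]
      have hsq : (b * d⁻¹) * (b * d⁻¹) = 1 := by
        have e : b * d⁻¹ = d * b⁻¹ := by
          have h3 : a = v * (b * d⁻¹) := by rw [← mul_assoc, ← e1, mul_inv_cancel_right]
          have h4 : a = v * (d * b⁻¹) := by rw [← mul_assoc, ← e2, mul_inv_cancel_right]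
          exact mul_left_cancel (h3.symm.trans h4)
        nth_rewrite 2 [e]
        group
      have hbd : b * d⁻¹ = 1 := by
        refine orderOf_eq_one_iff.mp (Nat.eq_one_of_dvd_coprimes hW
          (W.orderOf_dvd_natCard (mul_mem (hQW hb) (inv_mem (hQW hd)))) ?_)
        exact orderOf_dvd_of_pow_eq_one (by rw [pow_two, hsq])
      have hav : a = v := by
        rw [← mul_inv_eq_one.mp hbd] at e1
        exact mul_right_cancel e1
      exact Subgroup.mem_centralizer_singleton_iff.mpr (mul_inv_eq_iff_eq_mul.mp hav).symm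
  -- assemble
  set A := Subgroup.closure ({t, c} : Set G) with hA
  haveI hAc : IsMulCommutative A := Subgroup.isMulCommutative_closure (by
    rintro x (rfl | rfl) y (rfl | rfl)
    exacts [rfl, htc, htc.symm, rfl])
  have hAp : IsPGroup 2 A := fun z => ⟨1, by
    have h : ∀ z ∈ A, z * z = 1 := by
      intro z hz
      induction hz using Subgroup.closure_induction with
      | mem z hz => rcases hz with rfl | rfl <;> assumption
      | one => exact one_mul 1
      | mul x y hx hy h h' =>
        have hxy : x * y = y * x := congrArg Subtype.val (mul_comm' (⟨x, hx⟩ : A) ⟨y, hy⟩)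
        calc x * y * (x * y) = x * (y * x) * y := by group
          _ = x * (x * y) * y := by rw [hxy]
          _ = (x * x) * (y * y) := by group
          _ = 1 := by rw [h, h', one_mul]
      | inv x _ h => rw [← mul_inv_rev, h, inv_one]
    exact Subtype.ext (by rw [pow_one, pow_two]; exact h z z.2)⟩
  have hAW : A ≤ normalizer (W : Set G) := by
    rw [hA, Subgroup.closure_le]
    rintro z (rfl | rfl) <;> assumption
  obtain ⟨j, hj⟩ := hAp.exists_card_eq
  have hcop : (Nat.card A).Coprime (Nat.card W) := hj ▸ hW.symm.pow_left j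
  have hdvd : Nat.card W ∣ Nat.card ↥(W ⊓ centralizer ({c} : Set G)) := by
    refine (Nat.dvd_iff_prime_pow_dvd_dvd _ _).mpr fun q k hq hk => ?_
    haveI : Fact q.Prime := ⟨hq⟩
    obtain ⟨P, hP⟩ := CfsgLib.Core.exists_invariant_sylow hAW hcop
      (Or.inl (Group.isSolvable_of_comm fun a b => mul_comm' a b)) q
    have hle : (P : Subgroup W).map W.subtype ≤ W ⊓ centralizer ({c} : Set G) :=
      le_inf (Subgroup.map_subtype_le _) (key q hq _ (Subgroup.map_subtype_le _) (P.2.map _)
        (hP (Subgroup.subset_closure (Or.inl rfl))) (hP (Subgroup.subset_closure (Or.inr rfl))))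
    refine dvd_trans ?_ (Subgroup.card_dvd_of_le hle)
    rw [Subgroup.card_map_of_injective W.subtype_injective, P.card_eq_multiplicity]
    exact pow_dvd_pow q ((hq.pow_dvd_iff_le_factorization Nat.card_pos.ne').mp hk)
  exact inf_eq_left.mp (Subgroup.eq_of_le_of_card_ge inf_le_left (Nat.le_of_dvd Nat.card_pos hdvd))

end CfsgLib.Components
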