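import Cfsg.Agent.Lib.Components.Diagonal
import Cfsg.Agent.Lib.Components.LBalanceTwo
import Cfsg.Agent.Lib.Techniques.PTerminal
import Cfsg.Prelude.Def_CaseTheorems
import Cfsg.Prelude.Def_Transfer
import Cfsg.Prelude.Def_Balance

/-!
# A maximal component is a component of the centralizers in its cocentralizer (S1305)

* `IsPermuted.exists_pow_normalizes`, `IsPermuted.centralizes_of_normalizes`;
* `maximal_component_lies`.
-/

set_option autoImplicit false
set_option linter.style.haveILetI false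

namespace CfsgLib.Components

open Subgroup
open CfsgLib.Signalizer
open scoped commutatorElement Pointwise

namespace IsPermuted

variable {G : Type*} [Group G] [Finite G] {p : ℕ} [hp : Fact p.Prime] {x : G} {J : Subgroup G}

/-- Elements centralizing the diagonal permute the orbit. -/
theorem exists_pow_normalizes (h : IsPermuted p x J) {q : G}
    (hq : q ∈ centralizer (h.diagHom.range : Set G)) :
    ∃ j : ℕ, (x ^ j)⁻¹ * q ∈ normalizer (J : Set G) := by
  by_cases hj : ∃ j : ℕ, MulAut.conj q • J = MulAut.conj (x ^ j) • J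
  · obtain ⟨j, hj⟩ := hj
    refine ⟨j, mem_normalizer_of_smul_eq_self ?_⟩
    rw [map_mul, mul_smul, hj, ← mul_smul, map_inv, inv_mul_cancel, one_smul]
  · push Not at hj
    refine absurd ?_ h.diag_not_commute
    rw [Subgroup.commutator_eq_bot_iff_le_centralizer]
    intro r hr
    refine Subgroup.mem_centralizer_iff.mpr fun m hm => ?_
    have h1 : (⨆ i : ℕ, MulAut.conj (x ^ i) • J) ≤
        centralizer ((MulAut.conj q • J : Subgroup G) : Set G) := iSup_le fun i => by
      rw [← Subgroup.commutator_eq_bot_iff_le_centralizer]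
      exact components_commute (h.isComponent_conj_pow i) (isComponent_conj h.comp _) (hj i).symm
    have h2 : Commute (q * m * q⁻¹) r := Subgroup.mem_centralizer_iff.mp (h1 (h.diag_le_iSup hr)) _
      (Subgroup.smul_mem_pointwise_smul m (MulAut.conj q) _ hm)
    have h3 : Commute q r := (Subgroup.mem_centralizer_iff.mp hq r hr).symm
    have := (h3.inv_left.mul_left h2).mul_left h3
    rwa [show q⁻¹ * (q * m * q⁻¹) * q = m by group] at this

/-- Elements fixing the diagonal and normalizing `J` centralize it, if the diagonal is faithful. -/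
theorem centralizes_of_normalizes (h : IsPermuted p x J) (hinj : Function.Injective h.diagHom) {q : G}
    (hqx : q * x = x * q) (hq : q ∈ centralizer (h.diagHom.range : Set G))
    (hN : q ∈ normalizer (J : Set G)) : q ∈ centralizer (J : Set G) := by
  refine Subgroup.mem_centralizer_iff.mpr fun m hm => ?_
  have hm' : q * m * q⁻¹ ∈ J := (Subgroup.mem_normalizer_iff.mp hN m).mp hm
  have h1 : h.diagHom ⟨q * m * q⁻¹, hm'⟩ = h.diagHom ⟨m, hm⟩ := by
    show orbitProd x p (q * m * q⁻¹) = orbitProd x p m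
    rw [← IsPermuted.orbitProd_conj hqx, ← Subgroup.mem_centralizer_iff.mp hq (orbitProd x p m)
      ⟨⟨m, hm⟩, rfl⟩, mul_inv_cancel_right]
  exact (mul_inv_eq_iff_eq_mul.mp (congrArg Subtype.val (hinj h1))).symm

end IsPermuted

variable {G : Type*} [Group G] [Finite G]

/-- An abelian subgroup of exponent `2` and order at least `4`, from the rank bound. -/
theorem exists_four_of_not_rank_one {H : Type*} [Group H] (h : ¬ Cfsg.PRankLE 2 1 H) :
    ∃ A : Subgroup H, IsMulCommutative A ∧ (∀ a ∈ A, a ^ 2 = 1) ∧ 2 < Nat.card A := by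
  rw [Cfsg.PRankLE] at h
  push Not at h
  simpa using h

theorem maximal_component_lies (hO : Cfsg.oddCore G = ⊥) (hB : Cfsg.HasBProperty G) {a : G}
    (ha : orderOf a = 2) {K : Subgroup G} (hKa : K ≤ centralizer ({a} : Set G))
    (hK : Cfsg.IsComponent (K.subgroupOf (centralizer ({a} : Set G))))
    (hmax : ∀ y : G, orderOf y = 2 → ∀ K' : Subgroup G, K' ≤ centralizer ({y} : Set G) →
      Cfsg.IsComponent (K'.subgroupOf (centralizer ({y} : Set G))) →
      Nat.card ↥K' ≤ Nat.card ↥K ∧ (Nat.card ↥K' = Nat.card ↥K → ∀ k : ℕ,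
        Cfsg.PRankLE 2 k ↥(centralizer ({a} : Set G) ⊓ centralizer (K : Set G)) →
        Cfsg.PRankLE 2 k ↥(centralizer ({y} : Set G) ⊓ centralizer (K' : Set G))))
    (hrk : ¬ Cfsg.PRankLE 2 1 ↥K) {B : Subgroup G}
    (hBle : B ≤ centralizer ({a} : Set G) ⊓ centralizer (K : Set G))
    (hBel : Cfsg.IsElementaryAbelian 2 B)
    (hBmax : ∀ B' : Subgroup G, B' ≤ centralizer ({a} : Set G) ⊓ centralizer (K : Set G) →
      Cfsg.IsElementaryAbelian 2 B' → Nat.card ↥B' ≤ Nat.card ↥B)
    {b : G} (hb : b ∈ B) (hb1 : b ≠ 1) :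
    K ≤ centralizer ({b} : Set G) ∧
      Cfsg.IsComponent (K.subgroupOf (centralizer ({b} : Set G))) := by
  haveI : Fact (Nat.Prime 2) := ⟨Nat.prime_two⟩
  have hbo : orderOf b = 2 := orderOf_eq_prime (hBel.2 b hb) hb1
  set H := centralizer ({b} : Set G) with hH
  have hKH : K ≤ H := fun k hk => Subgroup.mem_centralizer_singleton_iff.mpr
    (Subgroup.mem_centralizer_iff.mp (hBle hb).2 k hk)
  refine ⟨hKH, ?_⟩
  have hab : a * b = b * a := (Subgroup.mem_centralizer_singleton_iff.mp (hBle hb).1).symm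
  set ac : H := ⟨a, Subgroup.mem_centralizer_singleton_iff.mpr hab⟩ with hac
  have hac2 : orderOf ac = 2 := by rw [hac, Subgroup.orderOf_mk, ha]
  -- `K` has even order
  obtain ⟨A₀, hA₀c, hA₀e, hA₀⟩ := exists_four_of_not_rank_one hrk
  have hKq : Cfsg.IsQuasisimple K := IsQuasisimple.congr (Subgroup.subgroupOfEquivOfLe hKa) hK.2
  have hK2 : 2 ∣ Nat.card K := by
    haveI : Nontrivial A₀ := Finite.one_lt_card_iff_nontrivial.mp (by omega)
    obtain ⟨⟨z, hz⟩, hz1⟩ := exists_ne (1 : A₀)
    have h2 : orderOf z = 2 := orderOf_eq_prime (hA₀e z hz) fun h => hz1 (Subtype.ext h)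
    exact h2 ▸ orderOf_dvd_natCard z
  -- `K` as a 2-component of `C(a) ∩ C(b)`
  set K' := K.subgroupOf H with hK'
  have hK'q : Cfsg.IsQuasisimple K' := IsQuasisimple.congr (Subgroup.subgroupOfEquivOfLe hKH).symm hKq
  have hK'2 : 2 ∣ Nat.card K' := by
    rwa [Nat.card_congr (Subgroup.subgroupOfEquivOfLe hKH).toEquiv]
  have hK'C : K' ≤ centralizer ({ac} : Set H) := fun k hk => Subgroup.mem_centralizer_singleton_iff.mpr
    (Subtype.ext (Subgroup.mem_centralizer_singleton_iff.mp (hKa hk)))
  have hK'sn : (K'.subgroupOf (centralizer ({ac} : Set H))).IsSubnormal :=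
    hK.1.comap ((H.subtype.comp (centralizer ({ac} : Set H)).subtype).codRestrict
      (centralizer ({a} : Set G)) fun z => Subgroup.mem_centralizer_singleton_iff.mpr
        (congrArg Subtype.val (Subgroup.mem_centralizer_singleton_iff.mp z.2)))
  have hK'p : Cfsg.IsPComponentOf 2 K' (centralizer ({ac} : Set H)) := by
    refine isPComponentOf_iff.mpr ⟨hK'C, hK'sn, ?_, ?_⟩
    · refine le_antisymm (pGen_le K') (Subgroup.subgroupOf_eq_top.mp
        (quasisimple_normal_eq_top_of_pElements hK'q hK'2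
          ((Subgroup.normal_subgroupOf_iff_le_normalizer (pGen_le K')).mpr
            (Subgroup.le_normalizer.trans (normalizer_le_normalizer_pGen K')))
          fun z k hk => mem_pGen z.2 (k := k) (by simpa using congrArg Subtype.val hk)))
    · haveI := pPrimeCore_normal (G := K') 2
      refine IsQuasisimple.quotient hK'q fun h => ?_
      have h1 := pPrimeCore_coprime (G := K') 2
      rw [h, Subgroup.card_top] at h1
      exact Nat.Prime.coprime_iff_not_dvd Nat.prime_two |>.mp h1.symm hK'2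
  have hbB := hB b hbo
  rw [hO, le_bot_iff, Subgroup.map_eq_bot_iff_of_injective _ H.subtype_injective] at hbB
  have hLE : Cfsg.pLayer 2 H ≤ Cfsg.layer H := sSup_le fun L hL =>
    le_layer ((Techniques.isComponent_iff_commutes hL).mpr
      (le_bot_iff.mp ((Subgroup.commutator_mono (pComponent_le_pLayer hL) le_rfl).trans hbB.le)))
  have hK'E : K' ≤ Cfsg.layer H := by
    refine le_trans ?_ hLE
    have hT : IsPGroup 2 (zpowers ac) :=
      IsPGroup.of_card (n := 1) (by rw [Nat.card_zpowers, hac2, pow_one])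
    have h1 := pLayer_two_centralizer_le hT
    rw [zpowers_eq_closure, centralizer_closure] at h1
    refine le_trans ?_ h1
    rw [← Subgroup.map_subgroupOf_eq_of_le hK'C]
    exact Subgroup.map_mono (pComponent_le_pLayer hK'p.2)
  obtain ⟨J, hJ, ⟨-, hKJ⟩ | ⟨h, hKeq⟩⟩ := pumpUp_dichotomy hac2 hK'p hK'E
  · have hJH : J.map H.subtype ≤ H := Subgroup.map_subtype_le J
    have hJeq : (J.map H.subtype).subgroupOf H = J :=
      Subgroup.comap_map_eq_self_of_injective H.subtype_injective J
    have hcard := (hmax b hbo (J.map H.subtype) hJH (by rw [hJeq]; exact hJ)).1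
    rw [Subgroup.card_map_of_injective H.subtype_injective,
      ← Nat.card_congr (Subgroup.subgroupOfEquivOfLe hKH).toEquiv] at hcard
    rwa [show K' = J from Subgroup.eq_of_le_of_card_ge hKJ hcard]
  exfalso
  set JG := J.map H.subtype with hJG
  have hJcard : Nat.card JG = Nat.card J := Subgroup.card_map_of_injective H.subtype_injective
  have hJc : Cfsg.IsComponent (JG.subgroupOf H) := by
    rw [hJG, Subgroup.subgroupOf, Subgroup.comap_map_eq_self_of_injective H.subtype_injective]
    exact hJ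
  obtain ⟨hJle, hJrank⟩ := hmax b hbo JG (Subgroup.map_subtype_le J) hJc
  have hKcard : Nat.card K = Nat.card h.diagHom.range := by
    rw [← hKeq, hK', Nat.card_congr (Subgroup.subgroupOfEquivOfLe hKH).toEquiv]
  have hge : Nat.card h.diagHom.range ≤ Nat.card J :=
    Nat.card_le_card_of_surjective _ h.diagHom.rangeRestrict_surjective
  have heq : Nat.card J = Nat.card h.diagHom.range := by omega
  have hinj : Function.Injective h.diagHom := fun u v huv =>
    ((Nat.bijective_iff_surjective_and_card h.diagHom.rangeRestrict).mpr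
      ⟨h.diagHom.rangeRestrict_surjective, heq⟩).1 (Subtype.ext huv)
  -- `|B| = 2 ^ k`
  have hBp : IsPGroup 2 B := fun z => ⟨1, Subtype.ext (by
    rw [pow_one, SubgroupClass.coe_pow]; exact hBel.2 z z.2)⟩
  obtain ⟨k, hk⟩ := hBp.exists_card_eq
  have hBrank : Cfsg.PRankLE 2 k ↥(centralizer ({a} : Set G) ⊓ centralizer (K : Set G)) := by
    intro A hAc hAe
    rw [← hk]
    refine (Subgroup.card_map_of_injective (Subgroup.subtype_injective _)).symm.trans_le
      (hBmax (A.map (Subgroup.subtype _)) (Subgroup.map_subtype_le A) ⟨inferInstance, ?_⟩)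
    rintro _ ⟨z, hz, rfl⟩
    rw [← map_pow, hAe z hz, map_one]
  -- `a ∈ B`
  have haB : a ∈ B := by
    by_contra haB
    have hac' : ∀ z ∈ B, z * a = a * z := fun z hz =>
      Subgroup.mem_centralizer_singleton_iff.mp (hBle hz).1
    set B' := Subgroup.closure ((B : Set G) ∪ {a}) with hB'
    have hB'le : B' ≤ centralizer ({a} : Set G) ⊓ centralizer (K : Set G) := by
      rw [hB', Subgroup.closure_le]
      rintro z (hz | rfl)
      · exact hBle hz
      · exact ⟨Subgroup.mem_centralizer_singleton_iff.mpr rfl, Subgroup.mem_centralizer_iff.mpr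
          fun k hk => Subgroup.mem_centralizer_singleton_iff.mp (hKa hk)⟩
    haveI := hBel.1
    haveI hB'c : IsMulCommutative B' := Subgroup.isMulCommutative_closure (by
      rintro z (hz | rfl) w (hw | rfl)
      · exact congrArg Subtype.val (mul_comm' (⟨z, hz⟩ : B) ⟨w, hw⟩)
      · exact hac' z hz
      · exact (hac' w hw).symm
      · rfl)
    have hB'e : Cfsg.IsElementaryAbelian 2 B' := by
      refine ⟨hB'c, fun z hz => ?_⟩
      induction hz using Subgroup.closure_induction with
      | mem z hz =>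
        rcases hz with hz | rfl
        · exact hBel.2 z hz
        · exact ha ▸ pow_orderOf_eq_one z
      | one => exact one_pow 2
      | mul z w hzm hwm hz hw =>
        rw [(show Commute z w from congrArg Subtype.val
          (mul_comm' (⟨z, hzm⟩ : B') ⟨w, hwm⟩)).mul_pow, hz, hw, one_mul]
      | inv z _ hz => rw [inv_pow, hz, inv_one]
    have hlt : B < B' := lt_of_le_of_ne (fun z hz => Subgroup.subset_closure (Or.inl hz))
      fun he => haB (he ▸ Subgroup.subset_closure (Or.inr rfl))
    exact absurd (hBmax B' hB'le hB'e) (not_le.mpr (Set.ncard_lt_ncard hlt (Set.toFinite _)))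
  -- `B₀ = B ∩ N(J)` centralizes `J`, of index at most 2
  haveI := hBel.1
  have hBH : B ≤ H := fun z hz => Subgroup.mem_centralizer_singleton_iff.mpr
    (congrArg Subtype.val (mul_comm' (⟨z, hz⟩ : B) ⟨b, hb⟩))
  have hBR : ∀ z (hz : z ∈ B), (⟨z, hBH hz⟩ : H) ∈ centralizer (h.diagHom.range : Set H) := fun z hz =>
    Subgroup.mem_centralizer_iff.mpr fun r hr => Subtype.ext
      (Subgroup.mem_centralizer_iff.mp (hBle hz).2 r (show r ∈ K' from hKeq ▸ hr))
  set B₀ := B.subgroupOf H ⊓ normalizer (J : Set H) with hB₀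
  have hBcard : Nat.card B ≤ 2 * Nat.card B₀ := by
    have haB' : ac ∈ B.subgroupOf H := haB
    have hsurj : Function.Surjective fun wt : zpowers ac × B₀ =>
        (⟨(wt.1 : H) * wt.2, mul_mem (Subgroup.zpowers_le.mpr haB' wt.1.2)
          (Subgroup.mem_inf.mp wt.2.2).1⟩ : ↥(B.subgroupOf H)) := by
      rintro ⟨q, hq⟩
      obtain ⟨j, hj⟩ := h.exists_pow_normalizes (q := q) (hBR q hq)
      exact ⟨(⟨ac ^ j, Subgroup.npow_mem_zpowers _ j⟩,
        ⟨(ac ^ j)⁻¹ * q, Subgroup.mem_inf.mpr ⟨mul_mem (inv_mem (pow_mem haB' j)) hq, hj⟩⟩),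
        Subtype.ext (mul_inv_cancel_left _ _)⟩
    have := Nat.card_le_card_of_surjective _ hsurj
    rwa [Nat.card_prod, Nat.card_zpowers, hac2,
      Nat.card_congr (Subgroup.subgroupOfEquivOfLe hBH).toEquiv] at this
  have hB₀J : ∀ z ∈ B₀, z ∈ centralizer (J : Set H) := fun z hz =>
    h.centralizes_of_normalizes hinj (Subtype.ext (Subgroup.mem_centralizer_singleton_iff.mp
      (hBle (Subgroup.mem_inf.mp hz).1).1)) (hBR _ (Subgroup.mem_inf.mp hz).1) (Subgroup.mem_inf.mp hz).2
  -- a four group in the conjugate component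
  set e : K ≃* J := (Subgroup.subgroupOfEquivOfLe hKH).symm.trans
    ((MulEquiv.subgroupCongr hKeq).trans (MonoidHom.ofInjective hinj).symm)
  set A := ((A₀.map e.toMonoidHom).map J.subtype).map (MulAut.conj ac).toMonoidHom with hA
  have hAcard : Nat.card A = Nat.card A₀ := by
    rw [hA, Subgroup.card_map_of_injective (MulAut.conj ac).injective,
      Subgroup.card_map_of_injective J.subtype_injective,
      Subgroup.card_map_of_injective (f := e.toMonoidHom) e.injective]
  have hAJ : ∀ z ∈ A, z ∈ MulAut.conj (ac ^ 1) • J := by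
    rintro _ ⟨_, ⟨m, -, rfl⟩, rfl⟩
    rw [pow_one]
    exact Subgroup.smul_mem_pointwise_smul (m : H) (MulAut.conj ac) J m.2
  have hA2 : ∀ z ∈ A, z ^ 2 = 1 := by
    rintro _ ⟨_, ⟨_, ⟨w, hw, rfl⟩, rfl⟩, rfl⟩
    rw [← map_pow, ← map_pow, ← map_pow, hA₀e w hw, map_one, map_one, map_one]
  haveI hAc : IsMulCommutative A := inferInstance
  have hAC : A ≤ centralizer (J : Set H) := fun z hz => Subgroup.mem_centralizer_iff.mpr fun m hm =>
    (h.comm (i := 1) (j := 0) one_ne_zero one_lt_two two_pos (hAJ z hz) (by simpa using hm)).symm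
  have hB₀A : ∀ z ∈ B₀, ∀ w ∈ A, z * w = w * z := by
    intro z hz w hw
    have hzc := hB₀J z hz
    have hza : Commute z ac := Subtype.ext (Subgroup.mem_centralizer_singleton_iff.mp
      (hBle (Subgroup.mem_inf.mp hz).1).1)
    obtain ⟨m, hm, rfl⟩ := hw
    obtain ⟨m', -, rfl⟩ := hm
    exact ((hza.mul_right (Subgroup.mem_centralizer_iff.mp hzc m' m'.2).symm).mul_right
      hza.inv_right).eq
  have hAB : A ⊓ B₀ = ⊥ := by
    refine (Subgroup.eq_bot_iff_forall _).mpr fun z hz => ?_
    obtain ⟨⟨m, hm, rfl⟩, hzB⟩ := Subgroup.mem_inf.mp hz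
    obtain ⟨m', -, rfl⟩ := hm
    have hza : Commute ((MulAut.conj ac).toMonoidHom (m' : H)) ac :=
      Subtype.ext (Subgroup.mem_centralizer_singleton_iff.mp (hBle (Subgroup.mem_inf.mp hzB).1).1)
    have hfix : ac * (m' : H) * ac⁻¹ = m' := by
      have h1 : ac * (m' : H) * ac⁻¹ * ac = ac * (ac * (m' : H) * ac⁻¹) := hza.eq
      rw [inv_mul_cancel_right] at h1
      exact (mul_left_cancel h1).symm
    have hz2 := hA2 _ (Subgroup.mem_inf.mp hz).1
    change (ac * (m' : H) * ac⁻¹) ^ 2 = 1 at hz2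
    show ac * (m' : H) * ac⁻¹ = 1
    rw [hfix, sq] at hz2
    rw [hfix]
    have h3 : h.diagHom m' = 1 := by
      show orbitProd ac 2 (m' : H) = 1
      simp only [orbitProd, pow_zero, one_mul, inv_one, mul_one, pow_one]
      rw [hfix, hz2]
    exact congrArg Subtype.val (hinj (h3.trans (map_one _).symm))
  -- the elementary group `E`
  have hn : B₀ ≤ normalizer (A : Set H) := fun z hz => Subgroup.centralizer_le_normalizer _
    (Subgroup.mem_centralizer_iff.mpr fun w hw => (hB₀A z hz w hw).symm)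
  set E := A ⊔ B₀ with hE
  have hEmem : ∀ z ∈ E, ∃ u ∈ A, ∃ v ∈ B₀, u * v = z := by
    intro z hz
    have : z ∈ ((A ⊔ B₀ : Subgroup H) : Set H) := hz
    rw [Subgroup.coe_mul_of_right_le_normalizer_left A B₀ hn] at this
    exact this
  have hEcard : Nat.card A * Nat.card B₀ = Nat.card E := by
    have := Core.card_sup_mul_card_inf B₀ A hn
    rw [inf_comm, hAB, Subgroup.card_bot, mul_one, sup_comm, ← hE] at this
    rw [mul_comm]
    exact this.symm
  have hB₀c : ∀ v ∈ B₀, ∀ v' ∈ B₀, Commute v v' := fun v hv v' hv' => by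
    refine Subtype.ext ?_
    show (v : G) * v' = v' * v
    exact congrArg Subtype.val
      (mul_comm' (⟨v, (Subgroup.mem_inf.mp hv).1⟩ : B) ⟨v', (Subgroup.mem_inf.mp hv').1⟩)
  have hAcomm : ∀ u ∈ A, ∀ u' ∈ A, Commute u u' := fun u hu u' hu' =>
    congrArg Subtype.val (mul_comm' (⟨u, hu⟩ : A) ⟨u', hu'⟩)
  have hEc : ∀ z ∈ E, ∀ z' ∈ E, Commute z z' := fun z hz z' hz' => by
    obtain ⟨u, hu, v, hv, rfl⟩ := hEmem z hz
    obtain ⟨u', hu', v', hv', rfl⟩ := hEmem z' hz'
    exact ((hAcomm u hu u' hu').mul_right (show Commute u v' from (hB₀A v' hv' u hu).symm)).mul_left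
      ((show Commute v u' from hB₀A v hv u' hu').mul_right (hB₀c v hv v' hv'))
  have hEle : E.map H.subtype ≤ centralizer ({b} : Set G) ⊓ centralizer (JG : Set G) := by
    refine le_inf (Subgroup.map_subtype_le E) ?_
    rintro _ ⟨z, hz, rfl⟩
    obtain ⟨u, hu, v, hv, rfl⟩ := hEmem z hz
    refine Subgroup.mem_centralizer_iff.mpr ?_
    rintro _ ⟨m, hm, rfl⟩
    exact congrArg Subtype.val (Subgroup.mem_centralizer_iff.mp (mul_mem (hAC hu) (hB₀J v hv)) m hm)
  have hle := hJrank (by omega) k hBrank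
    ((E.map H.subtype).subgroupOf (centralizer ({b} : Set G) ⊓ centralizer (JG : Set G)))
    ⟨⟨fun u v => by
      obtain ⟨⟨u, hu'⟩, z, hz, hzu⟩ := u
      obtain ⟨⟨v, hv'⟩, z', hz', hzv⟩ := v
      refine Subtype.ext (Subtype.ext ?_)
      show u * v = v * u
      rw [← show (z : G) = u from hzu, ← show (z' : G) = v from hzv]
      exact congrArg Subtype.val (hEc z hz z' hz')⟩⟩
    (by
      rintro u ⟨z, hz, hzu⟩
      obtain ⟨w, hw, v, hv, rfl⟩ := hEmem z hz
      refine Subtype.ext ?_
      rw [Subgroup.coe_pow, ← show _ = (u : G) from hzu, ← map_pow,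
        (show Commute w v from (hB₀A v hv w hw).symm).mul_pow, hA2 w hw, one_mul, map_pow,
        Subgroup.coe_one]
      exact hBel.2 _ (Subgroup.mem_inf.mp hv).1)
  rw [Nat.card_congr (Subgroup.subgroupOfEquivOfLe hEle).toEquiv,
    Subgroup.card_map_of_injective H.subtype_injective, ← hEcard, hAcard, ← hk] at hle
  have h0 : 0 < Nat.card B₀ := Nat.card_pos
  nlinarith

end CfsgLib.Components
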