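import Cfsg.Agent.Lib.PGroups.Basic
import Mathlib.Algebra.Order.Chebyshev

/-!
# 2-groups in which only involutions are real (S4029)
-/

set_option autoImplicit false
set_option linter.style.haveILetI false

namespace CfsgLib.RealFree

open Subgroup

variable {P : Type*} [Group P] [Finite P]

theorem card_fiber_mul (c : ConjClasses P) [Fintype P] [DecidableEq (ConjClasses P)] :
    ∑ g ∈ Finset.univ.filter (fun g : P => ConjClasses.mk g = c),
      Nat.card (centralizer ({g} : Set P)) = Nat.card P := by
  classical
  obtain ⟨g₀, rfl⟩ := ConjClasses.mk_surjective c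
  have hconst : ∀ g ∈ Finset.univ.filter (fun g : P => ConjClasses.mk g = ConjClasses.mk g₀),
      Nat.card (centralizer ({g} : Set P)) = Nat.card (centralizer ({g₀} : Set P)) := by
    intro g hg
    obtain ⟨a, ha⟩ := isConj_iff.mp (ConjClasses.mk_eq_mk_iff_isConj.mp (Finset.mem_filter.mp hg).2)
    have : centralizer ({g₀} : Set P) = (centralizer ({g} : Set P)).map (MulAut.conj a).toMonoidHom := by
      rw [← ha]
      ext x
      rw [Subgroup.map_equiv_eq_comap_symm', mem_comap, mem_centralizer_singleton_iff,
        mem_centralizer_singleton_iff]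
      simp only [MulEquiv.coe_toMonoidHom, MulAut.conj_symm_apply]
      constructor
      · intro h
        rw [show a⁻¹ * x * a * g = a⁻¹ * (x * (a * g * a⁻¹)) * a by group, h]
        group
      · intro h
        rw [show x * (a * g * a⁻¹) = a * (a⁻¹ * x * a * g) * a⁻¹ by group, h]
        group
    rw [this]
    exact (Nat.card_congr (equivMapOfInjective _ _ (MulAut.conj a).injective).toEquiv)
  rw [Finset.sum_const_nat hconst, Nat.card_eq_fintype_card (α := P),
    ← MulAction.card_orbit_mul_card_stabilizer_eq_card_group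
    (ConjAct P) g₀ |>.trans ConjAct.card, ← Nat.card_eq_fintype_card]
  congr 1
  · rw [← Fintype.card_subtype, ← Nat.card_eq_fintype_card]
    refine Nat.card_congr (Equiv.subtypeEquiv (Equiv.refl P) fun g => ?_)
    rw [ConjAct.mem_orbit_conjAct, ConjClasses.mk_eq_mk_iff_isConj]
    rfl
  · rw [← Nat.card_eq_fintype_card]
    refine Nat.card_congr (Equiv.subtypeEquiv ConjAct.toConjAct.toEquiv fun g => ?_)
    rw [mem_centralizer_singleton_iff, MulAction.mem_stabilizer_iff, ConjAct.smul_def]
    exact (mul_inv_eq_iff_eq_mul (a := g * g₀) (b := g) (c := g₀)).symm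

theorem frattini_index_le (hP : IsPGroup 2 P)
    (hirr : ∀ y : P, normalizer ((zpowers y : Subgroup P) : Set P) ≤ centralizer {y}) :
    Nat.card (P ⧸ frattini P) ≤ Nat.card {c : ConjClasses P // ∃ y : P, ConjClasses.mk y = c ∧
      y * y = 1} := by
  classical
  haveI : Fact (Nat.Prime 2) := ⟨Nat.prime_two⟩
  haveI := Fintype.ofFinite P
  set sq : P → ℕ := fun w => (Finset.univ.filter fun h : P => h * h = w).card with hsq
  -- pairs with equal squares = pairs (g, h) with h inverting g
  have hpairs : ∑ g : P, (Finset.univ.filter fun h : P => (h * g) * (h * g) = h * h).card =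
      ∑ w : P, sq w ^ 2 := by
    simp only [Finset.card_filter]
    rw [Finset.sum_comm]
    calc ∑ h : P, ∑ g : P, (if h * g * (h * g) = h * h then 1 else 0)
        = ∑ h : P, sq (h * h) := by
          refine Finset.sum_congr rfl fun h _ => ?_
          rw [hsq]
          simp only [Finset.card_filter]
          exact Fintype.sum_equiv (Equiv.mulLeft h) _ _ fun g => rfl
      _ = ∑ w : P, ∑ h ∈ Finset.univ.filter (fun h : P => h * h = w), sq (h * h) :=
          (Finset.sum_fiberwise _ _ _).symm
      _ = ∑ w : P, sq w ^ 2 := by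
          refine Finset.sum_congr rfl fun w _ => ?_
          rw [Finset.sum_congr rfl (fun h hh => congrArg sq (Finset.mem_filter.mp hh).2),
            Finset.sum_const, smul_eq_mul, pow_two]
  have hinv : ∀ g : P, (Finset.univ.filter fun h : P => (h * g) * (h * g) = h * h).card =
      if g * g = 1 then Nat.card (centralizer ({g} : Set P)) else 0 := by
    intro g
    have hiff : ∀ h : P, (h * g) * (h * g) = h * h ↔ g * h * g = h := fun h => by
      rw [show h * g * (h * g) = h * (g * h * g) by group, mul_right_inj]
    split_ifs with hg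
    · rw [Nat.card_eq_fintype_card, ← Fintype.card_subtype]
      refine Fintype.card_congr (Equiv.subtypeEquivRight fun h => ?_)
      rw [hiff, mem_centralizer_singleton_iff]
      constructor
      · intro e
        calc h * g = g * h * g * g := by rw [e]
          _ = g * h := by rw [mul_assoc, hg, mul_one]
      · intro e
        rw [← e, mul_assoc, hg, mul_one]
    · rw [Finset.card_eq_zero, Finset.filter_eq_empty_iff]
      intro h _ e
      rw [hiff] at e
      have hconj : h * g * h⁻¹ = g⁻¹ := by
        calc h * g * h⁻¹ = g⁻¹ * (g * h * g) * h⁻¹ := by group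
          _ = g⁻¹ := by rw [e, mul_inv_cancel_right]
      have hmem : h ∈ normalizer ((zpowers g : Subgroup P) : Set P) := by
        rw [mem_normalizer_iff_map_conj_eq, MonoidHom.map_zpowers]
        show zpowers (h * g * h⁻¹) = zpowers g
        rw [hconj, zpowers_inv]
      have hc := mem_centralizer_singleton_iff.mp (hirr g hmem)
      rw [hc, mul_inv_cancel_right] at hconj
      exact hg (eq_inv_iff_mul_eq_one.mp hconj)
  have htotal : ∑ w : P, sq w = Nat.card P := by
    rw [Nat.card_eq_fintype_card, ← Finset.card_univ]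
    exact (Finset.card_eq_sum_card_fiberwise fun h _ => Finset.mem_univ (h * h)).symm
  set Φ := Finset.univ.filter fun w : P => w ∈ frattini P with hΦ
  have hsupp : ∑ w : P, sq w = ∑ w ∈ Φ, sq w := by
    refine (Finset.sum_subset (Finset.subset_univ _) fun w _ hw => ?_).symm
    rw [hsq, Finset.card_eq_zero, Finset.filter_eq_empty_iff]
    intro h _ e
    apply hw
    rw [hΦ, Finset.mem_filter, ← e, ← pow_two]
    exact ⟨Finset.mem_univ _, CfsgLib.PGroups.pow_mem_frattini hP h⟩
  have hcs : (Nat.card P) ^ 2 ≤ Φ.card * ∑ w : P, sq w ^ 2 := by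
    rw [← htotal, hsupp]
    exact sq_sum_le_card_mul_sum_sq.trans
      (Nat.mul_le_mul_left _ (Finset.sum_le_sum_of_subset (Finset.subset_univ _)))
  have hΦcard : Φ.card = Nat.card (frattini P) := by
    rw [Nat.card_eq_fintype_card, hΦ, Fintype.card_subtype]
  have hclasses : ∑ g : P, (if g * g = 1 then Nat.card (centralizer ({g} : Set P)) else 0) =
      Nat.card {c : ConjClasses P // ∃ y : P, ConjClasses.mk y = c ∧ y * y = 1} * Nat.card P := by
    rw [← Finset.sum_fiberwise Finset.univ (fun g : P => ConjClasses.mk g)]
    rw [Nat.card_eq_fintype_card (α := {c : ConjClasses P // _}), Fintype.card_subtype,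
      Finset.card_filter, Finset.sum_mul]
    refine Finset.sum_congr rfl fun c _ => ?_
    by_cases hc : ∃ y : P, ConjClasses.mk y = c ∧ y * y = 1
    · rw [if_pos hc, one_mul, ← card_fiber_mul c]
      refine Finset.sum_congr rfl fun g hg => if_pos ?_
      obtain ⟨y, hy, hy2⟩ := hc
      obtain ⟨a, ha⟩ := isConj_iff.mp
        (ConjClasses.mk_eq_mk_iff_isConj.mp (hy.trans (Finset.mem_filter.mp hg).2.symm))
      rw [← ha, show a * y * a⁻¹ * (a * y * a⁻¹) = a * (y * y) * a⁻¹ by group, hy2, mul_one,
        mul_inv_cancel]
    · rw [if_neg hc, zero_mul]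
      exact Finset.sum_eq_zero fun g hg => if_neg fun h2 => hc ⟨g, (Finset.mem_filter.mp hg).2, h2⟩
  rw [← hpairs, Finset.sum_congr rfl (fun g _ => hinv g), hclasses, hΦcard,
    (frattini P).card_eq_card_quotient_mul_card_subgroup, pow_two] at hcs
  set a := Nat.card (P ⧸ frattini P)
  set b := Nat.card (frattini P)
  have hb : 0 < b := Nat.card_pos
  have ha : 0 < a := Nat.card_pos
  refine Nat.le_of_mul_le_mul_right (c := b * (a * b)) ?_ (by positivity)
  calc a * (b * (a * b)) = a * b * (a * b) := by ring
    _ ≤ _ := hcs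
    _ = _ := by ring

end CfsgLib.RealFree
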