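import Cfsg.Agent.Lib.Sporadic.RuInv.Elements
import Cfsg.Agent.Lib.Sporadic.RuOut.Main
import Cfsg.Agent.Lib.Schur.CoverUnique
import Cfsg.Agent.Lib.Components.StandardClosure
import Cfsg.Agent.Lib.ZStar.Main

/-!
# A standard double cover of the Rudvalis group with cyclic Sylow centralizer is normal

The central involution is isolated: a commuting conjugate lies in the standard subgroup, by a commutator
invariant and the classes of squares, and three configurations of commuting involutions exclude each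
possible set of classes it could lie in.
-/

set_option autoImplicit false
set_option linter.style.haveILetI false
set_option maxHeartbeats 1000000

namespace CfsgLib.Components.RudvalisStandard

open Cfsg CfsgLib.Sporadic
open CfsgLib.Sporadic.RuInv
open scoped commutatorElement

universe u

/-- The commutators of a group with cyclic Sylow 2-subgroups have odd order. -/
theorem odd_commutator {H : Type*} [Group H] [Finite H]
    (hcyc : ∀ R : Sylow 2 H, IsCyclic ↥(R : Subgroup H)) (x y : H) : Odd (orderOf ⁅x, y⁆) := by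
  haveI : Fact (Nat.Prime 2) := ⟨Nat.prime_two⟩
  by_cases he : 2 ∣ Nat.card H
  · obtain ⟨R⟩ : Nonempty (Sylow 2 H) := inferInstance
    have hmin : (Nat.card H).minFac = 2 := (Nat.minFac_eq_two_iff _).2 he
    haveI := hcyc R
    have hle := IsCyclic.normalizer_le_centralizer hmin (hcyc R)
    have hk : ⁅x, y⁆ ∈ (MonoidHom.transferSylow R hle).ker := by
      obtain ⟨g, hg⟩ := IsCyclic.exists_generator (α := ↥(R : Subgroup H))
      have hcom : ∀ u v : ↥(R : Subgroup H), u * v = v * u := fun u v => by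
        obtain ⟨i, rfl⟩ := Subgroup.mem_zpowers_iff.1 (hg u)
        obtain ⟨j, rfl⟩ := Subgroup.mem_zpowers_iff.1 (hg v)
        rw [← zpow_add, ← zpow_add, add_comm]
      rw [MonoidHom.mem_ker, map_commutatorElement, commutatorElement_eq_one_iff_mul_comm]
      exact hcom _ _
    exact Nat.not_even_iff_odd.1 fun h => MonoidHom.not_dvd_card_ker_transferSylow R hle
      ((even_iff_two_dvd.1 h).trans (Subgroup.orderOf_dvd_natCard _ hk))
  · exact (Nat.odd_iff.2 (by omega)).of_dvd_nat (orderOf_dvd_natCard ⁅x, y⁆)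

theorem perfect_RG : commutator ↥RuMod.RG = ⊤ := RuMult.commutator_RG

theorem center_RG : Subgroup.center ↥RuMod.RG = ⊥ := by
  haveI : IsSimpleGroup ↥RuMod.RG := RuMod.simple_RG
  refine (IsSimpleGroup.eq_bot_or_eq_top_of_normal (Subgroup.center ↥RuMod.RG) inferInstance).resolve_right fun h => ?_
  have h1 : commutator ↥RuMod.RG = ⊥ := by
    rw [commutator_def, Subgroup.commutator_eq_bot_iff_le_centralizer]
    intro x _ y _
    exact (Subgroup.mem_center_iff.1 (h ▸ Subgroup.mem_top x) y)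
  exact bot_ne_top (h1.symm.trans perfect_RG)

/-- The centre of the double cover. -/
theorem center_cases {a : Cov} (h : a ∈ Subgroup.center Cov) : a = 1 ∨ a = zC := by
  refine proj_eq_one ?_
  rw [← Subgroup.mem_bot, ← center_RG, Subgroup.mem_center_iff]
  intro g
  obtain ⟨b, rfl⟩ := proj_surj g
  rw [← map_mul, ← map_mul, Subgroup.mem_center_iff.1 h b]

/-- A perfect group with trivial outer automorphism group modulo the centre has only inner automorphisms. -/
theorem aut_inner {D : Type*} [Group D] (hperf : commutator D = ⊤)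
    (hout : Nat.card (Cfsg.Out (D ⧸ Subgroup.center D)) = 1) (e : MulAut D) :
    ∃ a : D, ∀ x, e x = a * x * a⁻¹ := by
  have hc : ∀ d ∈ Subgroup.center D, e d ∈ Subgroup.center D := fun d hd => by
    refine Subgroup.mem_center_iff.2 fun g => ?_
    obtain ⟨g, rfl⟩ := e.surjective g
    rw [← map_mul, ← map_mul, Subgroup.mem_center_iff.1 hd g]
  have hmap : (Subgroup.center D).map (e : D →* D) = Subgroup.center D := by
    refine le_antisymm (by rintro _ ⟨d, hd, rfl⟩; exact hc d hd) fun d hd => ?_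
    refine ⟨e.symm d, Subgroup.mem_center_iff.2 fun g => e.injective ?_, e.apply_symm_apply d⟩
    simp only [map_mul, MulEquiv.apply_symm_apply]
    exact Subgroup.mem_center_iff.1 hd _
  have hinn : QuotientGroup.congr _ _ e hmap ∈ Cfsg.Inn (D ⧸ Subgroup.center D) :=
    (QuotientGroup.eq_one_iff _).1 ((Nat.card_eq_one_iff_unique.1 hout).1.elim _ _)
  obtain ⟨q, hq⟩ := hinn
  obtain ⟨a, rfl⟩ := QuotientGroup.mk_surjective q
  refine ⟨a, ?_⟩
  let f : D →* D := (MulAut.conj a⁻¹).toMonoidHom.comp (e : D →* D)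
  have hf : ∀ x, x⁻¹ * f x ∈ Subgroup.center D := fun x => by
    rw [← QuotientGroup.eq_one_iff]
    have h := congrArg (fun ψ : MulAut (D ⧸ Subgroup.center D) => ψ (QuotientGroup.mk x)) hq
    have h' : (QuotientGroup.mk a : D ⧸ Subgroup.center D) * QuotientGroup.mk x * (QuotientGroup.mk a)⁻¹ =
        QuotientGroup.mk (e x) := h
    show (QuotientGroup.mk (x⁻¹ * (a⁻¹ * e x * a⁻¹⁻¹)) : D ⧸ Subgroup.center D) = 1
    simp only [QuotientGroup.mk_mul, QuotientGroup.mk_inv, ← h']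
    group
  have hle : commutator D ≤ f.eqLocus (MonoidHom.id _) := by
    rw [commutator_def, Subgroup.commutator_le]
    intro x _ y _
    show f ⁅x, y⁆ = ⁅x, y⁆
    rw [map_commutatorElement]
    have hx : ∀ w : D, w * (x⁻¹ * f x) = x⁻¹ * f x * w := Subgroup.mem_center_iff.1 (hf x)
    have hy : ∀ w : D, w * (y⁻¹ * f y) = y⁻¹ * f y * w := Subgroup.mem_center_iff.1 (hf y)
    obtain ⟨c, hcx, hxc⟩ : ∃ c, (∀ w : D, w * c = c * w) ∧ f x = x * c :=
      ⟨_, hx, (mul_inv_cancel_left x (f x)).symm⟩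
    obtain ⟨d, hdy, hyd⟩ : ∃ d, (∀ w : D, w * d = d * w) ∧ f y = y * d :=
      ⟨_, hy, (mul_inv_cancel_left y (f y)).symm⟩
    rw [hxc, hyd]
    simp only [commutatorElement_def, mul_inv_rev]
    calc x * c * (y * d) * (c⁻¹ * x⁻¹) * (d⁻¹ * y⁻¹) = x * (c * (y * d)) * c⁻¹ * x⁻¹ * d⁻¹ * y⁻¹ := by group
      _ = x * y * (d * x⁻¹) * d⁻¹ * y⁻¹ := by rw [← hcx (y * d)]; group
      _ = x * y * x⁻¹ * y⁻¹ := by rw [← hdy x⁻¹]; group
  intro x
  have h : a⁻¹ * e x * a⁻¹⁻¹ = x := hle (hperf ▸ Subgroup.mem_top x)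
  calc e x = a * (a⁻¹ * e x * a⁻¹⁻¹) * a⁻¹ := by group
    _ = a * x * a⁻¹ := by rw [h]

theorem card_mult_RG : Nat.card (CfsgLib.Schur.mult ↥RuMod.RG) = 2 := by
  haveI := RuMult.finite_RG
  have h := @RuMult.multiplier_of ↥RuMod.RG ↥RuMod.RG _ _ RuMult.finite_RG _ _ (MulEquiv.refl _) RuMult.coverMap
    RuMult.coverMap_stem RuMult.card_coverMap_ker fun Γ _ _ σ hσ => RuMult.card_ker_le σ hσ
  obtain ⟨e⟩ := CfsgLib.Schur.nonempty_equiv_of_hasSchurMultiplier h
  rw [← Nat.card_congr e.toEquiv]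
  simp

/-- A perfect double cover of the Rudvalis group is the double cover. -/
theorem exists_equiv_cover {A : Type u} [Group A] [Finite A] (hperf : commutator A = ⊤)
    (hZ : Nat.card ↥(Subgroup.center A) = 2) (hRu : Spor.IsoRu (A ⧸ Subgroup.center A)) : Nonempty (A ≃* Cov) := by
  obtain ⟨e⟩ := hRu
  haveI := RuMult.finite_cover
  haveI := RuMult.finite_RG
  haveI : Finite (ULift.{u} Cov) := Finite.of_equiv _ Equiv.ulift.symm
  let e' : (A ⧸ Subgroup.center A) ≃* ↥RuMod.RG := e.trans RuLink.ruEquiv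
  let σ₁ : A →* ↥RuMod.RG := e'.toMonoidHom.comp (QuotientGroup.mk' _)
  have hk₁ : σ₁.ker = Subgroup.center A := by
    rw [RuMult.ker_comp_equiv, QuotientGroup.ker_mk']
  have h₁ : Cfsg.IsStemExtension σ₁ :=
    ⟨e'.surjective.comp (QuotientGroup.mk'_surjective _), hk₁.le, by rw [hperf]; exact le_top⟩
  let σ₂ : ULift.{u} Cov →* ↥RuMod.RG := proj.comp (MulEquiv.ulift : ULift.{u} Cov ≃* Cov).toMonoidHom
  have hsur : Function.Surjective σ₂ := proj_surj.comp (MulEquiv.ulift : ULift.{u} Cov ≃* Cov).surjective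
  have hk₂ : σ₂.ker = Subgroup.map (MulEquiv.ulift : ULift.{u} Cov ≃* Cov).symm.toMonoidHom proj.ker := by
    ext x
    constructor
    · intro hx; exact ⟨x.down, hx, rfl⟩
    · rintro ⟨y, hy, rfl⟩; exact hy
  have h₂ : Cfsg.IsStemExtension σ₂ := by
    refine ⟨hsur, fun x hx => Subgroup.mem_center_iff.2 fun y => ULift.ext _ _ ?_, ?_⟩
    · exact Subgroup.mem_center_iff.1 (RuMult.coverMap_stem.2.1 hx) y.down
    · rw [hk₂]
      refine (Subgroup.map_mono RuMult.coverMap_stem.2.2).trans ?_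
      exact (le_of_eq (Subgroup.map_commutator ⊤ ⊤ _)).trans (Subgroup.commutator_mono le_top le_top)
  have hab : Nat.card (Abelianization ↥RuMod.RG) = 1 := by
    haveI : Subsingleton (Abelianization ↥RuMod.RG) := QuotientGroup.subsingleton_iff.2 perfect_RG
    exact Nat.card_of_subsingleton 1
  obtain ⟨f, -⟩ := CfsgLib.Schur.exists_equiv_of_coprime h₁ h₂ (by rw [hk₁, hZ, card_mult_RG])
    (by rw [hk₂, Subgroup.card_map_of_injective (MulEquiv.injective _), card_mult_RG]; exact RuMult.card_coverMap_ker)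
    (by rw [hab]; exact Nat.coprime_one_left _)
  exact ⟨f.trans MulEquiv.ulift⟩

theorem out_cover : Nat.card (Cfsg.Out (Cov ⧸ Subgroup.center Cov)) = 1 := by
  have hk : Subgroup.center Cov = proj.ker := by
    refine le_antisymm (fun a ha => ?_) RuMult.coverMap_stem.2.1
    rcases center_cases ha with rfl | rfl
    · exact one_mem _
    · exact proj_z
  exact (RuOut.card_out_congr ((QuotientGroup.quotientMulEquivOfEq hk).trans
    (QuotientGroup.quotientKerEquivOfSurjective proj proj_surj))).trans RuOut.card_out_RG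

variable {G : Type u} [Group G] [Finite G] {A : Subgroup G}

set_option linter.unusedSectionVars false

/-- The commutator of two products with commuting factors. -/
theorem commutator_mul {x y c d : G} (hxc : Commute x c) (hyc : Commute y c) (hxd : Commute x d) (hyd : Commute y d) :
    ⁅x * c, y * d⁆ = ⁅x, y⁆ * ⁅c, d⁆ := by
  have h1 : Commute (x * y * x⁻¹ * y⁻¹) c := ((hxc.mul_left hyc).mul_left hxc.inv_left).mul_left hyc.inv_left
  simp only [commutatorElement_def, mul_inv_rev]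
  calc x * c * (y * d) * (c⁻¹ * x⁻¹) * (d⁻¹ * y⁻¹)
      = x * (c * y) * (d * c⁻¹ * x⁻¹) * (d⁻¹ * y⁻¹) := by group
    _ = x * y * (c * d * c⁻¹ * x⁻¹) * (d⁻¹ * y⁻¹) := by rw [← hyc.eq]; group
    _ = x * y * (x⁻¹ * (c * d * c⁻¹)) * (d⁻¹ * y⁻¹) := by
        rw [((hxc.inv_left.mul_right hxd.inv_left).mul_right hxc.inv_left.inv_right).eq]
    _ = x * y * x⁻¹ * ((c * d * c⁻¹ * d⁻¹) * y⁻¹) := by group
    _ = x * y * x⁻¹ * (y⁻¹ * (c * d * c⁻¹ * d⁻¹)) := by
        rw [(((hyc.inv_left.mul_right hyd.inv_left).mul_right hyc.inv_left.inv_right).mul_right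
          hyd.inv_left.inv_right).eq]
    _ = _ := by group

/-- The embedding. -/
noncomputable def emb (φ : ↥A ≃* Cov) : Cov →* G := A.subtype.comp φ.symm.toMonoidHom

theorem emb_inj (φ : ↥A ≃* Cov) : Function.Injective (emb φ) :=
  A.subtype_injective.comp φ.symm.injective

theorem emb_mem (φ : ↥A ≃* Cov) (a : Cov) : emb φ a ∈ A := (φ.symm a).2

theorem exists_emb (φ : ↥A ≃* Cov) {x : G} (hx : x ∈ A) : ∃ a, emb φ a = x :=
  ⟨φ ⟨x, hx⟩, by show ((φ.symm (φ ⟨x, hx⟩) : ↥A) : G) = x; rw [MulEquiv.symm_apply_apply]⟩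

section
variable (hA : Cfsg.IsStandardSubgroup A) (φ : ↥A ≃* Cov)
  (hR : ∀ R : Sylow 2 ↥(Subgroup.centralizer (A : Set G)), IsCyclic ↥(R : Subgroup ↥(Subgroup.centralizer (A : Set G))))

local notation "C" => Subgroup.centralizer (A : Set G)

theorem cent_comm {c : G} (hc : c ∈ C) (a : Cov) : Commute (emb φ a) c :=
  Subgroup.mem_centralizer_iff.1 hc _ (emb_mem φ a)

theorem z_mem : emb φ zC ∈ C := Subgroup.mem_centralizer_iff.2 fun x hx => by
  obtain ⟨a, rfl⟩ := exists_emb φ hx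
  rw [← map_mul, ← map_mul, zC_comm]

theorem z_order : orderOf (emb φ zC) = 2 :=
  orderOf_eq_prime (by rw [pow_two, ← map_mul, zC_sq, map_one])
    fun e => zC_ne (emb_inj φ (e.trans (map_one _).symm))

include hR in
theorem unique_invol {c : G} (hc : c ∈ C) (h2 : c * c = 1) : c = 1 ∨ c = emb φ zC := by
  by_cases h1 : c = 1
  · exact Or.inl h1
  · exact Or.inr (eq_of_cyclic_sylow hR hc (z_mem φ) (orderOf_eq_prime (by rw [pow_two, h2]) h1) (z_order φ)
      (cent_comm φ hc zC).eq.symm)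

include hA φ in
theorem perfect : commutator Cov = ⊤ := by
  haveI := hA.1.1
  rw [← Subgroup.map_top_of_surjective φ.toMonoidHom φ.surjective, ← Group.IsPerfect.commutator_eq_top (G := ↥A)]
  simp only [commutator_def]
  rw [Subgroup.map_commutator, Subgroup.map_top_of_surjective φ.toMonoidHom φ.surjective]

include hA in
theorem decomp {n : G} (hn : n ∈ Subgroup.normalizer (A : Set G)) :
    ∃ a : Cov, ∃ c ∈ C, n = emb φ a * c := by
  haveI := RuMult.finite_cover
  have hmem : ∀ x : Cov, n * emb φ x * n⁻¹ ∈ A := fun x => (Subgroup.mem_normalizer_iff.1 hn _).1 (emb_mem φ x)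
  let f : Cov →* Cov := φ.toMonoidHom.comp
    (((MulAut.conj n).toMonoidHom.comp (emb φ)).codRestrict A hmem)
  have hfe : ∀ x, emb φ (f x) = n * emb φ x * n⁻¹ := fun x => by
    show ((φ.symm (φ _) : ↥A) : G) = _
    rw [MulEquiv.symm_apply_apply]
    rfl
  have hinj : Function.Injective f := fun x y e => emb_inj φ (by
    have h := congrArg (emb φ) e
    rw [hfe, hfe] at h
    exact mul_left_cancel (mul_right_cancel h))
  obtain ⟨a, ha⟩ := aut_inner (perfect hA φ) out_cover (MulEquiv.ofBijective f (Finite.injective_iff_bijective.1 hinj))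
  refine ⟨a, (emb φ a)⁻¹ * n, Subgroup.mem_centralizer_iff.2 fun x hx => ?_, by group⟩
  obtain ⟨y, rfl⟩ := exists_emb φ hx
  have h := hfe y
  rw [show f y = a * y * a⁻¹ from ha y, map_mul, map_mul, map_inv] at h
  calc emb φ y * ((emb φ a)⁻¹ * n) = (emb φ a)⁻¹ * (emb φ a * emb φ y * (emb φ a)⁻¹) * n := by group
    _ = (emb φ a)⁻¹ * n * emb φ y := by rw [h]; group

include hA in
theorem z_le : Subgroup.centralizer ({emb φ zC} : Set G) ≤ Subgroup.normalizer (A : Set G) :=
  centralizer_le_normalizer_standard hA (z_order φ) (z_mem φ)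

include hA in
theorem of_comm_z {n : G} (h : Commute n (emb φ zC)) : ∃ a : Cov, ∃ c ∈ C, n = emb φ a * c :=
  decomp hA φ (z_le hA φ (Subgroup.mem_centralizer_singleton_iff.2 h.eq))

include hA in
theorem le_z {n : G} (hn : n ∈ Subgroup.normalizer (A : Set G)) : Commute n (emb φ zC) := by
  obtain ⟨a, c, hc, rfl⟩ := decomp hA φ hn
  exact ((show Commute a zC from zC_comm a).map (emb φ)).mul_left (cent_comm φ hc zC).symm

include hA hR in
/-- A conjugate of `z` commuting with it has square-trivial components. -/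
theorem shape {w : G} (hw : IsConj (emb φ zC) w) (hc : Commute w (emb φ zC)) (hne : w ≠ emb φ zC) :
    ∃ a : Cov, ∃ c ∈ C, w = emb φ a * c ∧ (a * a = 1 ∨ a * a = zC) ∧ a ≠ 1 ∧ a ≠ zC ∧
      c * c = (emb φ (a * a))⁻¹ := by
  obtain ⟨a, c, hcC, rfl⟩ := of_comm_z hA φ hc
  obtain ⟨g, hg⟩ := isConj_iff.1 hw
  have hsq : emb φ a * c * (emb φ a * c) = 1 := by
    rw [← hg, show g * emb φ zC * g⁻¹ * (g * emb φ zC * g⁻¹) = g * (emb φ zC * emb φ zC) * g⁻¹ by group,
      ← map_mul, zC_sq, map_one]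
    group
  have hcc : c * c = (emb φ (a * a))⁻¹ := by
    refine eq_inv_of_mul_eq_one_right ?_
    rw [map_mul, (cent_comm φ hcC a).mul_mul_mul_comm, hsq]
  have hcen : a * a ∈ Subgroup.center Cov := by
    refine Subgroup.mem_center_iff.2 fun x => emb_inj φ ?_
    have hcm : (emb φ (a * a))⁻¹ ∈ C := hcc ▸ mul_mem hcC hcC
    rw [map_mul (emb φ) x (a * a), map_mul (emb φ) (a * a) x]
    exact (cent_comm φ (inv_mem_iff.1 hcm) x).eq
  have hsmall : ∀ b, a = b → b * b = 1 → emb φ b ∈ C → False := by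
    rintro b rfl hb hbC
    rw [hb, map_one, inv_one] at hcc
    have h1 : emb φ a * c ≠ 1 := fun e => by
      rw [e] at hg
      exact zC_ne (emb_inj φ ((conj_eq_one_iff.1 hg).trans (map_one _).symm))
    exact hne ((unique_invol φ hR (mul_mem hbC hcC) hsq).resolve_left h1)
  exact ⟨a, c, hcC, rfl, center_cases hcen, fun e => hsmall 1 e (one_mul 1) (by rw [map_one]; exact one_mem _),
    fun e => hsmall zC e zC_sq (z_mem φ), hcc⟩

include hA hR in
/-- A commuting conjugate of `z` lies in the standard subgroup. -/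
theorem mem_A {g : G} (hc : Commute (g * emb φ zC * g⁻¹) (emb φ zC))
    (hne : g * emb φ zC * g⁻¹ ≠ emb φ zC) : ∃ a : Cov, NInv a ∧ g * emb φ zC * g⁻¹ = emb φ a := by
  set z := emb φ zC with hz
  obtain ⟨a, c, hcC, e, ha2, ha1, han, hcc⟩ := shape hA φ hR (isConj_iff.2 ⟨g, rfl⟩) hc hne
  suffices hsq : a * a = 1 by
    have hcs : c * c = 1 := by rw [hcc, hsq, map_one, inv_one]
    rcases unique_invol φ hR hcC hcs with rfl | rfl
    · exact ⟨a, ⟨hsq, ha1, han⟩, by rw [e, mul_one]⟩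
    · refine ⟨zC * a, ⟨?_, fun h => han ?_, fun h => ha1 (mul_eq_left.1 h)⟩, ?_⟩
      · rw [mul_assoc, ← mul_assoc a, zC_comm, mul_assoc zC a, hsq, mul_one, zC_sq]
      · rw [← inv_eq_of_mul_eq_one_right h, inv_eq_of_mul_eq_one_right zC_sq]
      · rw [e, ← zC_comm, map_mul]
  have hw : Commute (g⁻¹ * z * g) z := by
    have := hc.map (MulAut.conj g⁻¹).toMonoidHom
    simp only [MulEquiv.toMonoidHom_eq_coe, MonoidHom.coe_coe, MulAut.conj_apply] at this
    rw [show g⁻¹ * (g * z * g⁻¹) * g⁻¹⁻¹ = z by group, show g⁻¹ * z * g⁻¹⁻¹ = g⁻¹ * z * g by group] at this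
    exact this.symm
  have hwne : g⁻¹ * z * g ≠ z := fun h => hne (by
    calc g * z * g⁻¹ = g * (g⁻¹ * z * g) * g⁻¹ := by rw [h]
      _ = z := by group)
  obtain ⟨a', c', hc'C, e', ha'2, ha'1, ha'n, -⟩ :=
    shape hA φ hR (isConj_iff.2 ⟨g⁻¹, by rw [inv_inv]⟩) hw hwne
  have hB : ∀ b : Cov, Commute b a' → Commute (g * emb φ b * g⁻¹) z := fun b hba => by
    have h : Commute (emb φ b) (g⁻¹ * z * g) := by
      rw [e']; exact (hba.map (emb φ)).mul_right (cent_comm φ hc'C b)
    have := h.map (MulAut.conj g).toMonoidHom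
    simp only [MulEquiv.toMonoidHom_eq_coe, MonoidHom.coe_coe, MulAut.conj_apply] at this
    rwa [show g * (g⁻¹ * z * g) * g⁻¹ = z by group] at this
  rcases ha'2 with ha'2 | ha'2
  · obtain ⟨b₁, b₂, hb₁, hb₂, hb⟩ := exists_witness (a := a') ⟨ha'2, ha'1, ha'n⟩
    obtain ⟨α, γ, hγ, e₁⟩ := of_comm_z hA φ (hB b₁ hb₁)
    obtain ⟨β, δ, hδ, e₂⟩ := of_comm_z hA φ (hB b₂ hb₂)
    have hbig : g * z * g⁻¹ = emb φ ⁅α, β⁆ * ⁅γ, δ⁆ := by
      have h := map_commutatorElement ((MulAut.conj g).toMonoidHom.comp (emb φ)) b₁ b₂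
      rw [hb] at h
      simp only [MonoidHom.coe_comp, Function.comp_apply, MulEquiv.toMonoidHom_eq_coe, MonoidHom.coe_coe,
        MulAut.conj_apply] at h
      rw [hz, h, e₁, e₂, map_commutatorElement]
      exact commutator_mul (cent_comm φ hγ α) (cent_comm φ hγ β) (cent_comm φ hδ α) (cent_comm φ hδ β)
    have hkC : ⁅γ, δ⁆ ∈ C := mul_mem (mul_mem (mul_mem hγ hδ) (inv_mem hγ)) (inv_mem hδ)
    have hkodd : Odd (orderOf ⁅γ, δ⁆) := by
      have h := odd_commutator hR ⟨γ, hγ⟩ ⟨δ, hδ⟩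
      rwa [← Subgroup.orderOf_coe] at h
    set k := ⁅γ, δ⁆ with hk
    set d := ⁅α, β⁆⁻¹ * a with hd
    have hdk : emb φ d * c = k := by
      rw [hd, map_mul, map_inv, mul_assoc, ← e, hbig]; group
    have hdcen : d ∈ Subgroup.center Cov := by
      refine Subgroup.mem_center_iff.2 fun x => emb_inj φ ?_
      rw [map_mul (emb φ) x d, map_mul (emb φ) d x]
      refine (cent_comm φ ?_ x).eq
      rw [show emb φ d = k * c⁻¹ by rw [← hdk]; group]
      exact mul_mem hkC (inv_mem hcC)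
    have hc4 : c ^ 4 = 1 := by
      rw [show 4 = 2 * 2 from rfl, pow_mul, pow_two c, hcc]
      rcases ha2 with h | h <;> rw [h]
      · simp
      · rw [inv_pow, pow_two, ← map_mul, zC_sq, map_one, inv_one]
    have hk4 : k ^ 4 = 1 := by
      rw [← hdk, (cent_comm φ hcC d).mul_pow, hc4, mul_one, ← map_pow]
      rcases center_cases hdcen with h | h <;> rw [h]
      · rw [one_pow, map_one]
      · rw [show 4 = 2 * 2 from rfl, pow_mul, pow_two zC, zC_sq, one_pow, map_one]
    have hk1 : k = 1 := by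
      rw [← orderOf_eq_one_iff]
      refine Nat.eq_one_of_dvd_coprimes (k := orderOf k) ?_ dvd_rfl (orderOf_dvd_of_pow_eq_one hk4)
      rw [show 4 = 2 ^ 2 from rfl]
      exact (Nat.coprime_two_right.2 hkodd).pow_right 2
    have hc1 : c = (emb φ d)⁻¹ := eq_inv_of_mul_eq_one_right (hdk.trans hk1)
    have hd2 : d * d = 1 := by
      rcases center_cases hdcen with h | h <;> rw [h]
      · exact mul_one 1
      · exact zC_sq
    have hcc1 : c * c = 1 := by rw [hc1, ← mul_inv_rev, ← map_mul, hd2, map_one, inv_one]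
    rw [hcc, inv_eq_one] at hcc1
    exact emb_inj φ (hcc1.trans (map_one _).symm)
  · obtain ⟨α, γ, hγ, e₁⟩ := of_comm_z hA φ (hB a' (Commute.refl a'))
    have hroot : emb φ a * c = emb φ (α * α) * (γ * γ) := by
      rw [← e, ← ha'2, map_mul, map_mul,
        show g * (emb φ a' * emb φ a') * g⁻¹ = (g * emb φ a' * g⁻¹) * (g * emb φ a' * g⁻¹) by group, e₁,
        (cent_comm φ hγ α).symm.mul_mul_mul_comm]
    have hdcen : a⁻¹ * (α * α) ∈ Subgroup.center Cov := by
      refine Subgroup.mem_center_iff.2 fun x => emb_inj φ ?_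
      rw [map_mul (emb φ) x, map_mul (emb φ) _ x]
      refine (cent_comm φ ?_ x).eq
      rw [show emb φ (a⁻¹ * (α * α)) = c * (γ * γ)⁻¹ by
        rw [map_mul, map_inv, eq_mul_inv_iff_mul_eq, mul_assoc, ← hroot, inv_mul_cancel_left]]
      exact mul_mem hcC (inv_mem (mul_mem hγ hγ))
    refine sq_of_root ha2 ha1 han (α := α) ?_
    have h1 : proj (a⁻¹ * (α * α)) = 1 := by
      rcases center_cases hdcen with h | h <;> rw [h]
      · exact map_one _
      · exact proj_z
    rw [map_mul, map_inv, inv_mul_eq_one, map_mul] at h1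
    exact h1

/-- Some involution with this trace is conjugate to `z`. -/
def Fz (k : GaussianInt) : Prop := ∃ a : Cov, NInv a ∧ trC a = k ∧ IsConj (emb φ zC) (emb φ a)

theorem conj_iff {a : Cov} (ha : NInv a) : IsConj (emb φ zC) (emb φ a) ↔ Fz φ (trC a) := by
  refine ⟨fun h => ⟨a, ha, rfl, h⟩, fun ⟨b, hb, he, h⟩ => h.trans ?_⟩
  obtain ⟨g, hg⟩ := conj_of_trC hb ha he
  exact isConj_iff.2 ⟨emb φ g, by rw [← hg, map_mul, map_mul, map_inv]⟩

theorem ninv_neg {v : Cov} (h : NInv v) : NInv (zC * v) := by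
  refine ⟨?_, fun e => h.2.2 ?_, fun e => h.2.1 (mul_eq_left.1 e)⟩
  · rw [mul_assoc, ← mul_assoc v, zC_comm, mul_assoc zC v, h.1, mul_one, zC_sq]
  · rw [← inv_eq_of_mul_eq_one_right e, inv_eq_of_mul_eq_one_right zC_sq]

include hA hR in
/-- The image of the second of two commuting conjugates of `z`. -/
theorem pair {x u : Cov} (hxu : NInv (x * u)) (hu : NInv u) (hc : Commute x u) (hne : x ≠ u)
    (hPu : Fz φ (trC u)) {g : G} (hg : g * emb φ x * g⁻¹ = emb φ zC) :
    ∃ v : Cov, NInv v ∧ g * emb φ u * g⁻¹ = emb φ v ∧ Fz φ (trC v) ∧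
      (Fz φ (trC (x * u)) ↔ Fz φ (-trC v)) := by
  obtain ⟨k, hk⟩ := isConj_iff.1 ((conj_iff φ hu).2 hPu)
  have hcm : Commute (g * k * emb φ zC * (g * k)⁻¹) (emb φ zC) := by
    rw [show g * k * emb φ zC * (g * k)⁻¹ = g * (k * emb φ zC * k⁻¹) * g⁻¹ by group, hk, ← hg]
    exact (hc.symm.map (emb φ)).map (MulAut.conj g).toMonoidHom
  have hn : g * k * emb φ zC * (g * k)⁻¹ ≠ emb φ zC := fun h => hne (emb_inj φ (by
    rw [show g * k * emb φ zC * (g * k)⁻¹ = g * (k * emb φ zC * k⁻¹) * g⁻¹ by group, hk, ← hg] at h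
    exact (mul_left_cancel (mul_right_cancel h)).symm))
  obtain ⟨v, hv, hev⟩ := mem_A hA φ hR hcm hn
  rw [show g * k * emb φ zC * (g * k)⁻¹ = g * (k * emb φ zC * k⁻¹) * g⁻¹ by group, hk] at hev
  have hxv : g * emb φ (x * u) * g⁻¹ = emb φ (zC * v) := by
    rw [map_mul, map_mul, show g * (emb φ x * emb φ u) * g⁻¹ = g * emb φ x * g⁻¹ * (g * emb φ u * g⁻¹) by group,
      hg, hev]
  refine ⟨v, hv, hev, (conj_iff φ hv).1 (((conj_iff φ hu).2 hPu).trans (isConj_iff.2 ⟨g, hev⟩)), ?_⟩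
  rw [← trC_neg, ← conj_iff φ hxu, ← conj_iff φ (ninv_neg hv)]
  exact ⟨fun h => h.trans (isConj_iff.2 ⟨g, hxv⟩), fun h => h.trans (isConj_iff.2 ⟨g, hxv⟩).symm⟩

include hA in
theorem swap_zero {x u h v : Cov} (hx : h * x * h⁻¹ = x) (hu : h * u * h⁻¹ = x * u) {g : G}
    (hg : g * emb φ x * g⁻¹ = emb φ zC) (hv : g * emb φ u * g⁻¹ = emb φ v) : trC v = -trC v := by
  have hn : Commute (g * emb φ h * g⁻¹) (emb φ zC) := by
    have h0 : Commute h x := mul_inv_eq_iff_eq_mul.1 hx
    rw [← hg]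
    exact (h0.map (emb φ)).map (MulAut.conj g).toMonoidHom
  obtain ⟨a, c, hc, e⟩ := of_comm_z hA φ hn
  have key : emb φ (a * v * a⁻¹) = emb φ (zC * v) := by
    calc emb φ (a * v * a⁻¹) = emb φ a * (c * emb φ v * c⁻¹) * (emb φ a)⁻¹ := by
          rw [← (cent_comm φ hc v).eq, map_mul, map_mul, map_inv]; group
      _ = (emb φ a * c) * emb φ v * (emb φ a * c)⁻¹ := by group
      _ = g * emb φ (h * u * h⁻¹) * g⁻¹ := by rw [← e, ← hv, map_mul, map_mul, map_inv]; group
      _ = emb φ (zC * v) := by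
          rw [hu, map_mul, map_mul, show g * (emb φ x * emb φ u) * g⁻¹ = g * emb φ x * g⁻¹ * (g * emb φ u * g⁻¹) by group,
            hg, hv]
  have ht := congrArg trC (emb_inj φ key)
  rwa [trC_conj, trC_neg] at ht

include hA hR in
theorem no_class {k : GaussianInt} (hk : Fz φ k) : False := by
  obtain ⟨⟨tS, tS', tSS, hcS, hS, hS', hSS, hneS⟩, ⟨tX, tU, tXU, hcX, hX, hU, hXU, hneX⟩, hx, hu⟩ := configurations
  have hg' : ∀ {x : Cov}, NInv x → Fz φ (trC x) → ∃ g : G, g * emb φ x * g⁻¹ = emb φ zC := fun hx hP => by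
    obtain ⟨k, hk⟩ := isConj_iff.1 ((conj_iff φ hx).2 hP)
    exact ⟨k⁻¹, by rw [← hk]; group⟩
  by_cases hp : Fz φ 16
  · obtain ⟨g, hg⟩ := hg' hX (by rw [tX]; exact hp)
    obtain ⟨v, hv, hev, hPv, hiff⟩ := pair hA φ hR hXU hU hcX hneX (by rw [tU]; exact hp) hg
    by_cases hm : Fz φ (-16)
    · have h := swap_zero hA φ hx hu hg hev
      rcases trC_values hv with e | e <;> rw [e] at h <;> exact absurd h (by decide)
    · rw [tXU] at hiff
      rcases trC_values hv with e | e <;> rw [e] at hPv hiff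
      · exact hm hPv
      · exact hm (hiff.1 hp)
  · have hm : Fz φ (-16) := by
      obtain ⟨a, ha, rfl, hc⟩ := hk
      rcases trC_values ha with e | e
      · exact e ▸ (conj_iff φ ha).1 hc
      · exact absurd (e ▸ (conj_iff φ ha).1 hc) hp
    obtain ⟨g, hg⟩ := hg' hS (by rw [tS]; exact hm)
    obtain ⟨v, hv, hev, hPv, hiff⟩ := pair hA φ hR hSS hS' hcS hneS (by rw [tS']; exact hm) hg
    rw [tSS] at hiff
    rcases trC_values hv with e | e <;> rw [e] at hPv hiff
    · exact hp (by rw [← neg_neg (16 : GaussianInt)]; exact hiff.1 hm)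
    · exact hp hPv

include hA φ hR in
theorem normal (hO : Cfsg.oddCore G = ⊥) : A.Normal := by
  set z := emb φ zC with hz
  have hiso : ∀ g : G, Commute (g * z * g⁻¹) z → g * z * g⁻¹ = z := fun g hc => by
    by_contra hne
    obtain ⟨a, ha, e⟩ := mem_A hA φ hR hc hne
    exact no_class hA φ hR ((conj_iff φ ha).1 (isConj_iff.2 ⟨g, e⟩))
  have hcen : ∀ g : G, Commute g z := fun g => by
    have hi : Cfsg.IsIsolatedInvolution z := ⟨z_order φ, fun g hc => hiso g hc.symm⟩
    have h := CfsgLib.ZStar.mem_oddCore_of_isolated hi g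
    rw [hO, Subgroup.mem_bot] at h
    rw [← commutatorElement_def] at h
    exact (commutatorElement_eq_one_iff_mul_comm.1 h).symm
  exact Subgroup.normalizer_eq_top_iff.1 (top_le_iff.1 fun g _ =>
    z_le hA φ (Subgroup.mem_centralizer_singleton_iff.2 (hcen g).eq))

end

end CfsgLib.Components.RudvalisStandard
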