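import Cfsg.Agent.Lib.Components.StandardClosure
import Cfsg.Prelude.Def_CaseTheorems

/-!
# A standard subgroup centralizing `O(X)` (S3153)

* `eq_of_rank_le_one`: commuting involutions of a group of 2-rank at most 1 agree;
* `standard_centralizes_oddCore`.
-/

set_option autoImplicit false
set_option linter.style.haveILetI false

namespace CfsgLib.Components

open Subgroup
open CfsgLib.Signalizer
open scoped commutatorElement Pointwise

variable {G : Type*} [Group G] [Finite G]

theorem eq_of_rank_le_one {C : Subgroup G} (hr : Cfsg.PRankLE 2 1 C) {u v : G} (hu : u ∈ C) (hv : v ∈ C)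
    (hu2 : orderOf u = 2) (hv2 : orderOf v = 2) (huv : u * v = v * u) : u = v := by
  set A := Subgroup.closure ({⟨u, hu⟩, ⟨v, hv⟩} : Set C) with hA
  haveI hAc : IsMulCommutative A := Subgroup.isMulCommutative_closure (by
    rintro x (rfl | rfl) y (rfl | rfl)
    exacts [rfl, Subtype.ext huv, Subtype.ext huv.symm, rfl])
  have hAe : ∀ a ∈ A, a ^ 2 = 1 := fun a ha => by
    induction ha using Subgroup.closure_induction with
    | mem z hz =>
      rcases hz with rfl | rfl
      · exact Subtype.ext (orderOf_dvd_iff_pow_eq_one.mp (dvd_of_eq hu2))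
      · exact Subtype.ext (orderOf_dvd_iff_pow_eq_one.mp (dvd_of_eq hv2))
    | one => exact one_pow 2
    | mul x y hx hy h h' =>
      rw [(show Commute x y from congrArg Subtype.val (mul_comm' (⟨x, hx⟩ : A) ⟨y, hy⟩)).mul_pow,
        h, h', one_mul]
    | inv x _ h => rw [inv_pow, h, inv_one]
  have hle := hr A hAc hAe
  have hvA : zpowers (⟨v, hv⟩ : C) ≤ A :=
    Subgroup.zpowers_le.mpr (Subgroup.subset_closure (Or.inr rfl))
  have heq := Subgroup.eq_of_le_of_card_ge hvA (by rw [Nat.card_zpowers, Subgroup.orderOf_mk, hv2]; exact hle)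
  have hmem : (⟨u, hu⟩ : C) ∈ zpowers (⟨v, hv⟩ : C) := heq.ge (Subgroup.subset_closure (Or.inl rfl))
  exact congrArg Subtype.val (unique_involution_in_zpowers hmem (Subgroup.mem_zpowers _)
    (by rw [Subgroup.orderOf_mk, hu2]) (by rw [Subgroup.orderOf_mk, hv2]))

/-- An element central modulo the centre of a quasisimple group is central. -/
theorem mem_center_of_commutator_center {L : Type*} [Group L] (hq : Cfsg.IsQuasisimple L) {a : L}
    (h : ∀ k : L, ⁅k, a⁆ ∈ Subgroup.center L) : a ∈ Subgroup.center L := by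
  set f := QuotientGroup.mk' (Subgroup.center L)
  rcases IsQuasisimple.normal_le_center_or_eq_top hq
    ((inferInstance : (Subgroup.center (L ⧸ Subgroup.center L)).Normal).comap f) with hc | ht
  · refine hc (Subgroup.mem_comap.mpr (Subgroup.mem_center_iff.mpr fun z => ?_))
    obtain ⟨k, rfl⟩ := QuotientGroup.mk'_surjective _ z
    refine commutatorElement_eq_one_iff_mul_comm.mp ?_
    rw [← map_commutatorElement]
    exact (QuotientGroup.eq_one_iff _).mpr (h k)
  · exfalso
    haveI := hq.1
    refine IsQuasisimple.center_ne_top hq (eq_top_iff.mpr ?_)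
    rw [← Group.IsPerfect.commutator_eq_top (G := L), commutator_def, Subgroup.commutator_le]
    intro x _ y _
    refine (QuotientGroup.eq_one_iff _).mp ?_
    show f ⁅x, y⁆ = 1
    rw [map_commutatorElement, commutatorElement_eq_one_iff_mul_comm]
    exact (Subgroup.mem_center_iff.mp (Subgroup.mem_comap.mp (ht.ge (Subgroup.mem_top y))) (f x))

theorem standard_centralizes_oddCore {P : Subgroup G} (hP : Cfsg.IsStandardSubgroup P)
    (hr : Cfsg.PRankLE 2 1 ↥(centralizer (P : Set G))) (hZ : Odd (Nat.card ↥(Subgroup.center P)))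
    (S : Sylow 2 ↥(normalizer (P : Set G))) {t : G} (ht : orderOf t = 2)
    (htS : t ∈ (S : Subgroup ↥(normalizer (P : Set G))).map (normalizer (P : Set G)).subtype)
    (htP : t ∈ centralizer (P : Set G)) {g : G}
    (hgN : ∀ s ∈ (S : Subgroup ↥(normalizer (P : Set G))).map (normalizer (P : Set G)).subtype,
      g * s * g⁻¹ ∈ (S : Subgroup ↥(normalizer (P : Set G))).map (normalizer (P : Set G)).subtype)
    (hgS : g ∉ (S : Subgroup ↥(normalizer (P : Set G))).map (normalizer (P : Set G)).subtype)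
    (hg2 : g ^ 2 ∈ (S : Subgroup ↥(normalizer (P : Set G))).map (normalizer (P : Set G)).subtype)
    (hgt : g * t * g⁻¹ ∈ P ⊔ centralizer (P : Set G)) :
    ⁅P, Cfsg.oddCore G⁆ = ⊥ ∧ ∀ L : Subgroup G, Cfsg.IsPComponent 2 L → P ≤ L → Cfsg.IsQuasisimple L := by
  haveI : Fact (Nat.Prime 2) := ⟨Nat.prime_two⟩
  set T := (S : Subgroup (normalizer (P : Set G))).map (normalizer (P : Set G)).subtype with hTdef
  have hTp : IsPGroup 2 T := S.2.map _
  have hTN : T ≤ (normalizer (P : Set G)) := Subgroup.map_subtype_le _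
  set C := centralizer (P : Set G) with hC
  have ht2 : t * t = 1 := by rw [← pow_two, ← ht, pow_orderOf_eq_one]
  have hti : t⁻¹ = t := inv_eq_of_mul_eq_one_left ht2
  -- `t` is central in `T`
  have htT : ∀ s ∈ T, s * t = t * s := by
    set R := T ⊓ C
    haveI : Nontrivial R := ⟨⟨t, htS, htP⟩, 1, fun h => by
      have : t = 1 := congrArg Subtype.val h
      rw [this, orderOf_one] at ht
      exact absurd ht (by norm_num)⟩
    haveI := (hTp.to_le (inf_le_left : R ≤ T)).center_nontrivial
    obtain ⟨k, hk⟩ := ((hTp.to_le (inf_le_left : R ≤ T)).to_subgroup (Subgroup.center R)).exists_card_eq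
    have h2 : 2 ∣ Nat.card (Subgroup.center R) := by
      rcases k with _ | k
      · exact absurd (Finite.one_lt_card_iff_nontrivial.mpr inferInstance) (by rw [hk]; simp)
      · exact hk ▸ Dvd.intro_left _ (pow_succ 2 k).symm
    obtain ⟨z, hz⟩ := exists_prime_orderOf_dvd_card' 2 h2
    have hz' : orderOf ((z : R) : G) = 2 := by rw [Subgroup.orderOf_coe, Subgroup.orderOf_coe, hz]
    have huniq : ∀ u ∈ R, orderOf u = 2 → u = ((z : R) : G) := fun u hu hu2 =>
      eq_of_rank_le_one hr (Subgroup.mem_inf.mp hu).2 (Subgroup.mem_inf.mp (z : R).2).2 hu2 hz'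
        (congrArg Subtype.val (Subgroup.mem_center_iff.mp z.2 ⟨u, hu⟩))
    intro s hs
    have hsR : s * t * s⁻¹ ∈ R := Subgroup.mem_inf.mpr ⟨mul_mem (mul_mem hs htS) (inv_mem hs),
      (Subgroup.mem_normalizer_iff.mp (normalizer_le_normalizer_centralizer' P (hTN hs)) t).mp htP⟩
    have := (huniq _ hsR (ht ▸ (MulAut.conj s).orderOf_eq t)).trans (huniq t ⟨htS, htP⟩ ht).symm
    exact mul_inv_eq_iff_eq_mul.mp this
  set t' := g * t * g⁻¹ with ht'
  have ht'T : t' ∈ T := hgN t htS
  have ht'o : orderOf t' = 2 := ht ▸ (MulAut.conj g).orderOf_eq t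
  have ht'2 : t' * t' = 1 := by rw [← pow_two, ← ht'o, pow_orderOf_eq_one]
  have ht't : t' * t = t * t' := htT t' ht'T
  have hgg : g * t' * g⁻¹ = t := by
    rw [ht', show g * (g * t * g⁻¹) * g⁻¹ = g ^ 2 * t * (g ^ 2)⁻¹ by simp only [pow_two, mul_inv_rev, mul_assoc], htT _ hg2, mul_inv_cancel_right]
  have hne : t' ≠ t := by
    intro he
    have hgN' : g ∈ (normalizer (P : Set G)) := centralizer_le_normalizer_standard hP ht htP
      (Subgroup.mem_centralizer_singleton_iff.mpr (mul_inv_eq_iff_eq_mul.mp he))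
    have hgp : IsPGroup 2 (zpowers (⟨g, hgN'⟩ : (normalizer (P : Set G)))) := by
      obtain ⟨⟨u, huS⟩, hu⟩ : ∃ u : (S : Subgroup (normalizer (P : Set G))), ((u : (normalizer (P : Set G))) : G) = g ^ 2 := by
        obtain ⟨u, hu, he⟩ := hg2; exact ⟨⟨u, hu⟩, he⟩
      obtain ⟨k, hk⟩ := S.2 ⟨u, huS⟩
      have h1 : (⟨g, hgN'⟩ : (normalizer (P : Set G))) ^ (2 ^ (k + 1)) = 1 := by
        rw [pow_succ', pow_mul, show (⟨g, hgN'⟩ : (normalizer (P : Set G))) ^ 2 = u from Subtype.ext hu.symm]
        exact congrArg Subtype.val hk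
      obtain ⟨i, -, hi⟩ := (Nat.dvd_prime_pow Nat.prime_two).mp (orderOf_dvd_of_pow_eq_one h1)
      exact IsPGroup.of_card (by rw [Nat.card_zpowers, hi])
    have hnorm : zpowers (⟨g, hgN'⟩ : (normalizer (P : Set G))) ≤ normalizer ((S : Subgroup (normalizer (P : Set G))) : Set (normalizer (P : Set G))) := by
      rw [Subgroup.zpowers_le]
      refine mem_normalizer_of_smul_eq_self (Subgroup.eq_of_le_of_card_ge ?_
        (Nat.card_congr (Subgroup.equivSMul (MulAut.conj (⟨g, hgN'⟩ : (normalizer (P : Set G)))) (S : Subgroup (normalizer (P : Set G)))).toEquiv).le)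
      rw [conj_smul_eq_map]
      rintro _ ⟨s, hs, rfl⟩
      obtain ⟨u, hu, hue⟩ := hgN (s : G) ⟨s, hs, rfl⟩
      have : (MulAut.conj (⟨g, hgN'⟩ : (normalizer (P : Set G)))).toMonoidHom s = u := Subtype.ext hue.symm
      exact this ▸ hu
    have := S.3 (IsPGroup.to_sup_of_normal_right' hgp S.2 hnorm) le_sup_right
    exact hgS ⟨⟨g, hgN'⟩, this.le (Subgroup.mem_sup_left (Subgroup.mem_zpowers _)), rfl⟩
  -- `t' = a c`
  have hCN : P ≤ normalizer (C : Set G) :=
    Subgroup.le_normalizer.trans (normalizer_le_normalizer_centralizer' P)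
  have hgt' : t' ∈ ((P ⊔ C : Subgroup G) : Set G) := hgt
  rw [Subgroup.coe_mul_of_left_le_normalizer_right P C hCN] at hgt'
  obtain ⟨q, hq, c₀, hc₀, hqc⟩ := hgt'
  change q * c₀ = t' at hqc
  have hqc₀ : Commute q c₀ := Subgroup.mem_centralizer_iff.mp hc₀ q hq
  have hq2 : (⟨q, hq⟩ : P) ^ 2 ∈ Subgroup.center P := by
    refine Subgroup.mem_center_iff.mpr fun k => Subtype.ext ?_
    show (k : G) * q ^ 2 = q ^ 2 * k
    have h1 : q ^ 2 = (c₀ ^ 2)⁻¹ := by
      rw [eq_inv_iff_mul_eq_one, ← hqc₀.mul_pow, hqc, pow_two, ht'2]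
    rw [h1]
    exact ((show Commute (k : G) c₀ from Subgroup.mem_centralizer_iff.mp hc₀ k k.2).pow_right 2).inv_right.eq
  have hodd : Odd (orderOf ((⟨q, hq⟩ : P) ^ 2)) :=
    hZ.of_dvd_nat ((Subgroup.center P).orderOf_dvd_natCard hq2)
  obtain ⟨k, hk⟩ := hodd
  set a := q ^ (orderOf ((⟨q, hq⟩ : P) ^ 2)) with ha
  have haP : a ∈ P := pow_mem hq _
  have ha2 : a * a = 1 := by
    rw [ha, ← pow_add, ← two_mul, pow_mul]
    exact congrArg Subtype.val (pow_orderOf_eq_one ((⟨q, hq⟩ : P) ^ 2))
  set c := a⁻¹ * t' with hcdef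
  have hcC : c ∈ C := by
    have h1 : c = ((q ^ 2) ^ k)⁻¹ * c₀ := by
      rw [hcdef, ← hqc, ha, hk, pow_succ, pow_mul]
      group
    rw [h1]
    refine mul_mem (inv_mem (pow_mem ?_ k)) hc₀
    exact Subgroup.mem_centralizer_iff.mpr fun y hy =>
      congrArg Subtype.val (Subgroup.mem_center_iff.mp hq2 ⟨y, hy⟩)
  have hat : Commute a t := Subgroup.mem_centralizer_iff.mp htP a haP
  have hac : Commute a c := Subgroup.mem_centralizer_iff.mp hcC a haP
  have hceq : a * c = t' := by rw [hcdef, mul_inv_cancel_left]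
  have hc2 : c * c = 1 := by
    have h1 : (a * c) ^ 2 = 1 := by rw [hceq, pow_two, ht'2]
    rw [hac.mul_pow, pow_two a, ha2, one_mul, pow_two] at h1
    exact h1
  have hct : c * t = t * c := (hat.inv_left.mul_left (show Commute t' t from ht't)).eq
  have hc1t : c = 1 ∨ c = t := by
    by_cases h : c = 1
    · exact Or.inl h
    · exact Or.inr (eq_of_rank_le_one hr hcC htP (orderOf_eq_prime (by rw [pow_two, hc2]) h) ht hct)
  have ha1 : a ≠ 1 := fun h => by
    rw [h, one_mul] at hceq
    rcases hc1t with hc | hc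
    · rw [← hceq, hc, orderOf_one] at ht'o
      exact absurd ht'o (by norm_num)
    · exact hne (hceq.symm.trans hc)
  have hao : orderOf a = 2 := orderOf_eq_prime (by rw [pow_two, ha2]) ha1
  have hP2 : 2 ∣ Nat.card P := hao ▸ P.orderOf_dvd_natCard haP
  -- `P` centralizes `W`
  set W := Cfsg.pPrimeCore 2 G with hW
  haveI hWn : W.Normal := pPrimeCore_normal 2
  have hWcop : (Nat.card W).Coprime 2 := pPrimeCore_coprime 2
  set Y := centralizer (W : Set G) with hY
  haveI hYn : Y.Normal := Subgroup.normal_centralizer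
  have hfix : ∀ w ∈ W, w * t = t * w → Commute w a := fun w hw hwt =>
    (Subgroup.mem_centralizer_iff.mp (centralizes_centralizer_inf hWcop hP hP2 ht htP hw hwt) a haP).symm
  have hfix' : ∀ w ∈ W, w * t' = t' * w → Commute w (g * a * g⁻¹) := fun w hw hwt => by
    have hw' : g⁻¹ * w * g ∈ W := by simpa using hWn.conj_mem w hw g⁻¹
    have h2 := hfix _ hw' (by
      calc g⁻¹ * w * g * t = g⁻¹ * (w * t') * g := by rw [ht']; group
        _ = g⁻¹ * (t' * w) * g := by rw [hwt]
        _ = t * (g⁻¹ * w * g) := by rw [ht']; group)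
    calc w * (g * a * g⁻¹) = g * (g⁻¹ * w * g * a) * g⁻¹ := by group
      _ = g * (a * (g⁻¹ * w * g)) * g⁻¹ := by rw [h2.eq]
      _ = g * a * g⁻¹ * w := by group
  have hnormal : ∀ z : G, z ∈ normalizer (W : Set G) :=
    fun z => Subgroup.le_normalizer_of_normal (Subgroup.mem_top z)
  have hPY : P ≤ Y := by
    rcases IsQuasisimple.normal_le_center_or_eq_top hP.1 (Subgroup.Normal.subgroupOf hYn P) with h | h
    swap
    · exact Subgroup.subgroupOf_eq_top.mp h
    exfalso
    have hZa : (⟨a, haP⟩ : P) ∉ Subgroup.center P := fun h' => by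
      have := (Subgroup.center P).orderOf_dvd_natCard h'
      rw [Subgroup.orderOf_mk, hao] at this
      exact Nat.not_even_iff_odd.mpr hZ (even_iff_two_dvd.mpr this)
    rcases hc1t with hc | hc
    · -- `t' = a`; then `t a` centralizes `W`
      rw [hc, mul_one] at hceq
      have hga : g * a * g⁻¹ = t := by rw [hceq]; exact hgg
      have hu2 : t * a * (t * a) = 1 := by
        rw [show t * a * (t * a) = t * (a * t) * a by group, hat.eq,
          show t * (t * a) * a = (t * t) * (a * a) by group, ht2, ha2, one_mul]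
      have hle := le_centralizer_of_four hWcop ht2 hu2
        ((Commute.refl t).mul_right hat.symm).eq
        (hnormal t) (hnormal _)
        (fun w hw hwt => ((show Commute w t from hwt).mul_right (hfix w hw hwt)).eq)
        (fun w hw hwa => by
          rw [show t * (t * a) = a by rw [← mul_assoc, ht2, one_mul]] at hwa
          have h2 : Commute w t := hga ▸ hfix' w hw (by rw [← hceq]; exact hwa)
          exact (h2.mul_right (show Commute w a from hwa)).eq)
      refine hZa (mem_center_of_commutator_center hP.1 fun y => h ?_)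
      -- `⁅y, a⁆` centralizes `W` since `a` acts as `t`
      show ⁅(y : G), a⁆ ∈ Y
      refine Subgroup.mem_centralizer_iff.mpr fun w hw => ?_
      have hta : ∀ w ∈ W, t * a * w = w * (t * a) := fun w hw =>
        (Subgroup.mem_centralizer_singleton_iff.mp (hle hw)).symm
      have hct' : Commute (y : G) t := Subgroup.mem_centralizer_iff.mp htP y y.2
      have e : ⁅(y : G), a⁆ = y * (t * a) * (y : G)⁻¹ * (t * a)⁻¹ := by
        rw [commutatorElement_def, mul_inv_rev, hti,
          show (y : G) * (t * a) * (y : G)⁻¹ * (a⁻¹ * t) = (y : G) * t * (a * (y : G)⁻¹ * a⁻¹) * t by group,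
          hct'.eq, show t * (y : G) * (a * (y : G)⁻¹ * a⁻¹) * t = t * ⁅(y : G), a⁆ * t by
            rw [commutatorElement_def]; group]
        have h3 : Commute t ⁅(y : G), a⁆ := Subgroup.mem_centralizer_iff.mp htP _
          (Subgroup.commutator_le_self P (Subgroup.commutator_mem_commutator y.2 haP)) |>.symm
        rw [h3.eq, mul_assoc ⁅(y : G), a⁆, ht2, mul_one, commutatorElement_def]
      rw [e]
      have hyw : ∀ v ∈ W, (y : G) * (t * a) * (y : G)⁻¹ * v = v * ((y : G) * (t * a) * (y : G)⁻¹) := by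
        intro v hv
        have hv' : (y : G)⁻¹ * v * y ∈ W := by simpa using hWn.conj_mem v hv (y : G)⁻¹
        calc (y : G) * (t * a) * (y : G)⁻¹ * v = y * (t * a * ((y : G)⁻¹ * v * y)) * (y : G)⁻¹ := by group
          _ = y * ((y : G)⁻¹ * v * y * (t * a)) * (y : G)⁻¹ := by rw [hta _ hv']
          _ = v * ((y : G) * (t * a) * (y : G)⁻¹) := by group
      exact ((show Commute ((y : G) * (t * a) * (y : G)⁻¹) w from hyw w hw).mul_left
        (show Commute (t * a) w from hta w hw).inv_left).symm.eq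
    · -- `t' = a t`
      rw [hc] at hceq
      have hga : g * a * g⁻¹ = a := by
        have e : a = t' * t := by rw [← hceq, mul_assoc, ht2, mul_one]
        calc g * a * g⁻¹ = (g * t' * g⁻¹) * (g * t * g⁻¹) := by rw [e]; group
          _ = a := by rw [hgg, ← ht', ← ht't, ← e]
      have hle := le_centralizer_of_four hWcop ht2 ha2 hat.symm.eq (hnormal t) (hnormal a)
        (fun w hw hwt => (hfix w hw hwt).eq)
        (fun w hw hwt => by
          have := hfix' w hw (by rw [← hceq, hat.eq]; exact hwt)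
          rw [hga] at this
          exact this.eq)
      exact hZa (h (show (⟨a, haP⟩ : P) ∈ Y.subgroupOf P from Subgroup.mem_centralizer_iff.mpr
        fun w hw => Subgroup.mem_centralizer_singleton_iff.mp (hle hw)))
  refine ⟨Subgroup.commutator_eq_bot_iff_le_centralizer.mpr hPY, fun L hL hPL => ?_⟩
  set π := modCore 2 G
  rcases component_le_or_commutes hL.2.1 (hYn.map π modCore_surjective).isSubnormal with h | h
  · refine ((Techniques.isComponent_iff_commutes hL).mpr ?_).2
    rw [Subgroup.commutator_eq_bot_iff_le_centralizer, ← pComponent_pGen_eq hL]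
    refine (pGen_mono ?_).trans (pGen_sup_le (A := Y) hWcop)
    refine (Subgroup.map_le_iff_le_comap.mp h).trans (le_of_eq ?_)
    rw [Subgroup.comap_map_eq, QuotientGroup.ker_mk']
  · exfalso
    have h1 : P ≤ W := by
      refine (IsQuasisimple.commutator_eq_self hP.1).ge.trans ?_
      conv_rhs => rw [← QuotientGroup.ker_mk' W]
      rw [← Subgroup.map_eq_bot_iff, Subgroup.map_commutator]
      exact le_bot_iff.mp ((Subgroup.commutator_mono (Subgroup.map_mono hPL) (Subgroup.map_mono hPY)).trans h.le)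
    exact Nat.prime_two.coprime_iff_not_dvd.mp hWcop.symm (hP2.trans (Subgroup.card_dvd_of_le h1))

end CfsgLib.Components
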