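import Cfsg.Agent.Lib.Transfer.RankTwo
import Cfsg.Agent.Lib.PGroups.MaxAbelian
import Cfsg.Agent.Lib.Core.Coprime

/-!
# A `p`-group (`p` odd) with two generating sets acting coprimely (S2277)

If a `p`-group `P = ⟨C⟩ = ⟨D⟩` acts on a group `N` of order prime to `p` so that every invariant
subgroup is the product of the fixed points of `d` and of `c` for all `c ∈ C`, `d ∈ D`, then the
action is trivial.
-/

set_option autoImplicit false
set_option linter.style.haveILetI false

namespace CfsgLib.TwoSets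

open Subgroup
open scoped IsMulCommutative

variable {P V : Type*} [Group P] [CommGroup V] {p : ℕ}

/-- Fixed points of an automorphism in a given action. -/
def fixSub (φ : P →* MulAut V) (g : P) : Subgroup V :=
  MonoidHom.eqLocus (φ g).toMonoidHom (MonoidHom.id V)

theorem mem_fixSub {φ : P →* MulAut V} {g : P} {v : V} : v ∈ fixSub φ g ↔ φ g v = v := Iff.rfl

/-- The norm of `v` for the powers of `g`. -/
def nrm (φ : P →* MulAut V) (p : ℕ) (g : P) (v : V) : V := ∏ k ∈ Finset.range p, φ (g ^ k) v

theorem nrm_mul (φ : P →* MulAut V) (g : P) (v w : V) :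
    nrm φ p g (v * w) = nrm φ p g v * nrm φ p g w := by
  simp [nrm, map_mul, Finset.prod_mul_distrib]

theorem nrm_mem_fix (φ : P →* MulAut V) {g : P} (hg : g ^ p = 1) (v : V) :
    nrm φ p g v ∈ fixSub φ g := by
  rw [mem_fixSub, nrm, map_prod]
  have h1 : ∀ k, φ g (φ (g ^ k) v) = φ (g ^ (k + 1)) v := fun k => by
    rw [pow_succ', map_mul, MulAut.mul_apply]
  simp only [h1]
  have h2 := (Finset.prod_range_succ' (fun k => φ (g ^ k) v) p).symm.trans
    (Finset.prod_range_succ (fun k => φ (g ^ k) v) p)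
  simp only [hg, pow_zero] at h2
  exact mul_right_cancel h2

theorem nrm_of_fix (φ : P →* MulAut V) {g : P} {v : V} (hv : φ g v = v) :
    nrm φ p g v = v ^ p := by
  have h1 : ∀ k, φ (g ^ k) v = v := by
    intro k
    induction k with
    | zero => simp
    | succ k ih => rw [pow_succ', map_mul, MulAut.mul_apply, ih, hv]
  simp only [nrm, h1, Finset.prod_const, Finset.card_range]

variable [Finite V]

theorem pow_eq_one_imp (hcop : (Nat.card V).Coprime p) {v : V} (h : v ^ p = 1) : v = 1 := by
  rw [← orderOf_eq_one_iff]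
  exact Nat.eq_one_of_dvd_coprimes hcop (orderOf_dvd_natCard v) (orderOf_dvd_of_pow_eq_one h)

theorem card_le_mul_of_surj (φ : P →* MulAut V) (c d : P)
    (hF : ∀ v : V, ∃ a b, φ d a = a ∧ φ c b = b ∧ v = a * b) :
    Nat.card V ≤ Nat.card (fixSub φ d) * Nat.card (fixSub φ c) := by
  rw [← Nat.card_prod]
  refine Nat.card_le_card_of_surjective (fun x : fixSub φ d × fixSub φ c => (x.1 : V) * x.2) ?_
  intro v
  obtain ⟨a, b, ha, hb, rfl⟩ := hF v
  exact ⟨(⟨a, ha⟩, ⟨b, hb⟩), rfl⟩

/-- The irreducible faithful case is impossible. -/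
theorem false_of_irreducible [Finite P] [hp : Fact p.Prime] (hp2 : p ≠ 2) (hP : IsPGroup p P)
    [Nontrivial P] (hcop : (Nat.card V).Coprime p) (φ : P →* MulAut V)
    (hinj : Function.Injective φ)
    (hirr : ∀ W : Subgroup V, (∀ g, ∀ v ∈ W, φ g v ∈ W) → W = ⊥ ∨ W = ⊤)
    (C D : Set P) (hC : closure C = ⊤) (hD : closure D = ⊤)
    (hF : ∀ c ∈ C, ∀ d ∈ D, ∀ v : V, ∃ a b, φ d a = a ∧ φ c b = b ∧ v = a * b) : False := by
  classical
  have hVne : ¬ ∀ v : V, v = 1 := by
    intro h
    obtain ⟨g, hg⟩ := exists_ne (1 : P)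
    refine hg (hinj (MulEquiv.ext fun v => ?_))
    rw [h v, map_one, map_one]
  have hfix0 : ∀ g : P, g ≠ 1 → g ∈ center P → ∀ v : V, φ g v = v → v = 1 := by
    intro g hg hgc v hv
    rcases hirr (fixSub φ g) (fun h u hu => by
      rw [mem_fixSub] at hu ⊢
      rw [← MulAut.mul_apply, ← map_mul, ← mem_center_iff.mp hgc h, map_mul, MulAut.mul_apply, hu])
      with h | h
    · exact mem_bot.mp (h ▸ mem_fixSub.mpr hv)
    · exact absurd (hinj (MulEquiv.ext fun u => by
        rw [map_one]; exact mem_fixSub.mp (h ▸ mem_top u))) hg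
  have hCne : ∀ S : Set P, closure S = ⊤ → ∀ e : P, e ∉ center P → ∃ c ∈ S, c * e ≠ e * c := by
    intro S hS e he
    by_contra hne
    push Not at hne
    refine he (mem_center_iff.mpr fun g => ?_)
    have : g ∈ centralizer ({e} : Set P) := by
      refine (closure_le _).mpr ?_ (hS.symm ▸ mem_top g : g ∈ closure S)
      exact fun c hc => mem_centralizer_singleton_iff.mpr (hne c hc)
    exact mem_centralizer_singleton_iff.mp this
  by_cases hab : center P = ⊤
  · have hne : ∀ S : Set P, closure S = ⊤ → ∃ c ∈ S, c ≠ 1 := by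
      intro S hS
      by_contra hne
      push Not at hne
      have : closure S ≤ (⊥ : Subgroup P) := (closure_le _).mpr fun c hc => by simp [hne c hc]
      rw [hS, top_le_iff] at this
      exact bot_ne_top this
    obtain ⟨c, hc, hc1⟩ := hne C hC
    obtain ⟨d, hd, hd1⟩ := hne D hD
    refine hVne fun v => ?_
    obtain ⟨a, b, ha, hb, rfl⟩ := hF c hc d hd v
    rw [hfix0 d hd1 (hab ▸ mem_top d) a ha, hfix0 c hc1 (hab ▸ mem_top c) b hb, one_mul]
  have hnc : ¬ IsCyclic P := fun h => hab (eq_top_iff.mpr fun g _ =>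
    mem_center_iff.mpr fun x => mul_comm' x g)
  obtain ⟨E, hEn, hE, hEc⟩ := CfsgLib.Transfer.exists_normal_elementary_card_sq hp2 hP hnc
  haveI := hEn
  have hEne : E ≠ ⊥ := by
    intro h
    rw [h, card_bot] at hEc
    have := hp.out.two_le
    nlinarith
  obtain ⟨⟨z, hzEc⟩, hz1⟩ := ne_bot_iff_exists_ne_one.mp (CfsgLib.PGroups.inf_center_ne_bot hP hEne)
  have hz : z ≠ 1 := fun h => hz1 (Subtype.ext h)
  have hzE : z ∈ E := hzEc.1
  have hzc : z ∈ center P := hzEc.2
  have hzp : z ^ p = 1 := hE.2 z hzE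
  have hzo : orderOf z = p := orderOf_eq_prime hzp hz
  have hwc : ∀ w ∈ zpowers z, w ∈ center P := fun w hw => (zpowers_le.mpr hzc) hw
  have hwp : ∀ w ∈ zpowers z, w ^ p = 1 := fun w hw => hE.2 w ((zpowers_le.mpr hzE) hw)
  -- the product of all norms
  have key : ∀ e ∈ E, ∀ v : V, ∏ i ∈ Finset.range p, nrm φ p (e * z ^ i) v = v ^ p := by
    intro e he v
    simp only [nrm]
    rw [Finset.prod_comm]
    have h1 : ∀ k ∈ Finset.range p, (∏ i ∈ Finset.range p, φ ((e * z ^ i) ^ k) v) =
        φ (e ^ k) (nrm φ p (z ^ k) v) := by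
      intro k _
      rw [nrm, map_prod]
      refine Finset.prod_congr rfl fun i _ => ?_
      have hcm : Commute e (z ^ i) := (show Commute e z from mem_center_iff.mp hzc e).pow_right i
      rw [hcm.mul_pow, ← pow_mul, mul_comm i k, pow_mul, map_mul, MulAut.mul_apply]
    rw [Finset.prod_congr rfl h1, Finset.prod_eq_single_of_mem 0 (Finset.mem_range.mpr hp.out.pos)]
    · rw [pow_zero, pow_zero, map_one, MulAut.one_apply, nrm_of_fix φ (by simp)]
    · intro k hk hk0
      have hzk : z ^ k ≠ 1 := by
        intro h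
        exact Nat.not_dvd_of_pos_of_lt (Nat.pos_of_ne_zero hk0) (Finset.mem_range.mp hk)
          (hzo ▸ orderOf_dvd_of_pow_eq_one h)
      rw [hfix0 _ hzk (pow_mem hzc k) _ (mem_fixSub.mp
        (nrm_mem_fix φ (by rw [← pow_mul, mul_comm, pow_mul, hzp, one_pow]) v)), map_one]
  have hEcomm : ∀ a ∈ E, ∀ b ∈ E, Commute a b := fun a ha b hb =>
    congrArg Subtype.val (hE.1.is_comm.comm ⟨a, ha⟩ ⟨b, hb⟩)
  -- `E` is not central
  obtain ⟨e, heE, hec⟩ : ∃ e ∈ E, e ∉ center P := by
    by_contra hne
    push Not at hne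
    obtain ⟨e, heE, he⟩ : ∃ e ∈ E, e ∉ zpowers z := by
      by_contra h
      push Not at h
      have := card_le_of_le (h : E ≤ zpowers z)
      rw [hEc, Nat.card_zpowers, hzo] at this
      nlinarith [hp.out.two_le]
    refine hVne fun v => pow_eq_one_imp hcop ?_
    rw [← key e heE v]
    refine Finset.prod_eq_one fun i _ => hfix0 _ ?_ ?_ _ (mem_fixSub.mp (nrm_mem_fix φ ?_ v))
    · intro h
      exact he (by rw [eq_inv_of_mul_eq_one_left h]; exact inv_mem (pow_mem (mem_zpowers z) i))
    · exact hne _ (mul_mem heE (pow_mem hzE i))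
    · exact hE.2 _ (mul_mem heE (pow_mem hzE i))
  haveI hZn : (zpowers z).Normal := ⟨fun w hw g => by
    rwa [mem_center_iff.mp (hwc w hw) g, mul_inv_cancel_right]⟩
  have hcomm : ∀ g : P, e⁻¹ * (g * e * g⁻¹) ∈ zpowers z := by
    intro g
    set π := QuotientGroup.mk' (zpowers z) with hπ
    have hsurj : Function.Surjective π := QuotientGroup.mk'_surjective _
    haveI : (E.map π).Normal := hEn.map π hsurj
    have hcardEq : Nat.card (E.map π) = p := by
      have hi : (E.map π).index = E.index := Subgroup.index_map_eq E hsurj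
        (by rw [hπ, QuotientGroup.ker_mk']; exact zpowers_le.mpr hzE)
      have h1 := card_mul_index E
      have h2 := card_mul_index (E.map π)
      have h3 := card_mul_index (zpowers z)
      rw [hi, ← index_eq_card] at h2
      rw [Nat.card_zpowers, hzo, ← h2] at h3
      rw [hEc, ← h3] at h1
      have hipos : 0 < E.index := Nat.pos_of_ne_zero index_ne_zero_of_finite
      have : p * (p * E.index) = p * (Nat.card (E.map π) * E.index) := by rw [← h1]; ring
      exact (Nat.eq_of_mul_eq_mul_right hipos (Nat.eq_of_mul_eq_mul_left hp.out.pos this)).symm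
    have hc := CfsgLib.PGroups.le_center_of_card_prime (hP.to_quotient (zpowers z)) hcardEq
      (mem_map_of_mem π heE)
    rw [← QuotientGroup.eq_one_iff]
    show π (e⁻¹ * (g * e * g⁻¹)) = 1
    rw [map_mul, map_mul, map_mul, map_inv, map_inv, mem_center_iff.mp hc (π g),
      mul_inv_cancel_right, inv_mul_cancel]
  have hep : ∀ w ∈ zpowers z, (e * w) ^ p = 1 := fun w hw =>
    hE.2 _ (mul_mem heE ((zpowers_le.mpr hzE) hw))
  -- a non-commuting element moves the lines cyclically
  have hmove : ∀ c : P, c * e ≠ e * c → ∃ w₀ ∈ zpowers z, w₀ ≠ 1 ∧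
      ∀ w ∈ zpowers z, c * (e * w) * c⁻¹ = e * (w₀ * w) := by
    intro c hc
    refine ⟨e⁻¹ * (c * e * c⁻¹), hcomm c, fun h => hc ?_, fun w hw => ?_⟩
    · rw [inv_mul_eq_one] at h
      exact (mul_inv_eq_iff_eq_mul.mp h.symm)
    · rw [← mul_assoc e, mul_inv_cancel_left,
        show c * (e * w) * c⁻¹ = c * e * (w * c⁻¹) by group,
        ← mem_center_iff.mp (hwc w hw) c⁻¹]
      group
  have hbound : ∀ c : P, c * e ≠ e * c → Nat.card (fixSub φ c) ≤ Nat.card (fixSub φ e) := by
    intro c hc
    obtain ⟨w₀, hw₀, hw₀1, hmv⟩ := hmove c hc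
    have hshift : ∀ v : V, φ c v = v → ∀ w ∈ zpowers z,
        φ c (nrm φ p (e * w) v) = nrm φ p (e * (w₀ * w)) v := by
      intro v hv w hw
      rw [nrm, nrm, map_prod]
      refine Finset.prod_congr rfl fun k _ => ?_
      rw [← hmv w hw, conj_pow, map_mul, map_mul, MulAut.mul_apply, MulAut.mul_apply]
      congr 2
      conv_rhs => rw [← hv]
      rw [← MulAut.mul_apply, ← map_mul, inv_mul_cancel, map_one, MulAut.one_apply]
    refine Nat.card_le_card_of_injective
      (fun v : fixSub φ c => (⟨nrm φ p e v, nrm_mem_fix φ (hE.2 e heE) _⟩ : fixSub φ e)) ?_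
    intro u v huv
    have h0 : nrm φ p e ((u : V) * (v : V)⁻¹) = 1 := by
      have h1 : nrm φ p e (u : V) = nrm φ p e (v : V) := congrArg Subtype.val huv
      rw [nrm_mul, h1, ← nrm_mul, mul_inv_cancel]
      simp [nrm]
    have hall : ∀ m : ℕ, nrm φ p (e * w₀ ^ m) ((u : V) * (v : V)⁻¹) = 1 := by
      intro m
      induction m with
      | zero => rwa [pow_zero, mul_one]
      | succ m ih =>
        rw [pow_succ', ← hshift _ (mem_fixSub.mp (mul_mem u.2 (inv_mem v.2))) _ (pow_mem hw₀ m),
          ih, map_one]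
    have hgen : zpowers w₀ = zpowers z := by
      refine Subgroup.eq_of_le_of_card_ge (zpowers_le.mpr hw₀) ?_
      rw [Nat.card_zpowers, Nat.card_zpowers, hzo, orderOf_eq_prime (hwp w₀ hw₀) hw₀1]
    have : ((u : V) * (v : V)⁻¹) ^ p = 1 := by
      rw [← key e heE _]
      refine Finset.prod_eq_one fun i _ => ?_
      obtain ⟨m, hm⟩ := mem_powers_iff_mem_zpowers.mpr
        (hgen.symm ▸ pow_mem (mem_zpowers z) i : z ^ i ∈ zpowers w₀)
      rw [← hm]
      exact hall m
    exact Subtype.ext (mul_inv_eq_one.mp (pow_eq_one_imp hcop this))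
  obtain ⟨c, hcC, hce⟩ := hCne C hC e hec
  obtain ⟨d, hdD, hde⟩ := hCne D hD e hec
  obtain ⟨w₀, hw₀, hw₀1, hmv⟩ := hmove c hce
  have hcard : ∀ m : ℕ, Nat.card (fixSub φ (e * w₀ ^ m)) = Nat.card (fixSub φ e) := by
    intro m
    induction m with
    | zero => rw [pow_zero, mul_one]
    | succ m ih =>
      rw [← ih, pow_succ']
      have hm := hmv _ (pow_mem hw₀ m)
      refine Nat.card_congr (((φ c).toEquiv.subtypeEquiv fun v => ?_)).symm
      simp only [mem_fixSub, MulEquiv.toEquiv_eq_coe, EquivLike.coe_coe]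
      rw [← hm, ← MulAut.mul_apply, ← map_mul, inv_mul_cancel_right]
      simp only [map_mul, MulAut.mul_apply]
      exact ⟨fun h => congrArg (φ c) h, fun h => (φ c).injective h⟩
  have hdist : ∀ w ∈ zpowers z, w ≠ 1 → ∀ b : V, φ (e * w) b = b → nrm φ p e b = 1 := by
    intro w hw hw1 b hb
    refine hfix0 w⁻¹ (inv_ne_one.mpr hw1) (inv_mem (hwc w hw)) _ (mem_fixSub.mp ?_)
    have heq : nrm φ p e b = nrm φ p w⁻¹ b := by
      have h1 : ∀ k : ℕ, φ ((e * w) ^ k) b = b := by
        intro k
        induction k with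
        | zero => simp
        | succ k ih => rw [pow_succ', map_mul, MulAut.mul_apply, ih, hb]
      refine Finset.prod_congr rfl fun k _ => ?_
      have hcm : Commute e w := mem_center_iff.mp (hwc w hw) e
      conv_rhs => rw [← h1 k]
      rw [← MulAut.mul_apply, ← map_mul, hcm.mul_pow, inv_pow, ← mul_assoc,
        (hcm.pow_pow k k).inv_right.symm.eq, mul_assoc, inv_mul_cancel, mul_one]
    rw [heq]
    exact nrm_mem_fix φ (by rw [inv_pow, hwp w hw, inv_one]) b
  let f : fixSub φ e × fixSub φ (e * w₀ ^ 1) × fixSub φ (e * w₀ ^ 2) →* V :=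
    (fixSub φ e).subtype.coprod
      ((fixSub φ (e * w₀ ^ 1)).subtype.coprod (fixSub φ (e * w₀ ^ 2)).subtype)
  have hw₀o : orderOf w₀ = p := orderOf_eq_prime (hwp w₀ hw₀) hw₀1
  have hw₀2 : w₀ ^ 2 ≠ 1 := fun h => hp2 ((Nat.prime_dvd_prime_iff_eq hp.out Nat.prime_two).mp
    (hw₀o ▸ orderOf_dvd_of_pow_eq_one h))
  have hfinj : Function.Injective f := by
    rw [← MonoidHom.ker_eq_bot_iff, eq_bot_iff]
    rintro ⟨⟨a, ha⟩, ⟨b, hb⟩, ⟨x, hx⟩⟩ h
    have h' : a * (b * x) = 1 := MonoidHom.mem_ker.mp h
    rw [mem_fixSub] at ha hb hx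
    have h1 := congrArg (nrm φ p e) h'
    rw [nrm_mul, nrm_mul, hdist _ (pow_mem hw₀ 1) (by rwa [pow_one]) b hb,
      hdist _ (pow_mem hw₀ 2) hw₀2 x hx, nrm_of_fix φ ha, mul_one, mul_one,
      show nrm φ p e (1 : V) = 1 by simp [nrm]] at h1
    have ha1 := pow_eq_one_imp hcop h1
    subst ha1
    rw [one_mul] at h'
    have hxb : x = b⁻¹ := eq_inv_of_mul_eq_one_right h'
    have hb1 : b = 1 := by
      refine hfix0 w₀ hw₀1 (hwc w₀ hw₀) b ?_
      have hx' : φ (e * w₀ ^ 2) b = b := by
        have := congrArg (·⁻¹) hx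
        simpa [hxb] using this
      rw [pow_succ, ← mul_assoc, map_mul, MulAut.mul_apply] at hx'
      conv_rhs at hx' => rw [← hb]
      exact (φ (e * w₀ ^ 1)).injective hx'
    subst hb1
    simp [hxb]
  have hlow := Nat.card_le_card_of_injective f hfinj
  rw [Nat.card_prod, Nat.card_prod, hcard, hcard] at hlow
  have hup := (card_le_mul_of_surj φ c d (hF c hcC d hdD)).trans
    (Nat.mul_le_mul (hbound d hde) (hbound c hce))
  set W := Nat.card (fixSub φ e) with hW
  have hWpos : 0 < W := Nat.card_pos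
  have hW1 : W = 1 := by nlinarith
  refine hVne fun v => ?_
  haveI : Subsingleton V := by
    rw [← Finite.card_le_one_iff_subsingleton]
    rw [hW1] at hup
    omega
  exact Subsingleton.elim v 1

/-- Fixed subgroup and quotient acted on trivially force a trivial coprime action. -/
theorem fix_of_series [Finite P] (hcop : (Nat.card V).Coprime (Nat.card P)) (φ : P →* MulAut V)
    (g : P) (v : V) (hfix : φ g (φ g v / v) = φ g v / v) : φ g v = v := by
  set w := φ g v / v with hw
  have hk : ∀ k : ℕ, φ (g ^ k) v = v * w ^ k := by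
    intro k
    induction k with
    | zero => simp
    | succ k ih =>
      rw [pow_succ', map_mul, MulAut.mul_apply, ih, map_mul, map_pow, hfix,
        show φ g v = v * w by rw [hw, mul_div_cancel], mul_assoc, pow_succ']
  have h := hk (Nat.card P)
  rw [pow_card_eq_one', map_one, MulAut.one_apply, eq_comm, mul_eq_left] at h
  exact div_eq_one.mp (pow_eq_one_imp hcop h)

end CfsgLib.TwoSets

namespace CfsgLib.TwoSets

open Subgroup
open scoped IsMulCommutative

universe u v

variable {P : Type u} [Group P] [Finite P] {p : ℕ} [hp : Fact p.Prime]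

/-- Triviality of the action on an abelian group. -/
theorem trivial_of_fixed_product (hp2 : p ≠ 2) (hP : IsPGroup p P) (C D : Set P)
    (hC : closure C = ⊤) (hD : closure D = ⊤) :
    ∀ n : ℕ, ∀ (V : Type v) [CommGroup V] [Finite V], Nat.card V = n → n.Coprime p →
      ∀ φ : P →* MulAut V,
      (∀ c ∈ C, ∀ d ∈ D, ∀ v : V, ∃ a b, φ d a = a ∧ φ c b = b ∧ v = a * b) →
      ∀ g v, φ g v = v := by
  intro n
  induction n using Nat.strong_induction_on with
  | _ n ih =>
    intro V _ _ hn hcop φ hF
    subst hn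
    obtain ⟨k, hk⟩ := IsPGroup.iff_card.mp hP
    have hcopP : (Nat.card V).Coprime (Nat.card P) := hk ▸ hcop.pow_right k
    by_cases hred : ∃ W : Subgroup V, (∀ g, ∀ v ∈ W, φ g v ∈ W) ∧ W ≠ ⊥ ∧ W ≠ ⊤
    · obtain ⟨W, hW, hW0, hW1⟩ := hred
      -- all commutators lie in every nontrivial invariant subgroup
      have hquot : ∀ U : Subgroup V, (∀ g, ∀ v ∈ U, φ g v ∈ U) → U ≠ ⊥ →
          ∀ g v, φ g v / v ∈ U := by
        intro U hU hU0 g v
        have hmap : ∀ g, U.map (φ g : V ≃* V).toMonoidHom = U := fun g => by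
          refine le_antisymm (map_le_iff_le_comap.mpr fun u hu => hU g u hu) fun u hu => ?_
          exact ⟨φ g⁻¹ u, hU g⁻¹ u hu, by
            show φ g (φ g⁻¹ u) = u
            rw [← MulAut.mul_apply, ← map_mul, mul_inv_cancel, map_one, MulAut.one_apply]⟩
        let ψ : P →* MulAut (V ⧸ U) := MonoidHom.mk'
          (fun g => QuotientGroup.congr U U (φ g) (hmap g)) fun a b => MulEquiv.ext fun q => by
            induction q using QuotientGroup.induction_on with
            | _ x =>
              show ((φ (a * b) x : V) : V ⧸ U) = ((φ a (φ b x) : V) : V ⧸ U)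
              rw [map_mul]
              rfl
        have hlt : Nat.card (V ⧸ U) < Nat.card V := by
          rw [U.card_eq_card_quotient_mul_card_subgroup]
          have : 1 < Nat.card U := (one_lt_card_iff_ne_bot U).mpr hU0
          exact lt_mul_of_one_lt_right Nat.card_pos this
        have h := ih _ hlt (V ⧸ U) rfl
          (hcop.coprime_dvd_left (card_quotient_dvd_card U)) ψ (by
            intro c hc d hd q
            induction q using QuotientGroup.induction_on with
            | _ x =>
              obtain ⟨a, b, ha, hb, rfl⟩ := hF c hc d hd x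
              refine ⟨(a : V ⧸ U), (b : V ⧸ U), ?_, ?_, rfl⟩
              · show ((φ d a : V) : V ⧸ U) = _
                rw [ha]
              · show ((φ c b : V) : V ⧸ U) = _
                rw [hb]) g (v : V ⧸ U)
        rw [div_eq_mul_inv, mul_comm, ← QuotientGroup.eq]
        have h' : ((φ g v : V) : V ⧸ U) = (v : V ⧸ U) := h
        exact h'.symm
      -- a nontrivial fixed point
      obtain ⟨v₀, hv₀⟩ : ∃ v₀ : V, v₀ ∉ W := by
        by_contra h
        push Not at h
        exact hW1 (eq_top_iff.mpr fun v _ => h v)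
      haveI := Fintype.ofFinite P
      set s : V := ∏ g : P, φ g v₀ with hs
      have hsfix : ∀ h, φ h s = s := fun h => by
        rw [hs, map_prod]
        exact Fintype.prod_equiv (Equiv.mulLeft h) _ _ fun g => by
          simp [map_mul]
      have hs1 : s ≠ 1 := by
        intro h
        have hmod : (s : V ⧸ W) = (v₀ : V ⧸ W) ^ Fintype.card P := by
          rw [hs, ← QuotientGroup.mk'_apply, map_prod]
          refine (Finset.prod_congr rfl fun g _ => ?_).trans (by rw [Finset.prod_const,
            Finset.card_univ])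
          refine QuotientGroup.eq.mpr ?_
          rw [mul_comm, ← div_eq_mul_inv]
          exact inv_div (φ g v₀) v₀ ▸ inv_mem (hquot W hW hW0 g v₀)
        rw [h, QuotientGroup.mk_one, ← Nat.card_eq_fintype_card] at hmod
        apply hv₀
        rw [← QuotientGroup.eq_one_iff, ← orderOf_eq_one_iff]
        exact Nat.eq_one_of_dvd_coprimes hcopP
          ((_root_.orderOf_dvd_natCard _).trans (card_quotient_dvd_card W))
          (orderOf_dvd_of_pow_eq_one hmod.symm)
      set F₀ : Subgroup V := ⨅ g : P, fixSub φ g with hF₀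
      have hF₀mem : ∀ v, v ∈ F₀ ↔ ∀ g, φ g v = v := fun v => by
        simp [hF₀, mem_iInf, mem_fixSub]
      have hF₀ne : F₀ ≠ ⊥ := fun h => hs1 (mem_bot.mp (h ▸ (hF₀mem s).mpr hsfix))
      intro g v
      refine fix_of_series hcopP φ g v ((hF₀mem _).mp (hquot F₀ ?_ hF₀ne g v) g)
      intro h u hu
      rwa [(hF₀mem u).mp hu h]
    · push Not at hred
      by_contra hne
      push Not at hne
      obtain ⟨g₀, v₀, hg₀⟩ := hne
      haveI : Nontrivial φ.range := by
        refine (Subgroup.nontrivial_iff_ne_bot _).mpr fun h => hg₀ ?_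
        have h1 : φ g₀ = 1 := mem_bot.mp (h ▸ ⟨g₀, rfl⟩)
        rw [h1, MulAut.one_apply]
      have hgen : ∀ S : Set P, closure S = ⊤ → closure (φ.rangeRestrict '' S) = ⊤ := by
        intro S hS
        rw [← MonoidHom.map_closure, hS, ← MonoidHom.range_eq_map,
          MonoidHom.range_eq_top.mpr φ.rangeRestrict_surjective]
      refine false_of_irreducible hp2 (hP.of_surjective φ.rangeRestrict φ.rangeRestrict_surjective)
        hcop φ.range.subtype φ.range.subtype_injective ?_ _ _ (hgen C hC) (hgen D hD) ?_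
      · intro W hW
        by_cases h0 : W = ⊥
        · exact Or.inl h0
        · exact Or.inr (hred W (fun g v hv => hW ⟨φ g, g, rfl⟩ v hv) h0)
      · rintro _ ⟨c, hc, rfl⟩ _ ⟨d, hd, rfl⟩ v
        exact hF c hc d hd v

end CfsgLib.TwoSets

namespace CfsgLib.TwoSets

open Subgroup
open scoped commutatorElement

universe w

variable {G : Type w} [Group G] [Finite G] {p : ℕ} [hp : Fact p.Prime]

/-- Each invariant subgroup is the product of the fixed points of `d` and of `c`. -/
theorem exists_fixed_product (P : Sylow p G) {R : Subgroup G}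
    (hR : (P : Subgroup G) ≤ normalizer (R : Set G)) (hcop : (Nat.card R).Coprime p)
    {c d : G} (hc : c ∈ (P : Subgroup G)) (hd : d ∈ (P : Subgroup G)) {x : G} (hx : x ∈ R)
    (hH : IsPGroup p ↥(closure ({x * c * x⁻¹, d} : Set G))) :
    ∃ a ∈ R, ∃ b ∈ R, d * a * d⁻¹ = a ∧ c * b * c⁻¹ = b ∧ x = a * b := by
  set K := R ⊔ (P : Subgroup G) with hK
  have hPK : (P : Subgroup G) ≤ K := le_sup_right
  have hHK : closure ({x * c * x⁻¹, d} : Set G) ≤ K := by
    rw [closure_le]
    rintro y (rfl | rfl)
    · exact mul_mem (mul_mem (mem_sup_left hx) (mem_sup_right hc)) (inv_mem (mem_sup_left hx))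
    · exact mem_sup_right hd
  obtain ⟨Q, hQ⟩ := (hH.of_equiv (subgroupOfEquivOfLe hHK).symm).exists_le_sylow
  obtain ⟨k, hk⟩ := MulAction.exists_smul_eq K Q (P.subtype hPK)
  obtain ⟨u, hu, r, hr, hku⟩ := (Core.mem_sup_iff_mul hR).mp (sup_comm R _ ▸ k.2 : (k : G) ∈
    (P : Subgroup G) ⊔ R)
  have hconj : ∀ y ∈ closure ({x * c * x⁻¹, d} : Set G), r * y * r⁻¹ ∈ (P : Subgroup G) := by
    intro y hy
    have h1 : (k * ⟨y, hHK hy⟩ * k⁻¹ : K) ∈ ((P.subtype hPK : Sylow p K) : Subgroup K) := by
      rw [← hk, Sylow.coe_subgroup_smul]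
      exact ⟨_, hQ (show (⟨y, hHK hy⟩ : K) ∈ _ from hy), rfl⟩
    rw [Sylow.coe_subtype, mem_subgroupOf] at h1
    push_cast at h1
    rw [hku] at h1
    have h2 := mul_mem (mul_mem (inv_mem hu) h1) hu
    rwa [show u⁻¹ * (u * r * y * (u * r)⁻¹) * u = r * y * r⁻¹ by group] at h2
  have hfix : ∀ s ∈ R, ∀ q ∈ (P : Subgroup G), s * q * s⁻¹ ∈ (P : Subgroup G) →
      q * s * q⁻¹ = s := by
    intro s hs q hq hsq
    have h1 : s * q * s⁻¹ * q⁻¹ ∈ R ⊓ (P : Subgroup G) := mem_inf.mpr
      ⟨by rw [mul_assoc, mul_assoc, ← mul_assoc q]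
          exact mul_mem hs ((mem_normalizer_iff.1 (hR hq) _).1 (inv_mem hs)),
        mul_mem hsq (inv_mem hq)⟩
    obtain ⟨j, hj⟩ := IsPGroup.iff_card.mp P.isPGroup'
    rw [inf_eq_bot_of_coprime (hj ▸ hcop.pow_right j), mem_bot, mul_inv_eq_one,
      mul_inv_eq_iff_eq_mul] at h1
    rw [mul_inv_eq_iff_eq_mul]
    exact h1.symm
  have hd' := hfix r hr d hd (hconj d (subset_closure (Or.inr rfl)))
  have hc' := hfix (r * x) (mul_mem hr hx) c hc (by
    rw [show r * x * c * (r * x)⁻¹ = r * (x * c * x⁻¹) * r⁻¹ by group]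
    exact hconj _ (subset_closure (Or.inl rfl)))
  refine ⟨r⁻¹, inv_mem hr, r * x, mul_mem hr hx, ?_, hc', (inv_mul_cancel_left r x).symm⟩
  conv_rhs => rw [← hd']
  group

/-- S2277: two generating sets generating `p`-subgroups with all conjugates. -/
theorem le_centralizer_of_two_sets (hp2 : p ≠ 2) (P : Sylow p G) (N : Subgroup G)
    (hN : (Nat.card N).Coprime p) (hPN : (P : Subgroup G) ≤ normalizer (N : Set G))
    (C D : Set G) (hC : closure C = (P : Subgroup G)) (hD : closure D = (P : Subgroup G))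
    (h : ∀ x ∈ N, ∀ c ∈ C, ∀ d ∈ D, IsPGroup p ↥(closure ({x * c * x⁻¹, d} : Set G))) :
    (P : Subgroup G) ≤ centralizer (N : Set G) := by
  obtain ⟨j, hj⟩ := IsPGroup.iff_card.mp P.isPGroup'
  haveI : Group.IsNilpotent (P : Subgroup G) := P.isPGroup'.isNilpotent
  have hsol : Group.IsSolvable (P : Subgroup G) := inferInstance
  suffices hmain : ∀ n : ℕ, ∀ R : Subgroup G, Nat.card R = n → R ≤ N →
      (P : Subgroup G) ≤ normalizer (R : Set G) → (P : Subgroup G) ≤ centralizer (R : Set G) from
    hmain _ N rfl le_rfl hPN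
  intro n
  induction n using Nat.strong_induction_on with
  | _ n ih =>
    intro R hn hRN hPR
    subst hn
    have hcopR : (Nat.card R).Coprime p := hN.coprime_dvd_left (card_dvd_of_le hRN)
    have hcopP : (Nat.card (P : Subgroup G)).Coprime (Nat.card R) :=
      hj ▸ (hcopR.pow_right j).symm
    by_cases hone : Nat.card R = 1
    · intro a _
      rw [card_eq_one.mp hone]
      exact mem_centralizer_iff.mpr fun y hy => by
        rw [mem_bot.mp (SetLike.mem_coe.mp hy), one_mul, mul_one]
    obtain ⟨r, hr, hrd⟩ := Nat.exists_prime_and_dvd hone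
    haveI := Fact.mk hr
    by_cases hrg : IsPGroup r R
    · -- `R` is nilpotent: use the abelianization
      haveI : Group.IsNilpotent R := hrg.isNilpotent
      haveI : Nontrivial R := by
        rw [← Finite.one_lt_card_iff_nontrivial]
        exact lt_of_le_of_ne Nat.card_pos (Ne.symm hone)
      set R' := (commutator R).map R.subtype with hR'
      have hlt : Nat.card R' < Nat.card R := by
        rw [hR', card_map_of_injective R.subtype_injective]
        have hne : commutator R ≠ ⊤ := (Group.IsSolvable.commutator_lt_top_of_nontrivial R).ne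
        exact lt_of_le_of_ne (card_le_card_group _) fun e => hne (eq_top_of_card_eq _ e)
      set θ : (P : Subgroup G) →* MulAut R :=
        R.normalizerMonoidHom.comp (inclusion hPR) with hθ
      have hθapp : ∀ (g : (P : Subgroup G)) (x : R),
          ((θ g x : R) : G) = (g : G) * x * (g : G)⁻¹ := fun g x => rfl
      have hPR' : (P : Subgroup G) ≤ normalizer (R' : Set G) := by
        rw [hR', map_subtype_commutator]
        intro u hu
        have hu' := mem_normalizer_iff_map_conj_eq.mp (hPR hu)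
        rw [mem_normalizer_iff_map_conj_eq, map_commutator, hu']
      have hR'c := ih _ hlt R' rfl ((map_subtype_le _).trans hRN) hPR'
      let ψ : (P : Subgroup G) →* MulAut (Abelianization R) :=
        MonoidHom.mk' (fun g => (θ g).abelianizationCongr) fun a b => MulEquiv.ext fun q => by
          induction q using QuotientGroup.induction_on with
          | _ x =>
            show Abelianization.of (θ (a * b) x) = Abelianization.of (θ a (θ b x))
            rw [map_mul]
            rfl
      have hgen : ∀ S : Set G, closure S = (P : Subgroup G) →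
          closure {s : (P : Subgroup G) | (s : G) ∈ S} = ⊤ := by
        intro S hS
        apply map_injective (P : Subgroup G).subtype_injective
        rw [MonoidHom.map_closure, ← MonoidHom.range_eq_map, range_subtype]
        refine Eq.trans ?_ hS
        congr 1
        ext y
        exact ⟨fun ⟨s, hs, e⟩ => e ▸ hs,
          fun hy => ⟨⟨y, hS ▸ subset_closure hy⟩, hy, rfl⟩⟩
      have htriv := trivial_of_fixed_product hp2 P.isPGroup' _ _ (hgen C hC) (hgen D hD) _
        (Abelianization R) rfl (hcopR.coprime_dvd_left (card_quotient_dvd_card _)) ψ (by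
          rintro c hc d hd q
          induction q using QuotientGroup.induction_on with
          | _ x =>
            obtain ⟨a, ha, b, hb, hda, hcb, hxab⟩ :=
              exists_fixed_product P hPR hcopR c.2 d.2 x.2 (h _ (hRN x.2) _ hc _ hd)
            refine ⟨Abelianization.of ⟨a, ha⟩, Abelianization.of ⟨b, hb⟩, ?_, ?_, ?_⟩
            · show Abelianization.of (θ d ⟨a, ha⟩) = _
              rw [show θ d ⟨a, ha⟩ = ⟨a, ha⟩ from Subtype.ext hda]
            · show Abelianization.of (θ c ⟨b, hb⟩) = _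
              rw [show θ c ⟨b, hb⟩ = ⟨b, hb⟩ from Subtype.ext hcb]
            · rw [← map_mul]
              exact congrArg Abelianization.of (Subtype.ext hxab))
      intro g hg
      rw [mem_centralizer_iff]
      intro x hx
      obtain ⟨y, hy⟩ : ∃ y : R, (θ ⟨g, hg⟩ ⟨x, hx⟩) = ⟨x, hx⟩ * y ∧ y ∈ commutator R := by
        refine ⟨(⟨x, hx⟩ : R)⁻¹ * θ ⟨g, hg⟩ ⟨x, hx⟩, (mul_inv_cancel_left _ _).symm, ?_⟩
        exact QuotientGroup.eq.mp (htriv ⟨g, hg⟩ (Abelianization.of (⟨x, hx⟩ : R))).symm
      have hgy : g * (y : G) = y * g :=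
        (mem_centralizer_iff.mp (hR'c hg) y ⟨y, hy.2, rfl⟩).symm
      have hgx : g * x * g⁻¹ = x * y := congrArg Subtype.val hy.1
      have hk : ∀ k : ℕ, g ^ k * x * (g ^ k)⁻¹ = x * (y : G) ^ k := by
        intro k
        induction k with
        | zero => simp
        | succ k ihk =>
          rw [pow_succ' g, show g * g ^ k * x * (g * g ^ k)⁻¹ = g * (g ^ k * x * (g ^ k)⁻¹) * g⁻¹
            by group, ihk, ← mul_assoc, mul_assoc (g * x),
            ← ((show Commute g (y : G) from hgy).inv_left.pow_right k).eq, ← mul_assoc, hgx,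
            mul_assoc, pow_succ']
      have h1 := hk (Nat.card (P : Subgroup G))
      have hgP : g ^ Nat.card (P : Subgroup G) = 1 := by
        exact orderOf_dvd_iff_pow_eq_one.mp (Subgroup.orderOf_dvd_natCard _ hg)
      rw [hgP, one_mul, inv_one, mul_one, eq_comm, mul_eq_left] at h1
      have hy1 : (y : G) = 1 := by
        rw [← orderOf_eq_one_iff]
        exact Nat.eq_one_of_dvd_coprimes hcopP (orderOf_dvd_of_pow_eq_one h1)
          (Subgroup.orderOf_dvd_natCard R y.2)
      rw [hy1, mul_one, mul_inv_eq_iff_eq_mul] at hgx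
      exact hgx.symm
    · -- reduce to invariant Sylow subgroups
      intro g hg
      set Z := R ⊓ centralizer ({g} : Set G) with hZ
      suffices R ≤ Z from mem_centralizer_iff.mpr fun x hx =>
        mem_centralizer_singleton_iff.mp (this hx).2
      have hdvd : ∀ q : ℕ, q.Prime → ∀ a, q ^ a ∣ Nat.card R → q ^ a ∣ Nat.card Z := by
        intro q hq a hqa
        haveI := Fact.mk hq
        obtain ⟨S, hS⟩ := Core.exists_invariant_sylow hPR hcopP (Or.inl hsol) q
        have hlt : Nat.card ((S : Subgroup R).map R.subtype) < Nat.card R := by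
          rw [card_map_of_injective R.subtype_injective]
          refine lt_of_le_of_ne (card_le_card_group _) fun e => hrg ?_
          have htop := eq_top_of_card_eq _ e
          have hq' : IsPGroup q R :=
            S.isPGroup'.of_equiv ((MulEquiv.subgroupCongr htop).trans topEquiv)
          obtain ⟨i, hi⟩ := IsPGroup.iff_card.mp hq'
          rw [hi] at hrd
          rwa [(Nat.prime_dvd_prime_iff_eq hr hq).mp (hr.dvd_of_dvd_pow hrd)]
        have hc := ih _ hlt _ rfl ((map_subtype_le _).trans hRN) hS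
        refine (((hq.coprime_iff_not_dvd.mpr S.not_dvd_index).pow_left a).dvd_of_dvd_mul_right
          (by rwa [card_mul_index (S : Subgroup R)])).trans ?_
        rw [← card_map_of_injective R.subtype_injective]
        refine card_dvd_of_le fun y hy => ⟨map_subtype_le _ hy,
          mem_centralizer_singleton_iff.mpr ?_⟩
        exact mem_centralizer_iff.mp (hc hg) y hy
      exact (eq_of_le_of_card_ge inf_le_left (Nat.le_of_dvd Nat.card_pos
        ((Nat.dvd_iff_prime_pow_dvd_dvd _ _).mpr fun q a hq => hdvd q hq a))).ge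

end CfsgLib.TwoSets
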