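import Cfsg.Agent.Lib.Components.FStar
import Cfsg.Agent.Lib.Core.Coprime
import Cfsg.Agent.Lib.Core.SolvableStruct
import Cfsg.Agent.Lib.Core.FPFComplement

/-!
# Solvable groups with 2-nilpotent involution centralizers (S3215)

* `eq_one_of_commute_pCore`, `structure_two_nilpotent_centralizers`.
-/

set_option autoImplicit false
set_option linter.style.haveILetI false

namespace CfsgLib.TwoNilpotent

open Subgroup
open CfsgLib.Core
open scoped commutatorElement IsMulCommutative

variable {H : Type*} [Group H] [Finite H]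

/-- An element of odd order of `C(t)` lies in its normal complement, which centralizes `O₂(H) ∩ C(t)`. -/
theorem commute_of_mem_centralizer {t x y : H}
    (hI : Cfsg.HasNormalPComplement 2 ↥(centralizer ({t} : Set H)))
    (hx : x ∈ centralizer ({t} : Set H)) (hxo : Odd (orderOf x))
    (hy : y ∈ centralizer ({t} : Set H)) (hyY : y ∈ Cfsg.pCore 2 H) : x * y = y * x := by
  haveI : Fact (Nat.Prime 2) := ⟨Nat.prime_two⟩
  obtain ⟨P, N, hN, hNP⟩ := hI
  let C := centralizer ({t} : Set H)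
  haveI := hN
  have hxN : (⟨x, hx⟩ : C) ∈ N := by
    rw [← QuotientGroup.eq_one_iff (N := N), ← orderOf_eq_one_iff]
    obtain ⟨j, hj⟩ := IsPGroup.iff_card.mp P.isPGroup'
    refine Nat.eq_one_of_dvd_coprimes ((hxo.coprime_two_left).pow_left j)
      ((_root_.orderOf_dvd_natCard _).trans ?_)
      ((orderOf_map_dvd (QuotientGroup.mk' N) (⟨x, hx⟩ : C)).trans (by rw [Subgroup.orderOf_mk]))
    rw [← index_eq_card, hNP.symm.index_eq_card, hj]
  have hNodd : (Nat.card N).Coprime 2 := by
    rw [← hNP.index_eq_card, Nat.coprime_comm, Nat.prime_two.coprime_iff_not_dvd]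
    exact P.not_dvd_index
  set U : Subgroup C := (Cfsg.pCore 2 H).subgroupOf C with hU
  haveI : U.Normal := inferInstance
  have hUp : IsPGroup 2 U := by
    rw [hU]
    exact (isPGroup_pCore 2 H).comap_of_injective C.subtype C.subtype_injective
  obtain ⟨i, hi⟩ := IsPGroup.iff_card.mp hUp
  have hdis : Disjoint N U :=
    Subgroup.disjoint_of_coprime_natCard (hi ▸ hNodd.pow_right i)
  exact congrArg Subtype.val
    (Subgroup.commute_of_normal_of_disjoint N U inferInstance inferInstance hdis _ _ hxN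
      (show (⟨y, hy⟩ : C) ∈ U from hyY)).eq

/-- `O(H) = 1` and 2-nilpotent involution centralizers: `O₂(H)` is strongly self centralizing. -/
theorem eq_one_of_commute_pCore [Group.IsSolvable H] (hO : Cfsg.pPrimeCore 2 H = ⊥)
    (hI : ∀ t : H, orderOf t = 2 → Cfsg.HasNormalPComplement 2 ↥(centralizer ({t} : Set H)))
    {x y : H} (hxo : Odd (orderOf x)) (hy : y ∈ Cfsg.pCore 2 H) (hy1 : y ≠ 1)
    (hxy : x * y = y * x) : x = 1 := by
  haveI : Fact (Nat.Prime 2) := ⟨Nat.prime_two⟩
  set Y := Cfsg.pCore 2 H with hY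
  obtain ⟨k, hk⟩ := IsPGroup.iff_orderOf.mp (isPGroup_pCore 2 H) ⟨y, hy⟩
  rw [Subgroup.orderOf_mk] at hk
  obtain ⟨n, rfl⟩ : ∃ n, k = n + 1 := Nat.exists_eq_succ_of_ne_zero fun h => hy1
    (orderOf_eq_one_iff.mp (by rw [hk, h, pow_zero]))
  set t := y ^ 2 ^ n with ht
  have hto : orderOf t = 2 := by
    rw [ht, orderOf_pow, hk, Nat.gcd_eq_right (pow_dvd_pow 2 n.le_succ), Nat.pow_succ,
      Nat.mul_div_cancel_left _ (pow_pos two_pos n)]
  have hxt : Commute x t := Commute.pow_right hxy _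
  have hxY : zpowers x ≤ centralizer (Y : Set H) := by
    refine pq_lemma (p := 2) (P := zpowers t) ?_ ?_ (isPGroup_pCore 2 H) ?_ ?_ ?_ ?_
    · exact IsPGroup.of_card (n := 1) (by rw [Nat.card_zpowers, hto, pow_one])
    · rw [Nat.card_zpowers]; exact hxo.coprime_two_right
    · rw [zpowers_le, mem_centralizer_iff]
      rintro u ⟨i, rfl⟩
      exact (hxt.zpow_left i).eq
    · rw [normalizer_eq_top]; exact le_top
    · rw [normalizer_eq_top]; exact le_top
    · rintro u ⟨huY, hu⟩
      rw [mem_centralizer_iff]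
      rintro v ⟨i, rfl⟩
      have h := commute_of_mem_centralizer (hI t hto) (mem_centralizer_singleton_iff.mpr hxt.eq) hxo
        (mem_centralizer_singleton_iff.mpr (mem_centralizer_iff.mp hu t (mem_zpowers t)).symm) huY
      exact ((show Commute x u from h).zpow_left i).eq
  have hmem : x ∈ Y := centralizer_pCore_le_of_pPrimeCore_eq_bot hO (hxY (mem_zpowers x))
  rw [← orderOf_eq_one_iff]
  obtain ⟨j, hj⟩ := IsPGroup.iff_orderOf.mp (isPGroup_pCore 2 H) ⟨x, hmem⟩
  rw [Subgroup.orderOf_mk] at hj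
  rcases j with _ | j
  · simpa using hj
  · exact absurd hxo (by rw [hj]; simp [Nat.even_pow, parity_simps])

/-- The structure theorem. -/
theorem structure_two_nilpotent_centralizers [Group.IsSolvable H]
    (hO : Cfsg.pPrimeCore 2 H = ⊥)
    (hI : ∀ t : H, orderOf t = 2 → Cfsg.HasNormalPComplement 2 ↥(centralizer ({t} : Set H)))
    (X : Subgroup H) (hXodd : Odd (Nat.card X)) (hXidx : ∃ k : ℕ, X.index = 2 ^ k) :
    (∀ x ∈ X, x ≠ 1 → ∀ y ∈ Cfsg.pCore 2 H, y ≠ 1 → x * y ≠ y * x) ∧
      IsZGroup X ∧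
      (X ⊔ Cfsg.pCore 2 H).Normal ∧
      ∀ _ : (X ⊔ Cfsg.pCore 2 H).Normal,
        IsCyclic (H ⧸ (X ⊔ Cfsg.pCore 2 H)) ∧ IsPGroup 2 (H ⧸ (X ⊔ Cfsg.pCore 2 H)) := by
  haveI : Fact (Nat.Prime 2) := ⟨Nat.prime_two⟩
  set Y := Cfsg.pCore 2 H with hY
  have hCY : centralizer (Y : Set H) ≤ Y := centralizer_pCore_le_of_pPrimeCore_eq_bot hO
  have hfpf : ∀ x ∈ X, x ≠ 1 → ∀ y ∈ Y, y ≠ 1 → x * y ≠ y * x := by
    intro x hx hx1 y hy hy1 hxy
    exact hx1 (eq_one_of_commute_pCore hO hI (hXodd.of_dvd_nat (Subgroup.orderOf_dvd_natCard X hx))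
      hy hy1 hxy)
  have hZ : IsZGroup X := by
    by_cases hY1 : Y = ⊥
    · have hsub : ∀ a : H, a = 1 := fun a => by
        have ha : a ∈ centralizer (Y : Set H) := by
          rw [hY1]
          exact mem_centralizer_iff.mpr fun b hb => by
            rw [mem_bot.mp (SetLike.mem_coe.mp hb), one_mul, mul_one]
        exact mem_bot.mp (hY1 ▸ hCY ha)
      haveI : Subsingleton X := ⟨fun a b => Subtype.ext ((hsub a).trans (hsub b).symm)⟩
      infer_instance
    · refine FPF.isZGroup_of_odd (K := Y) (by rw [normalizer_eq_top]; exact le_top) ?_ hY1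
        (fun h => Nat.not_even_iff_odd.mpr hXodd (even_iff_two_dvd.mpr h))
      intro a ha ha1
      rw [eq_bot_iff]
      rintro y ⟨hy, hya⟩
      by_contra hy1
      exact hfpf a ha ha1 y hy hy1 (mem_centralizer_singleton_iff.mp hya).symm
  -- pass to `Q = H/Y`
  set π := QuotientGroup.mk' Y with hπ
  have hsurj : Function.Surjective π := QuotientGroup.mk'_surjective Y
  set Xb := X.map π with hXb
  have hXY : X ⊔ Y = Xb.comap π := by
    rw [hXb, comap_map_eq, hπ, QuotientGroup.ker_mk']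
  obtain ⟨k, hk⟩ := hXidx
  obtain ⟨k', -, hk'⟩ := (Nat.dvd_prime_pow Nat.prime_two).mp
    (hk ▸ X.index_map_dvd hsurj : Xb.index ∣ 2 ^ k)
  have hXbodd : Odd (Nat.card Xb) := hXodd.of_dvd_nat (Subgroup.card_map_dvd X π)
  have hXZ : IsZGroup Xb := by
    rw [hXb]
    haveI := hZ
    exact IsZGroup.of_surjective (π.subgroupMap_surjective X)
  set F := Cfsg.fittingSubgroup (H ⧸ Y) with hF
  have hFn : F.Normal := Components.fitting_normal
  haveI := hFn
  haveI hFnil : Group.IsNilpotent F := isNilpotent_fittingSubgroup _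
  have hO2 : Cfsg.pCore 2 (H ⧸ Y) = ⊥ := pCore_quotient_pCore 2 H
  have hFodd : Odd (Nat.card F) := by
    rw [← Nat.not_even_iff_odd, even_iff_two_dvd]
    intro h2
    obtain ⟨S⟩ := Sylow.nonempty (p := 2) (G := F)
    have hSn : (S : Subgroup F).Normal := Sylow.normal_of_normalizerCondition
      (Group.normalizerCondition_of_isNilpotent) S
    haveI := Sylow.characteristic_of_normal S hSn
    have hle : (S : Subgroup F).map F.subtype ≤ Cfsg.pCore 2 (H ⧸ Y) :=
      le_pCore (S.isPGroup'.map _)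
    rw [hO2, le_bot_iff, map_eq_bot_iff_of_injective _ F.subtype_injective] at hle
    exact S.ne_bot_of_dvd_card h2 hle
  have hFX : F ≤ Xb := by
    refine sup_eq_left.mp (eq_of_le_of_card_ge le_sup_left ?_).symm
    have h1 : (Nat.card (Xb ⊔ F : Subgroup (H ⧸ Y))).Coprime 2 :=
      coprime_card_sup (by rw [normalizer_eq_top]; exact le_top) hXbodd.coprime_two_right
        hFodd.coprime_two_right
    have h2 : Xb.relIndex (Xb ⊔ F) * Nat.card Xb = Nat.card (Xb ⊔ F : Subgroup (H ⧸ Y)) := by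
      rw [mul_comm, relIndex, ← Nat.card_congr (subgroupOfEquivOfLe (H := Xb) le_sup_left).toEquiv]
      exact card_mul_index _
    have h3 : Xb.relIndex (Xb ⊔ F) ∣ 2 ^ k' := hk' ▸ Subgroup.relIndex_dvd_index_of_le le_sup_left
    have h4 : Xb.relIndex (Xb ⊔ F) = 1 := Nat.eq_one_of_dvd_coprimes (h1.pow_right k')
      (Dvd.intro (Nat.card Xb) h2) h3
    rw [h4, one_mul] at h2
    exact h2.ge
  haveI hFZ : IsZGroup F :=
    @IsZGroup.of_injective _ _ _ _ _ hXZ (inclusion_injective hFX)
  haveI hFc : IsCyclic F := inferInstance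
  have hCF : centralizer (F : Set (H ⧸ Y)) ≤ F := Components.centralizer_fitting_le_of_isSolvable
  have hcommF : ∀ a b : H ⧸ Y, a * b * a⁻¹ * b⁻¹ ∈ F := by
    intro a b
    refine hCF (mem_centralizer_iff.mpr fun f hf => ?_)
    set φ : H ⧸ Y →* MulAut F := MulAut.conjNormal with hφ
    haveI : IsMulCommutative (MulAut F) := by
      haveI : Fintype F := Fintype.ofFinite F
      exact ⟨⟨fun u v => (IsCyclic.mulAutMulEquiv F).injective (by rw [map_mul, map_mul, mul_comm])⟩⟩
    have h : φ (a * b * a⁻¹ * b⁻¹) = 1 := by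
      simp only [map_mul, map_inv]
      rw [mul_comm' (φ a) (φ b), mul_inv_cancel_right, mul_inv_cancel]
    have := congrArg Subtype.val (DFunLike.congr_fun h (⟨f, hf⟩ : F))
    rw [hφ, MulAut.conjNormal_apply] at this
    exact (mul_inv_eq_iff_eq_mul.mp this).symm
  have hXbn : Xb.Normal := ⟨fun x hx g => by
    have := mul_mem (hFX (hcommF g x)) hx
    rwa [inv_mul_cancel_right] at this⟩
  have hn : (X ⊔ Y).Normal := hXY ▸ hXbn.comap π
  refine ⟨hfpf, hZ, hn, fun _ => ?_⟩
  -- `H/XY ≅ Q/X̄`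
  have hidx : Nat.card (H ⧸ (X ⊔ Y)) = 2 ^ k' := by
    rw [← index_eq_card, hXY, Subgroup.index_comap_of_surjective _ hsurj, hk']
  have h2g : IsPGroup 2 (H ⧸ (X ⊔ Y)) := IsPGroup.of_card hidx
  refine ⟨?_, h2g⟩
  -- at most one involution outside `X̄` modulo `X̄`
  have hinv : ∀ s : H ⧸ Y, orderOf s = 2 → ∀ f ∈ F, s * f * s⁻¹ = f⁻¹ := by
    intro s hs f hf
    set f' := s * f * s⁻¹ with hf'
    have hf'F : f' ∈ F := hFn.conj_mem f hf s
    have hcm : Commute f f' := congrArg Subtype.val (mul_comm' (⟨f, hf⟩ : F) ⟨f', hf'F⟩)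
    have hss : s * s = 1 := by rw [← pow_two]; exact orderOf_dvd_iff_pow_eq_one.mp hs.dvd
    set w := f * f' with hw
    have hwfix : s * w = w * s := by
      have h1 : s * f' * s⁻¹ = f := by
        rw [hf', show s * (s * f * s⁻¹) * s⁻¹ = (s * s) * f * (s * s)⁻¹ by group, hss, one_mul,
          inv_one, mul_one]
      have h2 : s * w * s⁻¹ = w := by
        rw [hw, show s * (f * f') * s⁻¹ = (s * f * s⁻¹) * (s * f' * s⁻¹) by group, ← hf', h1]
        exact hcm.eq.symm
      exact mul_inv_eq_iff_eq_mul.mp h2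
    suffices w = 1 from (eq_inv_of_mul_eq_one_right this)
    -- lift
    by_contra hw1
    obtain ⟨x, hxX, hxw⟩ : w ∈ Xb := hFX (mul_mem hf hf'F)
    have hx1 : x ≠ 1 := fun h => hw1 (by rw [← hxw, h, map_one])
    have hxo : Odd (orderOf x) := hXodd.of_dvd_nat (Subgroup.orderOf_dvd_natCard X hxX)
    obtain ⟨j, hj⟩ := IsPGroup.iff_card.mp (isPGroup_pCore 2 H)
    obtain ⟨h, rfl⟩ := hsurj s
    obtain ⟨n, hn, hcent⟩ := exists_centralizing_in_coset (A := zpowers x) (N := Y)
      (by rw [normalizer_eq_top]; exact le_top)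
      (by rw [Nat.card_zpowers, hj]; exact hxo.coprime_two_right.pow_right j)
      (Or.inl inferInstance) (k := h) (by
        rintro a ⟨i, rfl⟩
        rw [← QuotientGroup.eq_one_iff]
        show π (h⁻¹ * (x ^ i * h * (x ^ i)⁻¹)) = 1
        have hc : Commute (π h) (π x ^ i) := by
          rw [hxw]
          exact (show Commute (π h) w from hwfix).zpow_right i
        rw [map_mul, map_mul, map_mul, map_inv, map_inv, map_zpow, ← hc.eq, mul_inv_cancel_right,
          inv_mul_cancel])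
    set s' := h * n with hs'
    have hxs' : x * s' = s' * x := (mem_centralizer_iff.mp hcent x (mem_zpowers x))
    have hπs' : π s' = π h := by
      rw [hs', map_mul, show π n = 1 from (QuotientGroup.eq_one_iff n).mpr hn, mul_one]
    have hsq : s' * s' ∈ Y := by
      rw [← QuotientGroup.eq_one_iff]
      show π (s' * s') = 1
      rw [map_mul, hπs', hss]
    have hs2 : s' * s' = 1 := by
      by_contra hne
      exact hx1 (eq_one_of_commute_pCore hO hI hxo hsq hne
        (show Commute x (s' * s') from Commute.mul_right hxs' hxs').eq)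
    have hs'o : orderOf s' = 2 := orderOf_eq_prime (by rw [pow_two, hs2]) (fun e => by
      rw [e, map_one] at hπs'
      rw [← hπs', orderOf_one] at hs
      exact absurd hs (by norm_num))
    -- a common fixed point in `Y`
    set R := zpowers s' ⊔ Y with hR
    have hRp : IsPGroup 2 R :=
      (IsPGroup.of_card (n := 1) (by rw [Nat.card_zpowers, hs'o, pow_one]) :
        IsPGroup 2 (zpowers s')).to_sup_of_normal_right (isPGroup_pCore 2 H)
    have hY1 : Y ≠ ⊥ := by
      intro hb
      refine hx1 (mem_bot.mp (hb ▸ hCY ?_))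
      rw [hb]
      exact mem_centralizer_iff.mpr fun b hb' => by
        rw [mem_bot.mp (SetLike.mem_coe.mp hb'), one_mul, mul_one]
    haveI : (Y.subgroupOf R).Normal := inferInstance
    have hYR : Y.subgroupOf R ≠ ⊥ := by
      rw [Ne, subgroupOf_eq_bot, disjoint_comm]
      intro hd
      exact hY1 (eq_bot_iff.mpr fun b hb => hd.le_bot ⟨mem_sup_right hb, hb⟩)
    obtain ⟨⟨⟨y, hyR⟩, hy⟩, hy1⟩ := ne_bot_iff_exists_ne_one.mp
      (CfsgLib.PGroups.inf_center_ne_bot hRp hYR)
    have hys' : s' * y = y * s' := congrArg Subtype.val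
      (mem_center_iff.mp hy.2 (⟨s', mem_sup_left (mem_zpowers s')⟩ : R))
    have hcom := commute_of_mem_centralizer (hI s' hs'o) (mem_centralizer_singleton_iff.mpr hxs')
      hxo (mem_centralizer_singleton_iff.mpr hys'.symm) hy.1
    exact hfpf x hxX hx1 y hy.1 (fun e => hy1 (Subtype.ext (Subtype.ext e))) hcom
  have huniq : ∀ s u : H ⧸ Y, orderOf s = 2 → orderOf u = 2 → s * u⁻¹ ∈ F := by
    intro s u hs hu
    refine hCF (mem_centralizer_iff.mpr fun f hf => ?_)
    have h1 := hinv u hu f hf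
    have h2 := hinv s hs f⁻¹ (inv_mem hf)
    rw [inv_inv] at h2
    have huu : u⁻¹ = u := inv_eq_of_mul_eq_one_left (by
      rw [← pow_two]; exact orderOf_dvd_iff_pow_eq_one.mp hu.dvd)
    have h3 : s * u⁻¹ * f * (s * u⁻¹)⁻¹ = f := by
      rw [huu, show s * u * f * (s * u)⁻¹ = s * (u * f * u⁻¹) * s⁻¹ by group, h1, h2]
    exact (mul_inv_eq_iff_eq_mul.mp h3).symm
  haveI := hn
  letI : CommGroup (H ⧸ (X ⊔ Y)) :=
    { (inferInstance : Group (H ⧸ (X ⊔ Y))) with
      mul_comm := fun a b => by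
        induction a using QuotientGroup.induction_on with
        | _ a =>
        induction b using QuotientGroup.induction_on with
        | _ b =>
        rw [← commutatorElement_eq_one_iff_mul_comm, commutatorElement_def, ← QuotientGroup.mk_mul,
          ← QuotientGroup.mk_inv, ← QuotientGroup.mk_mul, ← QuotientGroup.mk_inv,
          ← QuotientGroup.mk_mul, QuotientGroup.eq_one_iff, hXY, mem_comap]
        simp only [map_mul, map_inv]
        exact hFX (hcommF _ _) }
  refine CfsgLib.Core.UniqueOrderP.isCyclic_of_unique h2g ?_ ⊤ |> fun h =>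
    topEquiv.isCyclic.mp h
  intro A B hA hB
  have key : ∀ A : Subgroup (H ⧸ (X ⊔ Y)), Nat.card A = 2 →
      ∃ s : H, orderOf (π s) = 2 ∧ zpowers (s : H ⧸ (X ⊔ Y)) = A := by
    intro A hA
    obtain ⟨⟨a, haA⟩, hao⟩ := exists_prime_orderOf_dvd_card' (G := A) 2 (by rw [hA])
    rw [Subgroup.orderOf_mk] at hao
    obtain ⟨h, rfl⟩ := QuotientGroup.mk_surjective a
    -- the 2-part of `h`
    obtain ⟨e, m, hm, hord⟩ :=
      Nat.exists_eq_pow_mul_and_not_dvd (orderOf_pos (π h)).ne' 2 (by norm_num)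
    have hmap : orderOf (h : H ⧸ (X ⊔ Y)) ∣ orderOf (π h) := by
      refine orderOf_dvd_of_pow_eq_one ?_
      rw [← QuotientGroup.mk_pow, QuotientGroup.eq_one_iff]
      refine mem_sup_right ((QuotientGroup.eq_one_iff _).mp ?_)
      show π (h ^ orderOf (π h)) = 1
      rw [map_pow, pow_orderOf_eq_one]
    have he : e ≠ 0 := fun h0 => by
      rw [hao, hord, h0, pow_zero, one_mul] at hmap
      exact hm hmap
    refine ⟨h ^ m, ?_, ?_⟩
    · obtain ⟨e', rfl⟩ := Nat.exists_eq_succ_of_ne_zero he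
      rw [map_pow]
      have hoo : orderOf (π h ^ m) = 2 ^ (e' + 1) := by
        rw [orderOf_pow, hord, Nat.gcd_eq_right (Dvd.intro_left _ rfl),
          Nat.mul_div_cancel _ (Nat.pos_of_ne_zero fun h0 => hm (by rw [h0]; exact dvd_zero 2))]
      rcases e' with _ | e'
      · simpa using hoo
      · exfalso
        -- a square of order `2^(e'+1)` would lie outside `X̄`
        have hsq : (h : H ⧸ (X ⊔ Y)) ^ 2 = 1 := by rw [← hao]; exact pow_orderOf_eq_one _
        rw [← QuotientGroup.mk_pow, QuotientGroup.eq_one_iff, hXY, mem_comap, map_pow] at hsq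
        have hd := hXbodd.coprime_two_right
        have h1 : orderOf ((π h ^ m) ^ 2) ∣ Nat.card Xb := by
          refine Subgroup.orderOf_dvd_natCard Xb ?_
          rw [← pow_mul, mul_comm, pow_mul]
          exact pow_mem hsq m
        rw [orderOf_pow, hoo, Nat.gcd_eq_right (dvd_pow_self 2 (by omega)), pow_succ,
          Nat.mul_div_cancel _ two_pos] at h1
        exact Nat.prime_two.not_dvd_one ((Nat.eq_one_of_dvd_coprimes hd
          ((dvd_pow_self 2 (by omega)).trans h1) dvd_rfl).dvd)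
    · rw [← hA] at hao
      have hAeq : zpowers (h : H ⧸ (X ⊔ Y)) = A :=
        eq_of_le_of_card_ge (zpowers_le.mpr haA) (by rw [Nat.card_zpowers, hao])
      rw [← hAeq, QuotientGroup.mk_pow]
      have hm2 : (h : H ⧸ (X ⊔ Y)) ^ m = h := by
        rw [hA] at hao
        conv_rhs => rw [← pow_one (h : H ⧸ (X ⊔ Y))]
        rw [pow_eq_pow_iff_modEq, hao]
        exact Nat.odd_iff.mp (Nat.not_even_iff_odd.mp fun h => hm (even_iff_two_dvd.mp h))
      rw [hm2]
  obtain ⟨s, hs, rfl⟩ := key A hA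
  obtain ⟨u, hu, rfl⟩ := key B hB
  congr 1
  rw [QuotientGroup.eq, hXY, mem_comap]
  have := inv_mem (hFX (huniq (π s) (π u) hs hu))
  rw [mul_inv_rev, inv_inv] at this
  have h2 := hXbn.conj_mem _ this (π u)⁻¹
  rw [inv_inv, show (π u)⁻¹ * (π u * (π s)⁻¹) * π u = (π s)⁻¹ * π u by group] at h2
  rwa [map_mul, map_inv]

end CfsgLib.TwoNilpotent
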