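import Cfsg.Agent.Lib.Components.CyclicSylowSimple
import Cfsg.Agent.Lib.Core.UniqueOrderP
import Cfsg.Agent.S0201

/-!
# Quasisimple groups of `2`-rank one (Brauer–Suzuki)

* `quaternion_of_rank_le_one`, `exists_central_involution_of_rank_le_one`.
-/

set_option autoImplicit false
set_option linter.style.haveILetI false

namespace CfsgLib.Components

open Subgroup

variable {L : Type*} [Group L] [Finite L]

theorem quaternion_of_rank_le_one (hperf : commutator L = ⊤) (heven : 2 ∣ Nat.card L)
    (hrk : Cfsg.PRankLE 2 1 L) (S : Sylow 2 L) :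
    ∃ m : ℕ, Nonempty ((S : Subgroup L) ≃* QuaternionGroup (2 ^ (m + 1))) := by
  haveI : Fact (Nat.Prime 2) := ⟨Nat.prime_two⟩
  haveI : Nontrivial (S : Subgroup L) :=
    (Subgroup.nontrivial_iff_ne_bot _).mpr (S.ne_bot_of_dvd_card heven)
  obtain ⟨c, hcc, hco⟩ : ∃ c : (S : Subgroup L), c ∈ center (S : Subgroup L) ∧ orderOf c = 2 := by
    haveI := S.isPGroup'.center_nontrivial
    obtain ⟨k, hk0, hk⟩ := ((S.isPGroup'.to_subgroup
      (center (S : Subgroup L))).nontrivial_iff_card).mp inferInstance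
    obtain ⟨⟨c, hc⟩, hco⟩ := exists_prime_orderOf_dvd_card' 2
      (hk ▸ dvd_pow_self 2 hk0.ne' : 2 ∣ Nat.card (center (S : Subgroup L)))
    exact ⟨c, hc, by rwa [Subgroup.orderOf_mk] at hco⟩
  have huniq : ∀ u : (S : Subgroup L), orderOf u = 2 → u = c := by
    intro u hu
    by_contra hne
    set A : Subgroup L := closure {(u : L), (c : L)} with hA
    have hcu : (u : L) * c = c * u := congrArg Subtype.val (mem_center_iff.mp hcc u)
    have hu2 : (u : L) * u = 1 := by
      have h := congrArg Subtype.val (orderOf_dvd_iff_pow_eq_one.mp hu.dvd)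
      rwa [pow_two] at h
    have hc2 : (c : L) * c = 1 := by
      have h := congrArg Subtype.val (orderOf_dvd_iff_pow_eq_one.mp hco.dvd)
      rwa [pow_two] at h
    haveI hcomm : IsMulCommutative A := by
      refine isMulCommutative_closure ?_
      rintro a (rfl | rfl) b (rfl | rfl) <;> first | rfl | exact hcu | exact hcu.symm
    have hexp : ∀ a ∈ A, a ^ 2 = 1 := by
      intro a ha
      induction ha using Subgroup.closure_induction with
      | mem a ha =>
        rcases ha with rfl | rfl
        · rw [pow_two]; exact hu2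
        · rw [pow_two]; exact hc2
      | one => simp
      | mul a b ha hb iha ihb =>
        have h : Commute a b := congrArg Subtype.val (mul_comm' (⟨a, ha⟩ : A) ⟨b, hb⟩)
        rw [h.mul_pow, iha, ihb, one_mul]
      | inv a _ iha => rw [inv_pow, iha, inv_one]
    have hu1 : (u : L) ≠ 1 := fun h => by
      have h' : u = 1 := Subtype.ext h
      simp [h'] at hu
    have hc1 : (c : L) ≠ 1 := fun h => by
      have h' : c = 1 := Subtype.ext h
      simp [h'] at hco
    have h3 : 3 ≤ Nat.card A := by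
      classical
      haveI := Fintype.ofFinite A
      rw [Nat.card_eq_fintype_card]
      refine Fintype.two_lt_card_iff.mpr ⟨1, ⟨u, subset_closure (Or.inl rfl)⟩,
        ⟨c, subset_closure (Or.inr rfl)⟩, ?_, ?_, ?_⟩
      · exact fun h => hu1 (congrArg Subtype.val h).symm
      · exact fun h => hc1 (congrArg Subtype.val h).symm
      · exact fun h => hne (Subtype.ext (congrArg (fun a : A => (a : L)) h))
    have := hrk A hcomm hexp
    omega
  have huniq' : ∀ H K : Subgroup (S : Subgroup L), Nat.card H = 2 → Nat.card K = 2 → H = K := by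
    have key : ∀ H : Subgroup (S : Subgroup L), Nat.card H = 2 → H = zpowers c := by
      intro H hH
      obtain ⟨⟨u, hu⟩, huo⟩ := exists_prime_orderOf_dvd_card' (G := H) 2 (by rw [hH])
      rw [Subgroup.orderOf_mk] at huo
      refine (Subgroup.eq_of_le_of_card_ge ?_ ?_).symm
      · rw [zpowers_le, ← huniq u huo]; exact hu
      · rw [Nat.card_zpowers, hco, hH]
    intro H K hH hK
    rw [key H hH, key K hK]
  have hncyc : ¬ IsCyclic (S : Subgroup L) := by
    intro h
    obtain ⟨n, hn, w, hw, hwo, hnw⟩ := exists_moving hperf heven S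
    have hconj : n * w * n⁻¹ ∈ (S : Subgroup L) := (mem_normalizer_iff.1 hn w).1 hw
    have h1 := huniq ⟨_, hconj⟩ (by
      rw [Subgroup.orderOf_mk, ← MulAut.conj_apply, MulEquiv.orderOf_eq]; exact hwo)
    have h2 := huniq ⟨w, hw⟩ (by rw [Subgroup.orderOf_mk]; exact hwo)
    exact hnw (mul_inv_eq_iff_eq_mul.1 (congrArg Subtype.val (h1.trans h2.symm)))
  rcases CfsgLib.Core.UniqueOrderP.isCyclic_or_quaternion_of_unique S.isPGroup' huniq' with
    h | ⟨-, n, ⟨e⟩⟩
  · exact absurd h hncyc
  · rcases n with _ | m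
    · refine absurd ?_ hncyc
      rw [pow_zero] at e
      exact e.isCyclic.mpr (QuaternionGroup.quaternionGroup_one_isCyclic)
    · exact ⟨m, ⟨e⟩⟩

/-- Brauer–Suzuki: a quasisimple group of `2`-rank one and even order has a central involution. -/
theorem exists_central_involution_of_rank_le_one (hq : Cfsg.IsQuasisimple L)
    (heven : 2 ∣ Nat.card L) (hrk : Cfsg.PRankLE 2 1 L) :
    ∃ t : L, orderOf t = 2 ∧ t ∈ center L := by
  haveI : Fact (Nat.Prime 2) := ⟨Nat.prime_two⟩
  obtain ⟨S⟩ := Sylow.nonempty (p := 2) (G := L)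
  obtain ⟨m, ⟨e⟩⟩ := quaternion_of_rank_le_one hq.1.commutator_eq_top heven hrk S
  set O := Cfsg.pPrimeCore 2 L with hO
  have hOc : (Nat.card O).Coprime 2 := CfsgLib.Core.coprime_card_pPrimeCore 2 L
  set π := QuotientGroup.mk' O with hπ
  have hinj : Set.InjOn π (S : Subgroup L) := by
    intro a ha b hb h
    have h1 : a⁻¹ * b ∈ O := QuotientGroup.eq.mp h
    have h2 : a⁻¹ * b ∈ (S : Subgroup L) := mul_mem (inv_mem ha) hb
    obtain ⟨k, hk⟩ := IsPGroup.iff_orderOf.mp S.isPGroup' ⟨_, h2⟩
    rw [Subgroup.orderOf_mk] at hk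
    have hd : 2 ^ k ∣ Nat.card O := hk ▸ Subgroup.orderOf_dvd_natCard O h1
    have : a⁻¹ * b = 1 := by
      rw [← orderOf_eq_one_iff, hk]
      exact Nat.eq_one_of_dvd_coprimes (hOc.pow_right k) hd dvd_rfl
    exact (inv_mul_eq_one.mp this)
  set T : Sylow 2 (L ⧸ O) := S.mapSurjective (f := π) (QuotientGroup.mk'_surjective O) with hT
  have eT : (S : Subgroup L) ≃* (T : Subgroup (L ⧸ O)) := by
    rw [hT, Sylow.coe_mapSurjective]
    exact MulEquiv.ofBijective (π.subgroupMap (S : Subgroup L))
      ⟨fun a b h => Subtype.ext (hinj a.2 b.2 (congrArg Subtype.val h)),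
        π.subgroupMap_surjective _⟩
  have hcard := Cfsg.Agent.S0201.result T m (eT.symm.trans e) (fun N hN hodd => by
    have hle : N.comap π ≤ O := by
      refine le_sSup ⟨inferInstance, ?_⟩
      rw [Nat.coprime_comm, Nat.prime_two.coprime_iff_not_dvd]
      intro h2
      obtain ⟨⟨y, hy⟩, hyo⟩ := exists_prime_orderOf_dvd_card' 2 h2
      rw [Subgroup.orderOf_mk] at hyo
      have hy1 : π y = 1 := by
        rw [← orderOf_eq_one_iff]
        refine Nat.eq_one_of_dvd_coprimes ((Nat.coprime_comm).mp hodd.coprime_two_right)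
          (by simpa [hyo] using orderOf_map_dvd π y) (Subgroup.orderOf_dvd_natCard N hy)
      have hyO : y ∈ O := (QuotientGroup.eq_one_iff y).mp hy1
      have := Subgroup.orderOf_dvd_natCard O hyO
      rw [hyo] at this
      exact Nat.prime_two.not_dvd_one (Nat.eq_one_of_dvd_coprimes hOc this dvd_rfl).dvd
    rw [← Subgroup.map_comap_eq_self_of_surjective (QuotientGroup.mk'_surjective O) N,
      Subgroup.map_eq_bot_iff, QuotientGroup.ker_mk']
    exact hle)
  set M := (center (L ⧸ O)).comap π with hM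
  have hne : M ≠ ⊤ := by
    intro h
    have h1 : center (L ⧸ O) = ⊤ := by
      rw [← Subgroup.map_comap_eq_self_of_surjective (QuotientGroup.mk'_surjective O) (center _),
        ← hπ, ← hM, h, ← MonoidHom.range_eq_map,
        MonoidHom.range_eq_top.mpr (QuotientGroup.mk'_surjective O)]
    rw [h1, Subgroup.card_top] at hcard
    have h2 : Nat.card (T : Subgroup (L ⧸ O)) ∣ 2 :=
      (Subgroup.card_subgroup_dvd_card (T : Subgroup (L ⧸ O))).trans hcard.dvd
    rw [Nat.card_congr (eT.symm.trans e).toEquiv, Nat.card_eq_fintype_card,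
      QuaternionGroup.card] at h2
    have h4 := Nat.le_of_dvd (by norm_num) h2
    have : 0 < 2 ^ (m + 1) := pow_pos two_pos _
    omega
  have hMc : M ≤ center L := IsQuasisimple.le_center_of_ne_top hq (Subgroup.Normal.comap inferInstance π) hne
  have h2M : 2 ∣ Nat.card M := by
    refine dvd_trans ?_ (Subgroup.card_map_dvd M π)
    rw [hM, Subgroup.map_comap_eq_self_of_surjective (QuotientGroup.mk'_surjective O), hcard]
  obtain ⟨⟨t, ht⟩, hto⟩ := exists_prime_orderOf_dvd_card' 2 h2M
  rw [Subgroup.orderOf_mk] at hto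
  exact ⟨t, hto, hMc ht⟩

end CfsgLib.Components
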