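import Cfsg.Agent.Lib.Transfer.ThompsonTransfer
import Mathlib.GroupTheory.SpecificGroups.Dihedral
import Mathlib.Data.Fintype.Pi

/-!
# No simple group has Sylow `2`-subgroup `Z₂ × D₈` (S3309)
-/

set_option autoImplicit false
set_option linter.style.haveILetI false

namespace CfsgLib.TwoTimesD8

open Subgroup

/-- The group `Z₂ × D₈`. -/
abbrev K := Multiplicative (ZMod 2) × DihedralGroup 4

/-- the square `z` -/
abbrev z : K := (1, DihedralGroup.r 2)
/-- a central non-square `c` -/
abbrev c : K := (Multiplicative.ofAdd 1, DihedralGroup.r 0)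
/-- the noncentral involutions `b` (`i = 0, 1`) up to conjugation -/
abbrev rep (u : ZMod 2) (i : ZMod 4) : K := (Multiplicative.ofAdd u, DihedralGroup.sr i)

instance : DecidableEq (Multiplicative (ZMod 2)) := inferInstanceAs (DecidableEq (ZMod 2))

/-- The linear functions cutting out the four maximal subgroups not containing `c`. -/
def chi (α β : ZMod 2) : K → ZMod 2 := fun k =>
  Multiplicative.toAdd k.1 + match k.2 with
    | .r i => α * (i.val : ZMod 2)
    | .sr i => α * (i.val : ZMod 2) + β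

theorem chi_mul : ∀ α β : ZMod 2, ∀ x y : K, chi α β (x * y) = chi α β x + chi α β y := by
  decide

/-- The maximal subgroup `ker (chi α β)`. -/
def maxSub (α β : ZMod 2) : Subgroup K where
  carrier := {k | chi α β k = 0}
  one_mem' := by revert α β; decide
  mul_mem' {x y} hx hy := by
    simp only [Set.mem_setOf_eq] at *
    rw [chi_mul, hx, hy, add_zero]
  inv_mem' {x} hx := by
    simp only [Set.mem_setOf_eq] at *
    rwa [(by decide : ∀ α β : ZMod 2, ∀ x : K, chi α β x⁻¹ = chi α β x) α β x]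

set_option synthInstance.maxSize 1024 in
/-- Covering forces every class representative to get a label. -/
theorem label_total : ∀ p q : ZMod 2 → ZMod 2 → Bool,
    (∀ α β : ZMod 2, ∃ u i : ZMod 2, chi α β (rep u (i.val : ZMod 4)) = 0 ∧ p u i = true) →
    (∀ α β : ZMod 2, ∃ u i : ZMod 2, chi α β (rep u (i.val : ZMod 4)) = 0 ∧ q u i = true) →
    (∀ u i, (p u i && q u i) = false) → ∀ u i, (p u i || q u i) = true := by decide

theorem c_not_mem : ∀ α β : ZMod 2, chi α β c = 1 ∧ chi α β (c * z) = 1 := by decide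

variable {G : Type*} [Group G] [Finite G]

/-- Main argument in terms of an embedding of `Z₂ × D₈` as a Sylow subgroup. -/
theorem false_of_simple [IsSimpleGroup G] (hG : ¬ IsMulCommutative G) (S : Sylow 2 G)
    (e : ↥(S : Subgroup G) ≃* K) : False := by
  haveI : Fact (Nat.Prime 2) := ⟨Nat.prime_two⟩
  set f : K →* G := (S : Subgroup G).subtype.comp e.symm.toMonoidHom with hf
  have finj : Function.Injective f := (S : Subgroup G).subtype_injective.comp e.symm.injective
  have fmem : ∀ k, f k ∈ (S : Subgroup G) := fun k => (e.symm k).2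
  have fsurj : ∀ g ∈ (S : Subgroup G), ∃ k, f k = g := fun g hg => ⟨e ⟨g, hg⟩, by simp [hf]⟩
  have hcm : ∀ k l : K, k * l = l * k → Commute (f k) (f l) := fun k l h => by
    show f k * f l = f l * f k
    rw [← map_mul, h, map_mul]
  -- conjugation inside `S`
  have hin : ∀ k l : K, IsConj k l → IsConj (f k) (f l) := fun k l h => f.map_isConj h
  have hzc : ∀ k : K, Commute z k ∧ Commute c k := by
    intro k
    exact ⟨(by decide : ∀ k : K, z * k = k * z) k, (by decide : ∀ k : K, c * k = k * c) k⟩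
  -- central involutions are not fused
  have hcentral : ∀ k l : K, (∀ y, k * y = y * k) → (∀ y, l * y = y * l) →
      IsConj (f k) (f l) → k = l := by
    intro k l hk hl hkl
    obtain ⟨g, hg⟩ := isConj_iff.mp hkl
    have hC : ∀ k : K, (∀ y, k * y = y * k) → f k ∈ centralizer ((S : Subgroup G) : Set G) := by
      intro k hk
      refine mem_centralizer_iff.mpr fun s hs => ?_
      obtain ⟨y, rfl⟩ := fsurj s hs
      exact (hcm y k (hk y).symm).eq
    obtain ⟨n, hn, hnk⟩ := Sylow.conj_eq_normalizer_conj_of_mem_centralizer S (f k) g⁻¹ (hC k hk)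
      (by rw [inv_inv, hg]; exact hC l hl)
    rw [inv_inv, hg] at hnk
    -- `hnk : f l = n⁻¹ * f k * n`
    obtain ⟨a, m, hm, hord⟩ :=
      Nat.exists_eq_pow_mul_and_not_dvd (orderOf_pos n⁻¹).ne' 2 (by norm_num)
    have hnS : n⁻¹ ^ m ∈ (S : Subgroup G) := by
      have hu : IsPGroup 2 (zpowers (n⁻¹ ^ m)) := by
        rw [IsPGroup.iff_card, Nat.card_zpowers]
        have hdvd : orderOf (n⁻¹ ^ m) ∣ 2 ^ a :=
          orderOf_dvd_of_pow_eq_one (by rw [← pow_mul, mul_comm, ← hord, pow_orderOf_eq_one])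
        obtain ⟨j, -, hj⟩ := (Nat.dvd_prime_pow Nat.prime_two).mp hdvd
        exact ⟨j, hj⟩
      have : n⁻¹ ^ m ∈ zpowers (n⁻¹ ^ m) ⊓ (S : Subgroup G) := by
        rw [← IsPGroup.inf_normalizer_sylow hu S]
        exact ⟨mem_zpowers _, pow_mem (inv_mem hn) _⟩
      exact this.2
    -- the action of `n⁻¹` on `K`
    have hψ : ∀ y : K, ∃ y', n⁻¹ * f y * n = f y' := fun y => by
      obtain ⟨y', hy'⟩ := fsurj (n⁻¹ * f y * n) (by
        have := (mem_normalizer_iff.1 (inv_mem hn) (f y)).1 (fmem y)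
        rwa [inv_inv] at this)
      exact ⟨y', hy'.symm⟩
    choose ψ hψ using hψ
    have hψmul : ∀ x y, ψ (x * y) = ψ x * ψ y := fun x y => finj (by
      rw [map_mul, ← hψ, ← hψ, ← hψ, map_mul]; group)
    have hψz : ψ z = z := by
      have h : ψ z = ψ (DihedralGroup.r 1 |> fun d => ((1 : Multiplicative (ZMod 2)), d)) *
          ψ ((1 : Multiplicative (ZMod 2)), DihedralGroup.r 1) := by
        rw [← hψmul]; rfl
      have hne : ψ z ≠ 1 := by
        intro h1
        have := hψ z
        rw [h1, map_one, mul_eq_one_iff_eq_inv, mul_eq_left] at this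
        exact absurd (finj (this.trans f.map_one.symm)) (by decide)
      exact h.trans ((by decide : ∀ w : K, w * w ≠ 1 → w * w = z) _ (h ▸ hne))
    have hψl : ψ k = l := finj (by rw [← hψ, ← hnk])
    have hiter : ∀ i : ℕ, f (ψ^[i] k) = n⁻¹ ^ i * f k * (n⁻¹ ^ i)⁻¹ := by
      intro i
      induction i with
      | zero => simp
      | succ i ih =>
        rw [Function.iterate_succ_apply', ← hψ, ih, pow_succ']
        group
    have hfix : ψ^[m] k = k := finj (by
      rw [hiter]
      obtain ⟨y, hy⟩ := fsurj _ hnS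
      rw [← hy, (hcm y k (hk y).symm).eq, mul_inv_cancel_right])
    have h2 : ∀ l : K, (∀ y, l * y = y * l) → ψ (ψ l) = l := by
      intro l hl
      have hc4 : l = 1 ∨ l = z ∨ l = c ∨ l = c * z :=
        (by decide : ∀ l : K, (∀ y, l * y = y * l) → l = 1 ∨ l = z ∨ l = c ∨ l = c * z) l hl
      have hψ1 : ψ 1 = 1 := by
        have h := hψmul 1 1
        rw [one_mul] at h
        exact left_eq_mul.mp h
      have hψc : ψ c = c ∨ ψ c = c * z := by
        have hcen : ∀ y, ψ c * y = y * ψ c := by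
          intro y
          obtain ⟨x, hx⟩ := fsurj (n * f y * n⁻¹) ((mem_normalizer_iff.1 hn (f y)).1 (fmem y))
          have hxy : ψ x = y := finj (by rw [← hψ, hx]; group)
          rw [← hxy, ← hψmul, ← hψmul, (hzc x).2.eq]
        rcases (by decide : ∀ l : K, (∀ y, l * y = y * l) → l = 1 ∨ l = z ∨ l = c ∨ l = c * z) _ hcen
          with h | h | h | h
        · have := finj (show f c = f 1 by
            have h' := hψ c
            rw [h, map_one, mul_eq_one_iff_eq_inv, mul_eq_left] at h'
            rw [h', map_one])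
          exact absurd this (by decide)
        · have := finj (show f c = f z by
            have h' := (hψ c).trans (by rw [h, ← hψz, ← hψ z])
            exact mul_left_cancel (mul_right_cancel h'))
          exact absurd this (by decide)
        · exact Or.inl h
        · exact Or.inr h
      have hcc : ψ (ψ c) = c := by
        rcases hψc with h | h
        · rw [h, h]
        · rw [h, hψmul, hψz, h, mul_assoc, show z * z = (1 : K) by decide, mul_one]
      rcases hc4 with rfl | rfl | rfl | rfl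
      · rw [hψ1, hψ1]
      · rw [hψz, hψz]
      · exact hcc
      · rw [hψmul, hψmul, hcc, hψz, hψz]
    obtain ⟨j, rfl⟩ : ∃ j, m = 2 * j + 1 := ⟨m / 2, by omega⟩
    have hev : ∀ j : ℕ, ψ^[2 * j] k = k := by
      intro j
      induction j with
      | zero => rfl
      | succ j ih =>
        rw [show 2 * (j + 1) = 2 + 2 * j by ring, Function.iterate_add_apply, ih]
        exact h2 k hk
    rw [Function.iterate_succ_apply', hev, hψl] at hfix
    exact hfix.symm
  -- Thompson transfer
  have hMindex : ∀ α β, ((maxSub α β).map f).relIndex (S : Subgroup G) = 2 := by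
    intro α β
    have hS : (S : Subgroup G) = (⊤ : Subgroup K).map f := by
      refine le_antisymm (fun g hg => ?_) (map_le_iff_le_comap.mpr fun k _ => fmem k)
      obtain ⟨k, rfl⟩ := fsurj g hg
      exact mem_map_of_mem f (mem_top k)
    rw [hS, relIndex_map_map_of_injective _ _ finj, relIndex_top_right]
    refine Subgroup.index_eq_two_iff.mpr ⟨c, fun y => ?_⟩
    show (chi α β (y * c) = 0 ∧ ¬ chi α β y = 0) ∨ (chi α β y = 0 ∧ ¬ chi α β (y * c) = 0)
    rw [chi_mul, (c_not_mem α β).1]
    exact (by decide : ∀ u : ZMod 2, (u + 1 = 0 ∧ ¬ u = 0) ∨ (u = 0 ∧ ¬ u + 1 = 0)) _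
  have hno : ∀ M : Subgroup G, M.Normal → M.index = 2 → False := by
    intro M hM hi
    rcases IsSimpleGroup.eq_bot_or_eq_top_of_normal M hM with rfl | rfl
    · rw [index_bot] at hi
      haveI := isCyclic_of_prime_card hi
      exact hG ⟨⟨fun a b => mul_comm' a b⟩⟩
    · rw [index_top] at hi; omega
  have hinv : ∀ y : K, y * y = 1 → y = 1 ∨ y = z ∨ y = c ∨ y = c * z ∨
      ∃ u i, y = rep u i := by decide
  have hrep : ∀ u i, IsConj (rep u i) (rep u (i + 2)) := by
    intro u i
    refine isConj_iff.mpr ((by decide : ∀ u i, ∃ g : K, g * rep u i * g⁻¹ = rep u (i + 2)) u i)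
  have hcover : ∀ k : K, k * k = 1 → k ≠ 1 → (∀ α β, chi α β k = 1) → ∀ α β : ZMod 2,
      (∀ y, k * y = y * k) →
      IsConj (f k) (f z) ∨ ∃ u i, chi α β (rep u i) = 0 ∧ IsConj (f k) (f (rep u i)) := by
    intro k hk hk1 hchi α β hkc
    have ho : orderOf (f k) = 2 := orderOf_eq_prime (by rw [pow_two, ← map_mul, hk, map_one])
      (fun h => hk1 (finj (h.trans f.map_one.symm)))
    rcases CfsgLib.Transfer.thompson_transfer S _ (hMindex α β) ho with ⟨M, hM, hi, -⟩ | ⟨g, y, hy, hgy⟩
    · exact (hno M hM hi).elim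
    have hy' : chi α β y = 0 := hy
    have hconj : IsConj (f k) (f y) := isConj_iff.mpr ⟨g, hgy.symm⟩
    have hy2 : y * y = 1 := finj (by
      rw [map_mul, map_one, hgy, show g * f k * g⁻¹ * (g * f k * g⁻¹) = g * (f k * f k) * g⁻¹ by group,
        ← map_mul, hk, map_one, mul_one, mul_inv_cancel])
    rcases hinv y hy2 with rfl | rfl | rfl | rfl | ⟨u, i, rfl⟩
    · rw [map_one, isConj_one_left] at hconj
      exact absurd (finj (hconj.trans f.map_one.symm)) hk1
    · exact Or.inl hconj
    · rw [(c_not_mem α β).1] at hy'; exact absurd hy' (by decide)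
    · rw [(c_not_mem α β).2] at hy'; exact absurd hy' (by decide)
    · exact Or.inr ⟨u, i, hy', hconj⟩
  -- classes
  set P : ZMod 2 → ZMod 4 → Prop := fun u i => IsConj (f c) (f (rep u i)) with hP
  set Q : ZMod 2 → ZMod 4 → Prop := fun u i => IsConj (f (c * z)) (f (rep u i)) with hQ
  have hshift : ∀ k : K, ∀ u i, IsConj (f k) (f (rep u i)) → IsConj (f k) (f (rep u (i + 2))) :=
    fun k u i h => h.trans (hin _ _ (hrep u i))
  have hnz : ∀ k : K, (∀ y, k * y = y * k) → k ≠ z → ¬ IsConj (f k) (f z) :=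
    fun k hk hne h => hne (hcentral k z hk (fun y => (hzc y).1.eq) h)
  have hcQ : ∀ y, (c * z) * y = y * (c * z) := by decide
  have hcP : ∀ y, c * y = y * c := fun y => (hzc y).2.eq
  have hcov : ∀ k : K, k * k = 1 → k ≠ 1 → (∀ α β, chi α β k = 1) → (∀ y, k * y = y * k) → k ≠ z →
      ∀ α β : ZMod 2, ∃ u : ZMod 2, ∃ i : ZMod 2, chi α β (rep u (i.val : ZMod 4)) = 0 ∧
        IsConj (f k) (f (rep u (i.val : ZMod 4))) := by
    intro k h1 h2 h3 h4 h5 α β
    rcases hcover k h1 h2 h3 α β h4 with h | ⟨u, i, hi, h⟩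
    · exact absurd h (hnz k h4 h5)
    · rcases (by decide : ∀ i : ZMod 4, i = 0 ∨ i = 1 ∨ i = 2 ∨ i = 3) i with rfl | rfl | rfl | rfl
      · exact ⟨u, 0, hi, h⟩
      · exact ⟨u, 1, hi, h⟩
      · exact ⟨u, 0, ((by decide : ∀ α β u : ZMod 2,
          chi α β (rep u 2) = 0 → chi α β (rep u 0) = 0) α β u hi), hshift k u 2 h⟩
      · exact ⟨u, 1, ((by decide : ∀ α β u : ZMod 2,
          chi α β (rep u 3) = 0 → chi α β (rep u 1) = 0) α β u hi), hshift k u 3 h⟩
  have covP := hcov c (by decide) (by decide) (fun α β => (c_not_mem α β).1) hcP (by decide)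
  have covQ := hcov (c * z) (by decide) (by decide) (fun α β => (c_not_mem α β).2) hcQ (by decide)
  have hexcl : ∀ y : K, IsConj (f c) (f y) → IsConj (f (c * z)) (f y) → False := fun y h h' =>
    absurd (hcentral c (c * z) hcP hcQ (h.trans h'.symm)) (by decide)
  -- every representative is conjugate to `c` or to `c z`
  classical
  have hall : ∀ u : ZMod 2, ∀ i : ZMod 2, P u (i.val : ZMod 4) ∨ Q u (i.val : ZMod 4) := by
    intro u i
    have := label_total (fun u i => decide (P u (i.val : ZMod 4))) (fun u i => decide (Q u (i.val : ZMod 4)))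
      (fun α β => by
        obtain ⟨u, i, h1, h2⟩ := covP α β
        exact ⟨u, i, h1, decide_eq_true h2⟩)
      (fun α β => by
        obtain ⟨u, i, h1, h2⟩ := covQ α β
        exact ⟨u, i, h1, decide_eq_true h2⟩)
      (fun u i => by
        by_contra hb
        rw [Bool.not_eq_false, Bool.and_eq_true, decide_eq_true_iff, decide_eq_true_iff] at hb
        exact hexcl _ hb.1 hb.2) u i
    simpa using this
  have hzfix : ∀ y : K, IsConj (f z) (f y) → y = z := by
    intro y hy
    obtain ⟨g, hg⟩ := isConj_iff.mp hy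
    have hy2 : y * y = 1 := finj (by
      rw [map_mul, map_one, ← hg, show g * f z * g⁻¹ * (g * f z * g⁻¹) = g * (f z * f z) * g⁻¹ by group,
        ← map_mul, show z * z = (1 : K) by decide, map_one, mul_one, mul_inv_cancel])
    rcases hinv y hy2 with rfl | rfl | rfl | rfl | ⟨u, i, rfl⟩
    · rw [map_one, isConj_one_left] at hy
      exact absurd (finj (hy.trans f.map_one.symm)) (by decide)
    · rfl
    · exact (hcentral z c (fun y => (hzc y).1.eq) hcP hy).symm
    · exact (hcentral z (c * z) (fun y => (hzc y).1.eq) hcQ hy).symm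
    · exfalso
      have h' : ∃ j : ZMod 2, IsConj (f z) (f (rep u (j.val : ZMod 4))) := by
        rcases (by decide : ∀ i : ZMod 4, i = 0 ∨ i = 1 ∨ i = 2 ∨ i = 3) i with rfl | rfl | rfl | rfl
        exacts [⟨0, hy⟩, ⟨1, hy⟩, ⟨0, hshift z u 2 hy⟩, ⟨1, hshift z u 3 hy⟩]
      obtain ⟨j, hj⟩ := h'
      rcases hall u j with h | h
      · exact absurd (hcentral c z hcP (fun y => (hzc y).1.eq) (h.trans hj.symm)) (by decide)
      · exact absurd (hcentral (c * z) z hcQ (fun y => (hzc y).1.eq) (h.trans hj.symm)) (by decide)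
  -- a noncentral involution `w` conjugate to `c`
  obtain ⟨u, i, -, hw⟩ := covP 0 0
  set w : K := rep u (i.val : ZMod 4)
  obtain ⟨g, hg⟩ := isConj_iff.mp hw.symm
  set C := centralizer ({f c} : Set G) with hC
  have hSC : (S : Subgroup G) ≤ C := fun s hs => by
    obtain ⟨y, rfl⟩ := fsurj s hs
    exact mem_centralizer_singleton_iff.mpr (hcm y c (hcP y).symm).eq
  set E := closure ({f c, f z} : Set G) with hE
  have hEw : ∀ y ∈ E, Commute y (f w) := by
    intro y hy
    refine mem_centralizer_singleton_iff.mp ((closure_le _).mpr ?_ hy : y ∈ centralizer ({f w} : Set G))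
    rintro y (rfl | rfl)
    · exact mem_centralizer_singleton_iff.mpr (hcm c w (hcP w)).eq
    · exact mem_centralizer_singleton_iff.mpr (hcm z w (hzc w).1.eq).eq
  have hES : E ≤ (S : Subgroup G) := by
    rw [hE, closure_le]
    rintro y (rfl | rfl) <;> exact fmem _
  set E' := E.map (MulAut.conj g).toMonoidHom with hE'
  have hEC : E' ≤ C := by
    rintro _ ⟨y, hy, rfl⟩
    refine mem_centralizer_singleton_iff.mpr ?_
    have h := (hEw y hy).map (MulAut.conj g).toMonoidHom
    simp only [MulEquiv.coe_toMonoidHom, MulAut.conj_apply] at h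
    rw [hg] at h
    exact h.eq
  obtain ⟨R, hR⟩ := ((S.isPGroup'.to_le hES).map (MulAut.conj g).toMonoidHom |>.of_equiv
    (subgroupOfEquivOfLe hEC).symm).exists_le_sylow
  obtain ⟨h, hh⟩ := MulAction.exists_smul_eq C R (S.subtype hSC)
  set x : G := (h : G) * g with hx
  have hxc : x * f w * x⁻¹ = f c := by
    rw [hx, show (h : G) * g * f w * ((h : G) * g)⁻¹ = h * (g * f w * g⁻¹) * (h : G)⁻¹ by group, hg]
    rw [mem_centralizer_singleton_iff.mp h.2, mul_inv_cancel_right]
  have hxS : ∀ y ∈ E, x * y * x⁻¹ ∈ (S : Subgroup G) := by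
    intro y hy
    have h1 : (⟨g * y * g⁻¹, hEC ⟨y, hy, rfl⟩⟩ : C) ∈ (R : Subgroup C) :=
      hR (show (⟨g * y * g⁻¹, hEC ⟨y, hy, rfl⟩⟩ : C) ∈ E'.subgroupOf C from ⟨y, hy, rfl⟩)
    have h2 : (h * ⟨g * y * g⁻¹, hEC ⟨y, hy, rfl⟩⟩ * h⁻¹ : C) ∈
        ((S.subtype hSC : Sylow 2 C) : Subgroup C) := by
      rw [← hh, Sylow.coe_subgroup_smul]
      exact ⟨_, h1, rfl⟩
    rw [Sylow.coe_subtype, mem_subgroupOf] at h2
    push_cast at h2
    rw [hx]
    rwa [show (h : G) * g * y * ((h : G) * g)⁻¹ = h * (g * y * g⁻¹) * (h : G)⁻¹ by group]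
  have hcE : f c ∈ E := subset_closure (Or.inl rfl)
  have hzE : f z ∈ E := subset_closure (Or.inr rfl)
  obtain ⟨c', hc'⟩ := fsurj _ (hxS _ hcE)
  obtain ⟨z', hz'⟩ := fsurj _ (hxS _ hzE)
  have hz'' : z' = z := hzfix z' (isConj_iff.mpr ⟨x, hz'.symm⟩)
  subst hz''
  have hc'conj : IsConj (f c) (f c') := isConj_iff.mpr ⟨x, hc'.symm⟩
  have hc'ne : c' ≠ c := by
    intro he
    rw [he] at hc'
    have : f w = f c := mul_left_cancel (mul_right_cancel (hxc.trans hc'))
    exact absurd (finj this) ((by decide : ∀ u i : ZMod 2, rep u (i.val : ZMod 4) ≠ c) u i)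
  have hcz' : IsConj (f (c * z)) (f (c' * z)) := by
    refine isConj_iff.mpr ⟨x, ?_⟩
    rw [map_mul, map_mul, hc']
    conv_rhs => rw [hz']
    group
  have hsame : IsConj (f c') (f (c' * z)) := by
    refine hin _ _ (isConj_iff.mpr ?_)
    have h0 : c' * c' = 1 := finj (by
      rw [map_mul, map_one, hc', show x * f c * x⁻¹ * (x * f c * x⁻¹) = x * (f c * f c) * x⁻¹ by group,
        ← map_mul, show c * c = (1 : K) by decide, map_one, mul_one, mul_inv_cancel])
    refine (by decide : ∀ y : K, y * y = 1 → ¬ (∀ v, y * v = v * y) →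
      ∃ v : K, v * y * v⁻¹ = y * z) c' h0 fun hcen => hc'ne ?_
    exact (hcentral c c' hcP hcen hc'conj).symm
  exact absurd (hcentral c (c * z) hcP hcQ ((hc'conj.trans hsame).trans hcz'.symm)) (by decide)

end CfsgLib.TwoTimesD8
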