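import Cfsg.Agent.Lib.Components.PComponentOf

/-!
# Groups with one component

* `gFitting_eq_component`: if `F(G) = 1` and `J` is the only component then `F*(G) = J` is simple.
-/

set_option autoImplicit false
set_option linter.style.haveILetI false

namespace CfsgLib.Components

open Subgroup
open scoped commutatorElement Pointwise

variable {G : Type*} [Group G] [Finite G]

theorem component_center_eq_bot (hF : Cfsg.fittingSubgroup G = ⊥) {J : Subgroup G}
    (hJ : Cfsg.IsComponent J) : Subgroup.center J = ⊥ := by
  refine (Subgroup.map_eq_bot_iff_of_injective _ J.subtype_injective).mp (le_bot_iff.mp (hF ▸ ?_))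
  refine subnormal_nilpotent_le_fitting ((inferInstance : (Subgroup.center J).Normal).isSubnormal.trans' hJ.1) ?_
  haveI : Group.IsNilpotent (Subgroup.center J) := Subgroup.nilpotent_iff_lowerCentralSeries.mpr ⟨1, by
    rw [Subgroup.lowerCentralSeries_succ, Subgroup.lowerCentralSeries_zero,
      Subgroup.commutator_eq_bot_iff_le_centralizer]
    exact fun a _ => Subgroup.mem_centralizer_iff.mpr fun b _ => mul_comm' b a⟩
  exact Group.nilpotent_of_mulEquiv (Subgroup.equivMapOfInjective _ J.subtype J.subtype_injective)

theorem isSimpleGroup_of_quasisimple {L : Type*} [Group L] (hq : Cfsg.IsQuasisimple L)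
    (hZ : Subgroup.center L = ⊥) : IsSimpleGroup L := by
  haveI := IsQuasisimple.nontrivial hq
  exact ⟨fun N hN => (IsQuasisimple.normal_le_center_or_eq_top hq hN).imp
    (fun h => le_bot_iff.mp (hZ ▸ h)) id⟩

/-- A single component with trivial Fitting subgroup. -/
theorem gFitting_eq_component (hF : Cfsg.fittingSubgroup G = ⊥) {J : Subgroup G}
    (hJ : Cfsg.IsComponent J) (huniq : ∀ L : Subgroup G, Cfsg.IsComponent L → L = J) :
    Cfsg.generalizedFittingSubgroup G = J ∧ IsSimpleGroup J ∧ ¬ IsMulCommutative J := by
  refine ⟨le_antisymm ?_ (component_le_gFitting hJ),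
    isSimpleGroup_of_quasisimple hJ.2 (component_center_eq_bot hF hJ),
    IsQuasisimple.not_isMulCommutative hJ.2⟩
  rw [Cfsg.generalizedFittingSubgroup, hF, sup_bot_eq]
  exact layer_le_iff.mpr fun L hL => (huniq L hL).le

end CfsgLib.Components
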